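/-
Groups of sectional 2-rank four with a section `L₃(2)`: sections, the group of order 168 and its natural module.
-/
import Mathlib
import Cfsg.Prelude.Def_CaseTheorems
import Cfsg.Agent.Lib.CentralPairRank

set_option autoImplicit false

namespace CfsgLib.SectL32

open scoped commutatorElement

/-! ### Sections -/

/-- A finite section generated by commuting involutions has order at most sixteen. -/
theorem sect_le {X Y : Type*} [Group X] [Finite X] [Group Y] [Finite Y] (hr : Cfsg.SectionalPRankLE 2 4 X)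
    (π : X →* Y) (hπ : Function.Surjective π) (S : Set Y) (W : Subgroup Y) (hW : W ≤ Subgroup.closure S)
    (hn : ∀ s ∈ S, ∀ w ∈ W, s * w * s⁻¹ ∈ W) (hsq : ∀ s ∈ S, s * s ∈ W)
    (hc : ∀ s ∈ S, ∀ t ∈ S, ⁅s, t⁆ ∈ W) :
    Nat.card (Subgroup.closure S) ≤ 16 * Nat.card W := by
  classical
  set H := Subgroup.closure S with hH
  have hnorm : ∀ h ∈ H, ∀ w ∈ W, h * w * h⁻¹ ∈ W := by
    intro h hh
    induction hh using Subgroup.closure_induction_left with
    | one => intro w hw; simpa using hw
    | mul_left x hx y hy ih =>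
      intro w hw
      have := hn x hx _ (ih w hw)
      simpa [mul_assoc] using this
    | inv_mul_cancel x hx y hy ih =>
      intro w hw
      have h1 : x⁻¹ = x * (x * x)⁻¹ := by group
      have := hn x hx _ (mul_mem (mul_mem (inv_mem (hsq x hx)) (ih w hw)) (hsq x hx))
      rw [h1]
      simpa [mul_assoc] using this
  let W' : Subgroup H := W.subgroupOf H
  haveI : W'.Normal := ⟨fun w hw h => hnorm h h.2 w hw⟩
  let q : H →* H ⧸ W' := QuotientGroup.mk' W'
  have hgen : Subgroup.closure (q '' (((↑) : H → Y) ⁻¹' S)) = ⊤ := by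
    have h0 : Subgroup.closure (((↑) : H → Y) ⁻¹' S) = ⊤ := Subgroup.closure_closure_coe_preimage
    rw [← MonoidHom.map_closure, h0, Subgroup.map_top_of_surjective _ (QuotientGroup.mk'_surjective _)]
  have hcom : ∀ a b : H ⧸ W', a * b = b * a := by
    have h1 : ∀ a ∈ q '' (((↑) : H → Y) ⁻¹' S), ∀ b ∈ q '' (((↑) : H → Y) ⁻¹' S), a * b = b * a := by
      rintro _ ⟨s, hs, rfl⟩ _ ⟨t, ht, rfl⟩
      rw [← commutatorElement_eq_one_iff_mul_comm, ← map_commutatorElement]
      exact (QuotientGroup.eq_one_iff _).mpr (hc _ hs _ ht)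
    have h2 : (⊤ : Subgroup (H ⧸ W')) ≤ Subgroup.centralizer (q '' (((↑) : H → Y) ⁻¹' S)) := by
      rw [← hgen, Subgroup.closure_le]
      exact fun a ha b hb => h1 b hb a ha
    intro a b
    have h3 : (⊤ : Subgroup (H ⧸ W')) ≤ Subgroup.centralizer {a} := by
      rw [← hgen, Subgroup.closure_le]
      intro s hs
      exact Subgroup.mem_centralizer_singleton_iff.mpr (h2 (Subgroup.mem_top a) s hs)
    exact (Subgroup.mem_centralizer_singleton_iff.mp (h3 (Subgroup.mem_top b))).symm
  have hexp : ∀ e : H ⧸ W', e ^ 2 = 1 := by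
    intro e
    have he : e ∈ Subgroup.closure (q '' (((↑) : H → Y) ⁻¹' S)) := hgen.ge (Subgroup.mem_top e)
    induction he using Subgroup.closure_induction with
    | mem x hx =>
      obtain ⟨s, hs, rfl⟩ := hx
      rw [← map_pow]
      exact (QuotientGroup.eq_one_iff _).mpr (by
        show ((s : Y) ^ 2) ∈ W
        rw [sq]; exact hsq _ hs)
    | one => exact one_pow 2
    | mul x y _ _ hx hy => rw [(show Commute x y from hcom x y).mul_pow, hx, hy, one_mul]
    | inv x _ hx => rw [inv_pow, hx, inv_one]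
  have hb := CentralPair.sect_bound (S := X) hr (H.comap π).subtype (Subgroup.subtype_injective _)
    (q.comp (π.subgroupComap H)) ((QuotientGroup.mk'_surjective W').comp (MonoidHom.subgroupComap_surjective_of_surjective π H hπ))
    hexp
  calc Nat.card H = Nat.card (H ⧸ W') * Nat.card W' := Subgroup.card_eq_card_quotient_mul_card_subgroup W'
    _ = Nat.card (H ⧸ W') * Nat.card W := by rw [Nat.card_congr (Subgroup.subgroupOfEquivOfLe hW).toEquiv]
    _ ≤ _ := Nat.mul_le_mul_right _ hb

/-- A subgroup has at least `|B| · |ι|` elements. -/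
theorem card_join {Y T : Type*} [Group Y] [Finite Y] [Group T] (φ : Y →* T) (B H : Subgroup Y) (hBH : B ≤ H)
    (hB : B ≤ φ.ker) {ι : Type*} [Finite ι] (f : ι → Y) (hf : ∀ i, f i ∈ H) (hi : Function.Injective (φ ∘ f)) :
    Nat.card B * Nat.card ι ≤ Nat.card H := by
  rw [← Nat.card_prod]
  refine Nat.card_le_card_of_injective (fun p : B × ι => (⟨p.1 * f p.2, mul_mem (hBH p.1.2) (hf p.2)⟩ : H)) ?_
  rintro ⟨b, i⟩ ⟨b', i'⟩ e
  have e' : (b : Y) * f i = b' * f i' := congrArg Subtype.val e
  have h : i = i' := by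
    apply hi
    have := congrArg φ e'
    rw [map_mul, map_mul, MonoidHom.mem_ker.mp (hB b.2), MonoidHom.mem_ker.mp (hB b'.2), one_mul, one_mul] at this
    exact this
  subst h
  exact Prod.ext (Subtype.ext (mul_right_cancel e')) rfl

/-- An elementary abelian subgroup of a quotient has order at most sixteen. -/
theorem elem_le {X Y : Type*} [Group X] [Finite X] [Group Y] [Finite Y] (hr : Cfsg.SectionalPRankLE 2 4 X)
    (π : X →* Y) (hπ : Function.Surjective π) (B : Subgroup Y) (hB : ∀ b ∈ B, b * b = 1) : Nat.card B ≤ 16 := by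
  have hinv : ∀ b ∈ B, b⁻¹ = b := fun b hb => inv_eq_of_mul_eq_one_right (hB b hb)
  have h := sect_le hr π hπ (B : Set Y) ⊥ bot_le (fun s _ w hw => by
    rw [Subgroup.mem_bot.mp hw, mul_one, mul_inv_cancel]; exact one_mem _)
    (fun s hs => Subgroup.mem_bot.mpr (hB s hs)) (fun s hs t ht => Subgroup.mem_bot.mpr (by
      rw [commutatorElement_def, hinv s hs, hinv t ht, mul_assoc (s * t)]
      exact hB _ (mul_mem hs ht)))
  rwa [Subgroup.closure_eq, Subgroup.card_bot, mul_one] at h

/-! ### A simple group of order 168 -/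

section L

variable {L : Type*} [Group L] [Finite L] [IsSimpleGroup L]

theorem hom_comm_trivial (hL : Nat.card L = 168) {A : Type*} [CommGroup A] (f : L →* A) (x : L) : f x = 1 := by
  rcases IsSimpleGroup.eq_bot_or_eq_top_of_normal f.ker inferInstance with h | h
  · exfalso
    letI : CommGroup L := { (inferInstance : Group L) with
      mul_comm := fun a b => (MonoidHom.ker_eq_bot_iff f).mp h (by rw [map_mul, map_mul, mul_comm]) }
    have := IsSimpleGroup.prime_card (α := L)
    rw [hL] at this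
    norm_num at this
  · exact MonoidHom.mem_ker.mp (h.ge (Subgroup.mem_top x))

/-- A homomorphism from a group over `L` into an abelian group, trivial on the kernel, is trivial. -/
theorem hom_trivial (hL : Nat.card L = 168) {Y : Type*} [Group Y] (φ : Y →* L) (hφ : Function.Surjective φ)
    {A : Type*} [CommGroup A] (f : Y →* A) (hk : φ.ker ≤ f.ker) (y : Y) : f y = 1 := by
  have h := hom_comm_trivial hL (φ.liftOfSurjective hφ ⟨f, hk⟩) (φ y)
  rwa [φ.liftOfRightInverse_comp_apply] at h

/-- A kernel sitting above the kernel of `φ` is equal to it or everything. -/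
theorem ker_eq {Y T : Type*} [Group Y] [Group T] (φ : Y →* L) (hφ : Function.Surjective φ) (f : Y →* T)
    (hk : φ.ker ≤ f.ker) {y₀ : Y} (hy₀ : f y₀ ≠ 1) : f.ker = φ.ker := by
  refine le_antisymm (fun y hy => ?_) hk
  haveI : (f.ker.map φ).Normal := Subgroup.Normal.map inferInstance _ hφ
  rcases IsSimpleGroup.eq_bot_or_eq_top_of_normal (f.ker.map φ) inferInstance with h | h
  · exact (Subgroup.map_eq_bot_iff _).mp h hy
  · exfalso
    obtain ⟨z, hz, e⟩ := h.ge (Subgroup.mem_top (φ y₀))
    refine hy₀ ?_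
    have h1 : z⁻¹ * y₀ ∈ φ.ker := by rw [MonoidHom.mem_ker, map_mul, map_inv, e, inv_mul_cancel]
    have h2 := MonoidHom.mem_ker.mp (hk h1)
    rwa [map_mul, map_inv, MonoidHom.mem_ker.mp hz, inv_one, one_mul] at h2

end L

/-! ### Coordinates on a group of order eight -/

/-- Three coordinates modulo two. -/
abbrev C : Type := ZMod 2 × ZMod 2 × ZMod 2

/-- A system of coordinates. -/
abbrev Coord (N : Type*) [Group N] : Type _ := N ≃* Multiplicative C

/-- `x ↦ x k ↦ k e ↦ e`. -/
def nu : C ≃+ C where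
  toFun v := (v.1, v.1 + v.2.1, v.2.1 + v.2.2)
  invFun v := (v.1, v.1 + v.2.1, v.1 + v.2.1 + v.2.2)
  left_inv := by unfold Function.LeftInverse; decide
  right_inv := by unfold Function.RightInverse Function.LeftInverse; decide
  map_add' := by decide

/-- An element of order three fixing only `e`. -/
def rho : C ≃+ C where
  toFun v := (v.2.1, v.1 + v.2.1, v.2.2)
  invFun v := (v.1 + v.2.1, v.1, v.2.2)
  left_inv := by unfold Function.LeftInverse; decide
  right_inv := by unfold Function.RightInverse Function.LeftInverse; decide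
  map_add' := by decide

/-- An element of order seven. -/
def cyc : C ≃+ C where
  toFun v := (v.2.2, v.1 + v.2.2, v.2.1)
  invFun v := (v.2.1 + v.1, v.2.2, v.1)
  left_inv := by unfold Function.LeftInverse; decide
  right_inv := by unfold Function.RightInverse Function.LeftInverse; decide
  map_add' := by decide

/-- The transvection with axis `a = 0`. -/
def ta : C ≃+ C where
  toFun v := (v.1, v.2.1, v.1 + v.2.2)
  invFun v := (v.1, v.2.1, v.1 + v.2.2)
  left_inv := by unfold Function.LeftInverse; decide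
  right_inv := by unfold Function.RightInverse Function.LeftInverse; decide
  map_add' := by decide

/-- The transvection with axis `b = 0`. -/
def tb : C ≃+ C where
  toFun v := (v.1, v.2.1, v.2.1 + v.2.2)
  invFun v := (v.1, v.2.1, v.2.1 + v.2.2)
  left_inv := by unfold Function.LeftInverse; decide
  right_inv := by unfold Function.RightInverse Function.LeftInverse; decide
  map_add' := by decide

/-- The transvection with axis `a = b`. -/
def tc : C ≃+ C where
  toFun v := (v.1, v.2.1, v.1 + v.2.1 + v.2.2)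
  invFun v := (v.1, v.2.1, v.1 + v.2.1 + v.2.2)
  left_inv := by unfold Function.LeftInverse; decide
  right_inv := by unfold Function.RightInverse Function.LeftInverse; decide
  map_add' := by decide

/-- The exchange of the first two coordinates. -/
def sw : C ≃+ C where
  toFun v := (v.2.1, v.1, v.2.2)
  invFun v := (v.2.1, v.1, v.2.2)
  left_inv := by unfold Function.LeftInverse; decide
  right_inv := by unfold Function.RightInverse Function.LeftInverse; decide
  map_add' := by decide

/-- A shear. -/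
def sh : C ≃+ C where
  toFun v := (v.1 + v.2.1, v.2.1, v.2.2)
  invFun v := (v.1 + v.2.1, v.2.1, v.2.2)
  left_inv := by unfold Function.LeftInverse; decide
  right_inv := by unfold Function.RightInverse Function.LeftInverse; decide
  map_add' := by decide

/-- The last basis vector. -/
abbrev e₀ : C := (0, 0, 1)

section Coord

variable {N : Type*} [Group N]

/-- The coordinates of an element. -/
def co (Φ : Coord N) (n : N) : C := Multiplicative.toAdd (Φ n)

theorem co_mul (Φ : Coord N) (a b : N) : co Φ (a * b) = co Φ a + co Φ b := by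
  unfold co; rw [map_mul, toAdd_mul]

theorem co_one (Φ : Coord N) : co Φ 1 = 0 := by unfold co; rw [map_one, toAdd_one]

theorem co_inj (Φ : Coord N) {a b : N} (h : co Φ a = co Φ b) : a = b :=
  Φ.injective (Multiplicative.toAdd.injective h)

theorem co_surj (Φ : Coord N) (v : C) : ∃ n : N, co Φ n = v :=
  ⟨Φ.symm (Multiplicative.ofAdd v), by unfold co; rw [MulEquiv.apply_symm_apply, toAdd_ofAdd]⟩

theorem co_eq_zero (Φ : Coord N) {a : N} : co Φ a = 0 ↔ a = 1 :=
  ⟨fun h => co_inj Φ (h.trans (co_one Φ).symm), fun h => by rw [h, co_one]⟩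

/-- The automorphism with matrix `f`. -/
def autC (Φ : Coord N) (f : C ≃+ C) : MulAut N := (Φ.trans (AddEquiv.toMultiplicative f)).trans Φ.symm

theorem co_aut (Φ : Coord N) (f : C ≃+ C) (n : N) : co Φ (autC Φ f n) = f (co Φ n) := by
  show Multiplicative.toAdd (Φ (Φ.symm (AddEquiv.toMultiplicative f (Φ n)))) = _
  rw [MulEquiv.apply_symm_apply]
  rfl

/-- New coordinates. -/
def recoord (Φ : Coord N) (f : C ≃+ C) : Coord N := Φ.trans (AddEquiv.toMultiplicative f)

theorem co_recoord (Φ : Coord N) (f : C ≃+ C) (n : N) : co (recoord Φ f) n = f (co Φ n) := rfl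

theorem exists_coord (hcard : Nat.card N = 8) (hexp : ∀ n : N, n * n = 1) : Nonempty (Coord N) := by
  classical
  haveI : Finite N := Nat.finite_of_card_ne_zero (by omega)
  haveI : Fact (Nat.Prime 2) := ⟨Nat.prime_two⟩
  have hinv : ∀ a : N, a⁻¹ = a := fun a => inv_eq_of_mul_eq_one_right (hexp a)
  have hcomm : ∀ a b : N, a * b = b * a := fun a b =>
    (hinv (a * b)).symm.trans (by rw [mul_inv_rev, hinv, hinv])
  letI : CommGroup N := { (inferInstance : Group N) with mul_comm := hcomm }
  letI : Module (ZMod 2) (Additive N) := AddCommGroup.zmodModule (n := 2) fun x => by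
    rw [two_nsmul]; exact hexp x
  have hfr : Module.finrank (ZMod 2) (Additive N) = 3 := by
    have h : Nat.card (Additive N) = 8 := hcard
    rw [Module.natCard_eq_pow_finrank (K := ZMod 2), Nat.card_zmod] at h
    exact Nat.pow_right_injective le_rfl (h.trans (by norm_num : (8 : ℕ) = 2 ^ 3))
  let b := (Module.finBasisOfFinrankEq (ZMod 2) (Additive N) hfr).equivFun.toAddEquiv
  let c : (Fin 3 → ZMod 2) ≃+ C :=
    { toFun := fun v => (v 0, v 1, v 2)
      invFun := fun v => ![v.1, v.2.1, v.2.2]
      left_inv := fun v => by funext i; fin_cases i <;> rfl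
      right_inv := fun v => rfl
      map_add' := fun v w => rfl }
  exact ⟨{ toFun := fun n => Multiplicative.ofAdd ((b.trans c) (Additive.ofMul n))
           invFun := fun v => Additive.toMul ((b.trans c).symm (Multiplicative.toAdd v))
           left_inv := fun n => by simp
           right_inv := fun v => by simp
           map_mul' := fun n n' => by
             rw [ofMul_mul, map_add]; rfl }⟩

theorem cyc_orbit : ∀ v : C, v ≠ 0 → ∃ i : Fin 7, (fun w => cyc w)^[i.val] v = e₀ := by decide

theorem exists_coord_at (hcard : Nat.card N = 8) (hexp : ∀ n : N, n * n = 1) {n : N} (hn : n ≠ 1) :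
    ∃ Φ : Coord N, co Φ n = e₀ := by
  obtain ⟨Φ⟩ := exists_coord hcard hexp
  obtain ⟨i, hi⟩ := cyc_orbit (co Φ n) (fun h => hn ((co_eq_zero Φ).mp h))
  suffices h : ∀ k : ℕ, ∃ Φ' : Coord N, co Φ' n = (fun w => cyc w)^[k] (co Φ n) by
    obtain ⟨Φ', h'⟩ := h i; exact ⟨Φ', h'.trans hi⟩
  intro k
  induction k with
  | zero => exact ⟨Φ, rfl⟩
  | succ k ih =>
    obtain ⟨Φ', h'⟩ := ih
    exact ⟨recoord Φ' cyc, by rw [co_recoord, h', Function.iterate_succ_apply']⟩

/-- Triples of independent vectors. -/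
abbrev Indep : Type :=
  {p : C × C × C // p.1 ≠ 0 ∧ p.2.1 ≠ 0 ∧ p.2.1 ≠ p.1 ∧ p.2.2 ≠ 0 ∧ p.2.2 ≠ p.1 ∧ p.2.2 ≠ p.2.1 ∧ p.2.2 ≠ p.1 + p.2.1}

theorem card_indep : Fintype.card Indep = 168 := by decide +kernel

theorem basis_gen : ∀ v : C, v = 0 ∨ v = (1, 0, 0) ∨ v = (0, 1, 0) ∨ v = (0, 0, 1) ∨ v = (1, 0, 0) + (0, 1, 0) ∨
    v = (1, 0, 0) + (0, 0, 1) ∨ v = (0, 1, 0) + (0, 0, 1) ∨ v = (1, 0, 0) + (0, 1, 0) + (0, 0, 1) := by decide

theorem card_aut_le (Φ : Coord N) [Finite N] : Nat.card (MulAut N) ≤ 168 := by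
  classical
  obtain ⟨x, hx⟩ := co_surj Φ (1, 0, 0)
  obtain ⟨k, hk⟩ := co_surj Φ (0, 1, 0)
  obtain ⟨e, he⟩ := co_surj Φ (0, 0, 1)
  have ne : ∀ (f : MulAut N) {a b : N}, co Φ a ≠ co Φ b → co Φ (f a) ≠ co Φ (f b) := fun f a b h e' =>
    h (congrArg (co Φ) (f.injective (co_inj Φ e')))
  have ne0 : ∀ (f : MulAut N) {a : N}, co Φ a ≠ 0 → co Φ (f a) ≠ 0 := fun f a h e' => by
    refine h ((co_eq_zero Φ).mpr (f.injective ?_))
    rw [map_one]; exact (co_eq_zero Φ).mp e'
  let g : MulAut N → Indep := fun f => ⟨(co Φ (f x), co Φ (f k), co Φ (f e)),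
    ne0 f (by rw [hx]; decide), ne0 f (by rw [hk]; decide), ne f (by rw [hx, hk]; decide),
    ne0 f (by rw [he]; decide), ne f (by rw [he, hx]; decide), ne f (by rw [he, hk]; decide), by
      show co Φ (f e) ≠ co Φ (f x) + co Φ (f k)
      rw [← co_mul, ← map_mul]
      exact ne f (by rw [he, co_mul, hx, hk]; decide)⟩
  rw [← card_indep, ← Nat.card_eq_fintype_card]
  refine Nat.card_le_card_of_injective g fun f f' h => ?_
  have hp := congrArg Subtype.val h
  simp only [g, Prod.mk.injEq] at hp
  obtain ⟨h1, h2, h3⟩ := hp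
  have ex : f x = f' x := co_inj Φ h1
  have ek : f k = f' k := co_inj Φ h2
  have ee : f e = f' e := co_inj Φ h3
  refine MulEquiv.ext fun n => ?_
  have key : ∀ (w : N), co Φ n = co Φ w → f w = f' w → f n = f' n := fun w hw hh => by rwa [co_inj Φ hw]
  rcases basis_gen (co Φ n) with h | h | h | h | h | h | h | h
  · exact key 1 (by rw [h, co_one]) (by rw [map_one, map_one])
  · exact key x (by rw [h, hx]) ex
  · exact key k (by rw [h, hk]) ek
  · exact key e (by rw [h, he]) ee
  · exact key (x * k) (by rw [h, co_mul, hx, hk]) (by rw [map_mul, map_mul, ex, ek])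
  · exact key (x * e) (by rw [h, co_mul, hx, he]) (by rw [map_mul, map_mul, ex, ee])
  · exact key (k * e) (by rw [h, co_mul, hk, he]) (by rw [map_mul, map_mul, ek, ee])
  · exact key (x * k * e) (by rw [h, co_mul, co_mul, hx, hk, he]) (by rw [map_mul, map_mul, map_mul, map_mul, ex, ek, ee])

end Coord

/-! ### The natural module -/

section Natural

variable {L : Type*} [Group L] [Finite L] [IsSimpleGroup L] {Y : Type*} [Group Y] {N : Type*} [Group N] [Finite N]

/-- An action of `L` on a group of order eight is that of the whole automorphism group. -/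
theorem natural_surj (hL : Nat.card L = 168) (φ : Y →* L) (hφ : Function.Surjective φ) (ψ : Y →* MulAut N)
    (hk : φ.ker ≤ ψ.ker) {y₀ : Y} (hy₀ : ψ y₀ ≠ 1) (Φ : Coord N) :
    Function.Surjective ψ ∧ ψ.ker = φ.ker := by
  have hker := ker_eq φ hφ ψ hk hy₀
  refine ⟨MonoidHom.range_eq_top.mp (Subgroup.eq_top_of_card_eq _ ?_), hker⟩
  refine le_antisymm (Subgroup.card_le_card_group _) ?_
  rw [← Subgroup.index_ker, hker, Subgroup.index_ker, MonoidHom.range_eq_top.mpr hφ, Subgroup.card_top, hL]
  exact card_aut_le Φ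

/-- An element acting with given matrix. -/
theorem exists_act {ψ : Y →* MulAut N} (hψ : Function.Surjective ψ) (Φ : Coord N) (f : C ≃+ C) :
    ∃ y : Y, ∀ n, co Φ (ψ y n) = f (co Φ n) := by
  obtain ⟨y, hy⟩ := hψ (autC Φ f)
  exact ⟨y, fun n => by rw [hy]; exact co_aut Φ f n⟩

theorem transitive {ψ : Y →* MulAut N} (hψ : Function.Surjective ψ) (hcard : Nat.card N = 8)
    (hexp : ∀ n : N, n * n = 1) {a b : N} (ha : a ≠ 1) (hb : b ≠ 1) : ∃ y : Y, ψ y a = b := by
  obtain ⟨Φ, hΦ⟩ := exists_coord_at hcard hexp ha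
  obtain ⟨Φ', hΦ'⟩ := exists_coord_at hcard hexp hb
  obtain ⟨y, hy⟩ := hψ (Φ.trans Φ'.symm)
  refine ⟨y, ?_⟩
  rw [hy]
  apply Φ'.injective
  show Φ' (Φ'.symm (Φ a)) = Φ' b
  rw [MulEquiv.apply_symm_apply]
  exact Multiplicative.toAdd.injective (hΦ.trans hΦ'.symm)

end Natural

end CfsgLib.SectL32
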