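/-
Equivariant maps between natural modules of `L₃(2)` and the modules of order sixteen.
-/
import Cfsg.Agent.Lib.SectL32.Basic

set_option autoImplicit false
set_option linter.unusedSectionVars false
set_option linter.style.haveILetI false

namespace CfsgLib.SectL32

section Fix

variable {N : Type*} [Group N] [Finite N]

/-- An automorphism of prime order `p` of a group of order `n = 2 ^ k` with `n ≡ 2` fixes two elements only. -/
theorem fix_two (hexp : ∀ a : N, a * a = 1) {p : ℕ} [Fact p.Prime]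
    (hp : (p = 3 ∧ Nat.card N = 8) ∨ (p = 7 ∧ Nat.card N = 16)) (g : MulAut N) (hg : g ^ p = 1) (hg1 : g ≠ 1) :
    ∃ z : N, z ≠ 1 ∧ g z = z ∧ ∀ a, g a = a → a = 1 ∨ a = z := by
  classical
  let Cg : Subgroup N := g.toMonoidHom.eqLocus (MonoidHom.id N)
  have hmem : ∀ a, a ∈ Cg ↔ g a = a := fun a => Iff.rfl
  have hG : IsPGroup p (Subgroup.zpowers g) := IsPGroup.of_card (n := 1) (by
    rw [Nat.card_zpowers, orderOf_eq_prime hg hg1, pow_one])
  have hfix : Nat.card (MulAction.fixedPoints (Subgroup.zpowers g) N) = Nat.card Cg := by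
    refine Nat.card_congr (Equiv.subtypeEquivRight fun v => ⟨fun h => h ⟨g, Subgroup.mem_zpowers g⟩, fun h u => ?_⟩)
    obtain ⟨u, hu⟩ := u
    exact (Subgroup.zpowers_le (H := MulAction.stabilizer (MulAut N) v)).mpr h hu
  have hmod := hG.card_modEq_card_fixedPoints N
  have hne : Cg ≠ ⊤ := fun h => hg1 (MulEquiv.ext fun a => (hmem a).mp (h.ge (Subgroup.mem_top a)))
  obtain ⟨j, hj⟩ := IsPGroup.iff_card.mp (show IsPGroup 2 Cg from fun v => ⟨1, by
    rw [pow_one, sq]; exact Subtype.ext (hexp v)⟩)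
  have hlt : Nat.card Cg < Nat.card N := lt_of_le_of_ne (Subgroup.card_le_card_group Cg) fun h =>
    hne (Subgroup.eq_top_of_card_eq Cg h)
  rw [hfix, hj] at hmod
  rw [hj] at hlt
  have h2 : Nat.card Cg = 2 := by
    rcases hp with ⟨rfl, hn⟩ | ⟨rfl, hn⟩ <;> rw [hn] at hlt hmod <;> rw [hj]
    · have : j < 3 := (Nat.pow_lt_pow_iff_right (by norm_num)).mp (hlt.trans_eq (by norm_num : (8 : ℕ) = 2 ^ 3))
      interval_cases j <;> first | rfl | (exfalso; revert hmod; decide)
    · have : j < 4 := (Nat.pow_lt_pow_iff_right (by norm_num)).mp (hlt.trans_eq (by norm_num : (16 : ℕ) = 2 ^ 4))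
      interval_cases j <;> first | rfl | (exfalso; revert hmod; decide)
  obtain ⟨⟨z, hz⟩, hz1, huniq⟩ := (Nat.card_eq_two_iff' (1 : Cg)).mp h2
  refine ⟨z, fun e => hz1 (Subtype.ext e), hz, fun a ha => ?_⟩
  by_cases h : a = 1
  · exact Or.inl h
  · exact Or.inr (congrArg Subtype.val (huniq ⟨a, ha⟩ fun e => h (congrArg Subtype.val e)))

end Fix

theorem rho_fix : rho e₀ = e₀ ∧ (∀ v, rho (rho (rho v)) = v) ∧ rho (1, 0, 0) ≠ (1, 0, 0) := by decide

theorem axis_cover : ∀ v : C, ta v = v ∨ tb v = v ∨ tc v = v := by decide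

theorem rho_span : ∀ v : C, ∃ w, v = rho w + w ∨ v = rho w + w + e₀ := by decide

section Equiv

variable {Y : Type*} [Group Y] {N : Type*} [Group N] [Finite N] {Z : Type*} [Group Z] [Finite Z]

/-- At each non-trivial element there is only one possible non-trivial value of an equivariant map. -/
theorem value_unique {ψ : Y →* MulAut N} (hψ : Function.Surjective ψ) (hN : Nat.card N = 8)
    (hNexp : ∀ n : N, n * n = 1) (hZ : Nat.card Z = 8) (hZexp : ∀ z : Z, z * z = 1) (ψ' : Y →* MulAut Z)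
    (hk : ψ'.ker = ψ.ker) {n : N} (hn : n ≠ 1) :
    ∃ y : Y, ψ y n = n ∧ (∀ a, ψ y (ψ y (ψ y a)) = a) ∧
      ∃ z : Z, z ≠ 1 ∧ ψ' y z = z ∧ ∀ w, ψ' y w = w → w = 1 ∨ w = z := by
  obtain ⟨Φ, hΦ⟩ := exists_coord_at hN hNexp hn
  obtain ⟨y, hy⟩ := exists_act hψ Φ rho
  have h3 : ∀ a, ψ y (ψ y (ψ y a)) = a := fun a => co_inj Φ (by rw [hy, hy, hy]; exact rho_fix.2.1 _)
  refine ⟨y, co_inj Φ (by rw [hy, hΦ]; exact rho_fix.1), h3, ?_⟩
  haveI : Fact (Nat.Prime 3) := ⟨Nat.prime_three⟩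
  refine fix_two hZexp (Or.inl ⟨rfl, hZ⟩) (ψ' y) ?_ ?_
  · rw [← map_pow, ← MonoidHom.mem_ker, hk, MonoidHom.mem_ker, map_pow]
    exact MulEquiv.ext h3
  · intro h
    obtain ⟨a, ha⟩ := co_surj Φ (1, 0, 0)
    have h' : ψ y = 1 := MonoidHom.mem_ker.mp (hk ▸ MonoidHom.mem_ker.mpr h)
    refine rho_fix.2.2 ?_
    rw [← ha, ← hy, h']
    rfl

variable {ψ : Y →* MulAut N} {ψ' : Y →* MulAut Z}

/-- An equivariant map of natural modules is trivial or an isomorphism. -/
theorem equiv_map (hψ : Function.Surjective ψ) (hψ' : Function.Surjective ψ') (hN : Nat.card N = 8)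
    (hNexp : ∀ n : N, n * n = 1) (hZ : Nat.card Z = 8) (hZexp : ∀ z : Z, z * z = 1) (hk : ψ'.ker = ψ.ker)
    (q : N → Z) (h1 : q 1 = 1) (heq : ∀ y n, q (ψ y n) = ψ' y (q n)) :
    (∀ n, q n = 1) ∨ (Function.Bijective q ∧ (∀ a b, q (a * b) = q a * q b)) := by
  classical
  by_cases hall : ∀ n, q n = 1
  · exact Or.inl hall
  refine Or.inr ?_
  push_neg at hall
  obtain ⟨n₀, hn₀⟩ := hall
  have hn₀1 : n₀ ≠ 1 := fun h => hn₀ (h ▸ h1)
  have hne : ∀ n, n ≠ 1 → q n ≠ 1 := by
    intro n hn h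
    obtain ⟨y, hy⟩ := transitive hψ hN hNexp hn hn₀1
    rw [← hy, heq, h, map_one] at hn₀
    exact hn₀ rfl
  have hsurj : Function.Surjective q := by
    intro z
    by_cases hz : z = 1
    · exact ⟨1, h1.trans hz.symm⟩
    · obtain ⟨y, hy⟩ := transitive hψ' hZ hZexp hn₀ hz
      exact ⟨ψ y n₀, (heq y n₀).trans hy⟩
  have hbij : Function.Bijective q :=
    (Nat.bijective_iff_surjective_and_card q).mpr ⟨hsurj, by rw [hN, hZ]⟩
  have hNinv : ∀ a : N, a⁻¹ = a := fun a => inv_eq_of_mul_eq_one_right (hNexp a)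
  refine ⟨hbij, fun a b => ?_⟩
  by_cases ha : a = 1
  · rw [ha, h1, one_mul, one_mul]
  by_cases hb : b = 1
  · rw [hb, h1, mul_one, mul_one]
  by_cases hab : a = b
  · rw [hab, hNexp, hZexp, h1]
  have hc : a * b ≠ 1 := fun h => hab (by rw [eq_inv_of_mul_eq_one_left h, hNinv])
  -- an element fixing the line
  obtain ⟨Φ, hΦ⟩ := exists_coord_at hN hNexp ha
  have hex : ∃ f : C ≃+ C, f (co Φ b) = co Φ b ∧ f e₀ = e₀ ∧ ∃ v, f v ≠ v := by
    rcases axis_cover (co Φ b) with h | h | h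
    · exact ⟨ta, h, by decide, (1, 0, 0), by decide⟩
    · exact ⟨tb, h, by decide, (0, 1, 0), by decide⟩
    · exact ⟨tc, h, by decide, (1, 0, 0), by decide⟩
  obtain ⟨f, hfb, hfe, v, hv⟩ := hex
  obtain ⟨y, hy⟩ := exists_act hψ Φ f
  have hya : ψ y a = a := co_inj Φ (by rw [hy, hΦ, hfe])
  have hyb : ψ y b = b := co_inj Φ (by rw [hy, hfb])
  have hyc : ψ y (a * b) = a * b := by rw [map_mul, hya, hyb]
  have hy1 : ψ' y ≠ 1 := by
    intro h
    obtain ⟨n, hn⟩ := co_surj Φ v
    have h' : ψ y = 1 := MonoidHom.mem_ker.mp (hk ▸ MonoidHom.mem_ker.mpr h)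
    refine hv ?_
    rw [← hn, ← hy, h']
    rfl
  let Cg : Subgroup Z := (ψ' y).toMonoidHom.eqLocus (MonoidHom.id Z)
  have hfix : ∀ n, ψ y n = n → q n ∈ Cg := fun n hn => by
    show ψ' y (q n) = q n
    rw [← heq, hn]
  by_contra hne'
  have hcard : Nat.card Cg < 5 := by
    have hd : Nat.card Cg ∣ 8 := hZ ▸ Subgroup.card_subgroup_dvd_card Cg
    have hlt : Nat.card Cg < 8 := by
      refine lt_of_le_of_ne (hZ ▸ Subgroup.card_le_card_group Cg) fun h => hy1 (MulEquiv.ext fun z => ?_)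
      exact (Subgroup.eq_top_of_card_eq Cg (h.trans hZ.symm)).ge (Subgroup.mem_top z)
    interval_cases Nat.card Cg <;> first | omega | (exfalso; revert hd; decide)
  let five : Fin 5 → Cg := ![1, ⟨q a, hfix a hya⟩, ⟨q b, hfix b hyb⟩, ⟨q (a * b), hfix _ hyc⟩,
    ⟨q a * q b, mul_mem (hfix a hya) (hfix b hyb)⟩]
  have e1 : q a ≠ 1 := hne a ha
  have e2 : q b ≠ 1 := hne b hb
  have e3 : q (a * b) ≠ 1 := hne _ hc
  have e4 : q a * q b ≠ 1 := fun h => hab (hbij.1 (by
    rw [eq_inv_of_mul_eq_one_left h, inv_eq_of_mul_eq_one_right (hZexp _)]))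
  have e5 : q a ≠ q b := fun h => hab (hbij.1 h)
  have e6 : q a ≠ q (a * b) := fun h => hb (left_eq_mul.mp (hbij.1 h))
  have e7 : q b ≠ q (a * b) := fun h => ha (right_eq_mul.mp (hbij.1 h))
  have e8 : q a ≠ q a * q b := fun h => e2 (left_eq_mul.mp h)
  have e9 : q b ≠ q a * q b := fun h => e1 (right_eq_mul.mp h)
  have : Function.Injective five := by
    intro i j h
    have h' := congrArg Subtype.val h
    fin_cases i <;> fin_cases j <;> first
      | rfl
      | exact absurd h' e1 | exact absurd h'.symm e1 | exact absurd h' e2 | exact absurd h'.symm e2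
      | exact absurd h' e3 | exact absurd h'.symm e3 | exact absurd h' e4 | exact absurd h'.symm e4
      | exact absurd h' e5 | exact absurd h'.symm e5 | exact absurd h' e6 | exact absurd h'.symm e6
      | exact absurd h' e7 | exact absurd h'.symm e7 | exact absurd h' e8 | exact absurd h'.symm e8
      | exact absurd h' e9 | exact absurd h'.symm e9
      | exact absurd h' hne' | exact absurd h'.symm hne'
  have := Nat.card_le_card_of_injective five this
  rw [Nat.card_fin] at this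
  omega

/-- Two isomorphisms of natural modules are equal. -/
theorem equiv_unique (hψ : Function.Surjective ψ) (hN : Nat.card N = 8) (hNexp : ∀ n : N, n * n = 1)
    (hZ : Nat.card Z = 8) (hZexp : ∀ z : Z, z * z = 1) (hk : ψ'.ker = ψ.ker)
    (q q' : N → Z) (heq : ∀ y n, q (ψ y n) = ψ' y (q n)) (heq' : ∀ y n, q' (ψ y n) = ψ' y (q' n))
    {n : N} (hn : n ≠ 1) (hq : q n ≠ 1) (hq' : q' n ≠ 1) : q n = q' n := by
  obtain ⟨y, hy, -, z, -, -, huniq⟩ := value_unique hψ hN hNexp hZ hZexp ψ' hk hn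
  rw [(huniq (q n) (by rw [← heq, hy])).resolve_left hq, (huniq (q' n) (by rw [← heq', hy])).resolve_left hq']

/-- An invariant homomorphism from the natural module is trivial. -/
theorem inv_hom (hψ : Function.Surjective ψ) (hN : Nat.card N = 8) (hNexp : ∀ n : N, n * n = 1)
    {A : Type*} [Group A] (f : N → A) (hf : ∀ a b, f (a * b) = f a * f b) (hinv : ∀ y n, f (ψ y n) = f n) (n : N) :
    f n = 1 := by
  have h1 : f 1 = 1 := left_eq_mul.mp (show f 1 = f 1 * f 1 by rw [← hf, one_mul])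
  by_cases hn : n = 1
  · rw [hn, h1]
  obtain ⟨Φ, hΦ⟩ := exists_coord_at hN hNexp hn
  obtain ⟨a, ha⟩ := co_surj Φ (1, 0, 0)
  have hc : co Φ (n * a) = (1, 0, 1) := by rw [co_mul, hΦ, ha]; decide
  have ha1 : a ≠ 1 := fun h => absurd (((co_eq_zero Φ).mpr h).symm.trans ha) (by decide)
  have hna1 : n * a ≠ 1 := fun h => absurd (((co_eq_zero Φ).mpr h).symm.trans hc) (by decide)
  obtain ⟨y, hy⟩ := transitive hψ hN hNexp hn ha1
  obtain ⟨y', hy'⟩ := transitive hψ hN hNexp hn hna1
  have e1 : f a = f n := by rw [← hy, hinv]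
  have e2 : f (n * a) = f n := by rw [← hy', hinv]
  rw [hf, e1] at e2
  exact mul_eq_left.mp e2

/-- An invariant alternating form on the natural module is trivial. -/
theorem inv_bilin (hψ : Function.Surjective ψ) (hN : Nat.card N = 8) (hNexp : ∀ n : N, n * n = 1)
    {A : Type*} [Group A] (B : N → N → A) (hB : ∀ a b c, B a (b * c) = B a b * B a c)
    (hinv : ∀ y a b, B (ψ y a) (ψ y b) = B a b) (halt : ∀ a, B a a = 1) (hone : ∀ b, B 1 b = 1) (a b : N) :
    B a b = 1 := by
  by_cases ha : a = 1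
  · rw [ha, hone]
  obtain ⟨Φ, hΦ⟩ := exists_coord_at hN hNexp ha
  obtain ⟨y, hy⟩ := exists_act hψ Φ rho
  have hya : ψ y a = a := co_inj Φ (by rw [hy, hΦ]; exact rho_fix.1)
  have h0 : ∀ x, B a (x * x) = 1 := fun x => by
    rw [hNexp]
    exact left_eq_mul.mp (show B a 1 = B a 1 * B a 1 by rw [← hB, one_mul])
  have hw : ∀ w, B a (ψ y w * w) = 1 := fun w => by
    have e : B a (ψ y w) = B a w := by conv_lhs => rw [← hya, hinv]
    rw [hB, e, ← hB, h0]
  obtain ⟨w', hw'⟩ := rho_span (co Φ b)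
  obtain ⟨w, rfl⟩ := co_surj Φ w'
  rcases hw' with h | h
  · rw [show b = ψ y w * w from co_inj Φ (by rw [co_mul, hy, h]), hw]
  · rw [show b = ψ y w * w * a from co_inj Φ (by rw [co_mul, co_mul, hy, hΦ, h]), hB, hw, halt, one_mul]

end Equiv

/-- Three elements with independent classes and constant squares. -/
theorem sq_trivial {Y : Type*} [Group Y] {a b c ε : Y} (hε : ∀ x, x = a ∨ x = b ∨ x = c → ε * x = x * ε)
    (hε2 : ε * ε = 1) (ha : a * a = ε) (hb : b * b = ε) (hc : c * c = ε) (hab : a * b * (a * b) = ε)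
    (hac : a * c * (a * c) = ε) (hbc : b * c * (b * c) = ε) (habc : a * (b * c) * (a * (b * c)) = ε) : ε = 1 := by
  have key : ∀ x, x * x = ε → a * x * (a * x) = ε → Commute ε x → a * x * a⁻¹ = x * ε := by
    intro x hx hax hεx
    have h1 : a * x * a = x := by
      calc a * x * a = a * x * (a * x) * x⁻¹ := by group
        _ = x * x * x⁻¹ := by rw [hax, hx]
        _ = x := by group
    calc a * x * a⁻¹ = a * x * a * (a * a)⁻¹ := by group
      _ = x * ε⁻¹ := by rw [h1, ha]
      _ = x * ε := by rw [inv_eq_of_mul_eq_one_right hε2]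
  have cb : Commute ε b := hε b (Or.inr (Or.inl rfl))
  have cc : Commute ε c := hε c (Or.inr (Or.inr rfl))
  have e1 := key b hb hab cb
  have e2 := key c hc hac cc
  have e3 := key (b * c) hbc habc (cb.mul_right cc)
  have h : a * (b * c) * a⁻¹ = (a * b * a⁻¹) * (a * c * a⁻¹) := by group
  rw [e3, e1, e2] at h
  have h' : b * c * ε = b * c * (ε * ε) := by
    rw [h, mul_assoc b ε, ← mul_assoc ε c, cc.eq]
    group
  exact left_eq_mul.mp (mul_left_cancel h')

section Sixteen

variable {L : Type*} [Group L] [Finite L] [IsSimpleGroup L] {Y : Type*} [Group Y] {V : Type*} [Group V] [Finite V]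

/-- The decomposition of a module of order sixteen under an element of order seven. -/
theorem seven_setup (hL : Nat.card L = 168) (φ : Y →* L) (hφ : Function.Surjective φ) (hV : Nat.card V = 16)
    (hexp : ∀ v : V, v * v = 1) (ψ : Y →* MulAut V) (hk : ψ.ker = φ.ker) :
    ∃ (y : Y) (r : V) (W : Subgroup V), r ≠ 1 ∧ ψ y r = r ∧ r ∉ W ∧ Nat.card W = 8 ∧
      (∀ v, v ∈ W ∨ r * v ∈ W) ∧ (∀ v, ψ y v * v ∈ W) ∧ (∀ w ∈ W, ∃ v, ψ y v * v = w) ∧
      ∀ v ∈ W, v ≠ 1 → ∀ w ∈ W, w ≠ 1 → ∃ i : ℕ, ψ (y ^ i) v = w := by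
  classical
  haveI : Fact (Nat.Prime 7) := ⟨by norm_num⟩
  have hinv : ∀ a : V, a⁻¹ = a := fun a => inv_eq_of_mul_eq_one_right (hexp a)
  have hcomm : ∀ a b : V, a * b = b * a := fun a b =>
    (hinv (a * b)).symm.trans (by rw [mul_inv_rev, hinv, hinv])
  obtain ⟨ℓ, hℓ⟩ := exists_prime_orderOf_dvd_card' (G := L) 7 (by rw [hL]; norm_num)
  obtain ⟨y, hy⟩ := hφ ℓ
  have h7 : ψ y ^ 7 = 1 := by
    rw [← map_pow, ← MonoidHom.mem_ker, hk, MonoidHom.mem_ker, map_pow, hy, ← hℓ, pow_orderOf_eq_one]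
  have hne : ψ y ≠ 1 := by
    intro h
    have h' : φ y = 1 := MonoidHom.mem_ker.mp (hk ▸ MonoidHom.mem_ker.mpr h)
    rw [hy] at h'
    rw [h', orderOf_one] at hℓ
    norm_num at hℓ
  obtain ⟨r, hr1, hr, huniq⟩ := fix_two hexp (Or.inr ⟨rfl, hV⟩) (ψ y) h7 hne
  let d : V →* V :=
    { toFun := fun v => ψ y v * v
      map_one' := by rw [map_one, mul_one]
      map_mul' := fun a b => by
        rw [map_mul, mul_assoc, ← mul_assoc (ψ y b), hcomm (ψ y b) a, ← mul_assoc, ← mul_assoc, ← mul_assoc] }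
  have hdker : Nat.card d.ker = 2 := by
    rw [Nat.card_eq_two_iff' (1 : d.ker)]
    refine ⟨⟨r, ?_⟩, fun e => hr1 (congrArg Subtype.val e), fun v hv => ?_⟩
    · show ψ y r * r = 1
      rw [hr, hexp]
    · have h : ψ y (v : V) * v = 1 := v.2
      have h' : ψ y (v : V) = v := (eq_inv_of_mul_eq_one_left h).trans (hinv _)
      exact Subtype.ext ((huniq v h').resolve_left fun e => hv (Subtype.ext e))
  have hW8 : Nat.card d.range = 8 := by
    have := Subgroup.card_eq_card_quotient_mul_card_subgroup d.ker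
    rw [Nat.card_congr (QuotientGroup.quotientKerEquivRange d).toEquiv, hV, hdker] at this
    omega
  have hrW : r ∉ d.range := by
    rintro ⟨v, hv : ψ y v * v = r⟩
    have h2 : ψ y (ψ y v) * ψ y v = r := by rw [← map_mul, hv, hr]
    have h3 : ψ y (ψ y v) = v := by
      apply mul_right_cancel (b := ψ y v)
      rw [h2, hcomm, hv]
    have h4 : ψ y v = v := by
      have h8 : (ψ y ^ 8) v = v := by
        simp only [pow_succ, pow_zero, one_mul, MulAut.mul_apply, h3]
      rw [pow_succ, h7, one_mul] at h8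
      exact h8
    rw [h4, hexp] at hv
    exact hr1 hv.symm
  refine ⟨y, r, d.range, hr1, hr, hrW, hW8, fun v => ?_, fun v => ⟨v, rfl⟩,
    fun w hw => hw, fun v hv hv1 w hw hw1 => ?_⟩
  · haveI : d.range.Normal := ⟨fun n hn g => by rwa [hcomm g, mul_inv_cancel_right]⟩
    have h2 : d.range.index = 2 := by
      have := d.range.card_mul_index
      rw [hW8, hV] at this
      omega
    rw [Subgroup.mul_mem_iff_of_index_two h2]
    by_cases hvW : v ∈ d.range
    · exact Or.inl hvW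
    · exact Or.inr (by simp [hrW, hvW])
  · -- the cyclic group of order seven is transitive
    have hWy : ∀ (u : V), u ∈ d.range → ψ y u ∈ d.range := by
      rintro _ ⟨u, rfl⟩
      exact ⟨ψ y u, (map_mul (ψ y) (ψ y u) u).symm⟩
    have hWi : ∀ (i : ℕ), ψ (y ^ i) v ∈ d.range := by
      intro i
      induction i with
      | zero => simpa using hv
      | succ i ih => rw [pow_succ', map_mul, MulAut.mul_apply]; exact hWy _ ih
    let f : Fin 7 → {u : d.range // u ≠ 1} := fun i =>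
      ⟨⟨ψ (y ^ (i : ℕ)) v, hWi i⟩, fun e => hv1 ((ψ (y ^ (i : ℕ))).injective (by
        rw [map_one]; exact congrArg Subtype.val e))⟩
    have hf : Function.Injective f := by
      let S : Subgroup (MulAut V) := MulAction.stabilizer (MulAut V) v
      have hmove : ψ y v ≠ v := fun e => by
        rcases huniq v e with h | h
        · exact hv1 h
        · exact hrW (h ▸ hv)
      intro i j e
      have e' : ψ (y ^ (i : ℕ)) v = ψ (y ^ (j : ℕ)) v := congrArg (fun u => (u.1 : V)) e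
      by_contra hne'
      have hS : (ψ y ^ (i : ℕ))⁻¹ * ψ y ^ (j : ℕ) ∈ S := by
        show ((ψ y ^ (i : ℕ))⁻¹ * ψ y ^ (j : ℕ)) v = v
        rw [MulAut.mul_apply, ← map_pow, ← map_pow, ← e', MulAut.inv_apply, MulEquiv.symm_apply_apply]
      rw [← zpow_natCast, ← zpow_natCast, ← zpow_neg, ← zpow_add] at hS
      have h1 : ψ y ∈ Subgroup.zpowers (ψ y ^ (-((i : ℕ) : ℤ) + (j : ℕ))) := by
        have hord : orderOf (ψ y) = 7 := orderOf_eq_prime h7 hne
        have hcop : IsCoprime (-((i : ℕ) : ℤ) + (j : ℕ)) 7 := by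
          refine Int.isCoprime_iff_gcd_eq_one.mpr ?_
          have hi := i.isLt
          have hj := j.isLt
          have hij : (i : ℕ) ≠ j := fun h => hne' (Fin.ext h)
          generalize (i : ℕ) = a at *
          generalize (j : ℕ) = b at *
          interval_cases a <;> interval_cases b <;> first | omega | decide
        obtain ⟨u, w', huw⟩ := hcop
        refine ⟨u, ?_⟩
        show (ψ y ^ (-((i : ℕ) : ℤ) + (j : ℕ))) ^ u = ψ y
        have h7' : ψ y ^ (7 : ℤ) = 1 := h7
        rw [← zpow_mul, show (-((i : ℕ) : ℤ) + (j : ℕ)) * u = 1 - 7 * w' by linarith, zpow_sub, zpow_one,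
          zpow_mul, h7', one_zpow, inv_one, mul_one]
      exact hmove ((Subgroup.zpowers_le.mpr hS) h1)
    have hc : Nat.card {u : d.range // u ≠ 1} = 7 := by
      haveI := Fintype.ofFinite d.range
      rw [Nat.card_eq_fintype_card, Fintype.card_subtype_compl, Fintype.card_subtype_eq,
        ← Nat.card_eq_fintype_card, hW8]
    obtain ⟨i, hi⟩ := ((Nat.bijective_iff_injective_and_card f).mpr ⟨hf, by rw [hc, Nat.card_fin]⟩).2
      ⟨⟨w, hw⟩, fun e => hw1 (congrArg Subtype.val e)⟩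
    exact ⟨i, congrArg (fun u => (u.1 : V)) hi⟩

/-- The kernel decides the order of the image. -/
theorem card_range (hL : Nat.card L = 168) (φ : Y →* L) (hφ : Function.Surjective φ) {T : Type*} [Group T]
    (ψ : Y →* T) (hk : ψ.ker = φ.ker) : Nat.card ψ.range = 168 := by
  rw [← Subgroup.index_ker, hk, Subgroup.index_ker, MonoidHom.range_eq_top.mpr hφ, Subgroup.card_top, hL]

/-- A module of order sixteen has an invariant subgroup of order eight, or a fixed point with transitive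
complement. -/
theorem classify (hL : Nat.card L = 168) (φ : Y →* L) (hφ : Function.Surjective φ) (hV : Nat.card V = 16)
    (hexp : ∀ v : V, v * v = 1) (ψ : Y →* MulAut V) (hk : ψ.ker = φ.ker) :
    (∃ W : Subgroup V, Nat.card W = 8 ∧ (∀ g, ∀ w ∈ W, ψ g w ∈ W) ∧ ∃ g, ∃ w ∈ W, ψ g w ≠ w) ∨
    ∃ r : V, r ≠ 1 ∧ (∀ g, ψ g r = r) ∧ (∀ v, v ≠ 1 → v ≠ r → ∃ g, ψ g v = v * r) ∧
      ∃ g v, ψ g v ≠ v ∧ ψ g v ≠ v * r := by
  classical
  have hinv : ∀ a : V, a⁻¹ = a := fun a => inv_eq_of_mul_eq_one_right (hexp a)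
  have hcomm : ∀ a b : V, a * b = b * a := fun a b =>
    (hinv (a * b)).symm.trans (by rw [mul_inv_rev, hinv, hinv])
  obtain ⟨y, r, W, hr1, hr, hrW, hW8, hor, hd, -, htr⟩ := seven_setup hL φ hφ hV hexp ψ hk
  have hrr : ∀ v, r * (r * v) = v := fun v => by rw [← mul_assoc, hexp, one_mul]
  have hwne : ∃ w ∈ W, w ≠ 1 := by
    by_contra h
    push_neg at h
    have : W = ⊥ := (Subgroup.eq_bot_iff_forall W).mpr h
    rw [this, Subgroup.card_bot] at hW8
    omega
  obtain ⟨w₁, hw₁, hw₁1⟩ := hwne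
  have hmove : ψ y w₁ ≠ w₁ ∧ ψ y w₁ ≠ w₁ * r := by
    constructor <;> intro h
    · -- the whole of `W` would be fixed
      have hpow : ∀ i : ℕ, ψ (y ^ i) w₁ = w₁ := fun i => by
        induction i with
        | zero => simp
        | succ i ih => rw [pow_succ, map_mul, MulAut.mul_apply, h, ih]
      have hle : ∀ w ∈ W, w = 1 ∨ w = w₁ := fun w hw => by
        by_cases hw1 : w = 1
        · exact Or.inl hw1
        · obtain ⟨i, hi⟩ := htr w₁ hw₁ hw₁1 w hw hw1
          exact Or.inr (hi.symm.trans (hpow i))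
      have : Nat.card W ≤ 2 := by
        rw [← Nat.card_fin 2]
        refine Nat.card_le_card_of_surjective (![(1 : W), ⟨w₁, hw₁⟩]) fun ⟨w, hw⟩ => ?_
        rcases hle w hw with rfl | rfl
        · exact ⟨0, rfl⟩
        · exact ⟨1, rfl⟩
      omega
    · refine hrW ?_
      have := hd w₁
      rwa [h, hcomm w₁ r, mul_assoc, hexp, mul_one] at this
  by_cases hfix : ∀ g, ψ g r = r
  · by_cases hWinv : ∀ g, ∀ w ∈ W, ψ g w ∈ W
    · exact Or.inl ⟨W, hW8, hWinv, y, w₁, hw₁, hmove.1⟩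
    refine Or.inr ⟨r, hr1, hfix, fun v hv1 hvr => ?_, y, w₁, hmove.1, hmove.2⟩
    push_neg at hWinv
    obtain ⟨g, w₀, hw₀, hgw⟩ := hWinv
    set u := r * ψ g w₀ with hu
    have huW : u ∈ W := (hor (ψ g w₀)).resolve_left hgw
    have hu1 : u ≠ 1 := by
      intro h
      have h1 : ψ g w₀ = r := by rw [← hrr (ψ g w₀), ← hu, h, mul_one]
      rw [← hfix g] at h1
      exact hrW ((ψ g).injective h1 ▸ hw₀)
    have hw₀1 : w₀ ≠ 1 := fun h => hgw (by rw [h, map_one]; exact one_mem _)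
    have key : ∀ a ∈ W, a ≠ 1 → ∃ g', ψ g' a = r * a := by
      intro a ha ha1
      obtain ⟨i, hi⟩ := htr a ha ha1 w₀ hw₀ hw₀1
      obtain ⟨j, hj⟩ := htr u huW hu1 a ha ha1
      refine ⟨y ^ j * g * y ^ i, ?_⟩
      rw [map_mul, map_mul, MulAut.mul_apply, MulAut.mul_apply, hi, show ψ g w₀ = r * u from (hrr _).symm,
        map_mul, hfix, hj]
    rcases hor v with hv | hv
    · obtain ⟨g', hg'⟩ := key v hv hv1
      exact ⟨g', hg'.trans (hcomm r v)⟩
    · obtain ⟨g', hg'⟩ := key (r * v) hv (fun h => hvr (by rw [← hrr v, h, mul_one]))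
      refine ⟨g', ?_⟩
      rw [map_mul, hfix, hrr] at hg'
      calc ψ g' v = r * (r * ψ g' v) := (hrr _).symm
        _ = r * v := by rw [hg']
        _ = v * r := hcomm r v
  · refine Or.inl ⟨W, hW8, ?_, y, w₁, hw₁, hmove.1⟩
    push_neg at hfix
    obtain ⟨g₀, hg₀⟩ := hfix
    let O : V → Prop := fun a => ∃ g, ψ g r = a
    have hOin : ∀ g a, O (ψ g a) → O a := by
      rintro g a ⟨g', hg'⟩
      refine ⟨g⁻¹ * g', ?_⟩
      rw [map_mul, MulAut.mul_apply, hg', map_inv, MulAut.inv_apply, MulEquiv.symm_apply_apply]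
    have hOpow : ∀ (i : ℕ) a, O a → O (ψ (y ^ i) a) := by
      rintro i _ ⟨g, rfl⟩
      exact ⟨y ^ i * g, by rw [map_mul, MulAut.mul_apply]⟩
    have hyr : ∀ i : ℕ, ψ (y ^ i) r = r := fun i => by
      induction i with
      | zero => simp
      | succ i ih => rw [pow_succ, map_mul, MulAut.mul_apply, hr, ih]
    have hO1 : ¬ O 1 := fun ⟨g, hg⟩ => hr1 ((ψ g).injective (hg.trans (map_one _).symm))
    have hOr : O r := ⟨1, by simp⟩
    -- not all non-trivial elements are conjugate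
    have hall : ¬ ∀ a, a ≠ 1 → O a := by
      intro h
      have horb : MulAction.orbit ψ.range r = {a | a ≠ 1} := by
        ext a
        constructor
        · rintro ⟨⟨_, g, rfl⟩, rfl⟩
          exact fun e => hO1 ⟨g, e⟩
        · intro ha
          obtain ⟨g, hg⟩ := h a ha
          exact ⟨⟨ψ g, g, rfl⟩, hg⟩
      have hc : Nat.card (MulAction.orbit ψ.range r) = 15 := by
        haveI := Fintype.ofFinite V
        rw [horb]
        show Nat.card {a : V // a ≠ 1} = 15
        rw [Nat.card_eq_fintype_card, Fintype.card_subtype_compl, Fintype.card_subtype_eq,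
          ← Nat.card_eq_fintype_card, hV]
      have hdvd : Nat.card (MulAction.orbit ψ.range r) ∣ Nat.card ψ.range :=
        ⟨_, by rw [← Nat.card_prod]; exact Nat.card_congr (MulAction.orbitProdStabilizerEquivGroup ψ.range r).symm⟩
      rw [card_range hL φ hφ ψ hk, hc] at hdvd
      omega
    by_cases hOW : ∃ a ∈ W, O a
    · exfalso
      obtain ⟨a, ha, hOa⟩ := hOW
      have ha1 : a ≠ 1 := fun h => hO1 (h ▸ hOa)
      have hW' : ∀ b ∈ W, b ≠ 1 → O b := fun b hb hb1 => by
        obtain ⟨i, hi⟩ := htr a ha ha1 b hb hb1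
        exact hi ▸ hOpow i a hOa
      have hP : ∀ b ∈ W, b ≠ 1 → ¬ O (r * b) := by
        intro b hb hb1 hOb
        refine hall fun c hc1 => ?_
        rcases hor c with hc | hc
        · exact hW' c hc hc1
        · by_cases hcr : r * c = 1
          · rw [← hrr c, hcr, mul_one]; exact hOr
          · obtain ⟨i, hi⟩ := htr b hb hb1 (r * c) hc hcr
            have := hOpow i _ hOb
            rwa [map_mul, hyr, hi, hrr] at this
      have hPinv : ∀ g, ∀ b ∈ W, b ≠ 1 → r * ψ g (r * b) ∈ W := by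
        intro g b hb hb1
        rcases hor (ψ g (r * b)) with h | h
        · exfalso
          have h1 : ψ g (r * b) ≠ 1 := fun e => by
            have := (ψ g).injective (e.trans (map_one _).symm)
            exact hrW (by rw [eq_inv_of_mul_eq_one_left this, hinv]; exact hb)
          exact hP b hb hb1 (hOin g _ (hW' _ h h1))
        · exact h
      have hWinv : ∀ g, ∀ b ∈ W, ψ g b ∈ W := by
        intro g b hb
        by_cases hb1 : b = 1
        · rw [hb1, map_one]; exact one_mem _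
        obtain ⟨c, hc, hc1, hcb⟩ : ∃ c ∈ W, c ≠ 1 ∧ c ≠ b := by
          by_contra h
          push_neg at h
          have : Nat.card W ≤ 2 := by
            rw [← Nat.card_fin 2]
            refine Nat.card_le_card_of_surjective (![(1 : W), ⟨b, hb⟩]) fun ⟨w, hw⟩ => ?_
            by_cases hw1 : w = 1
            · exact ⟨0, Subtype.ext hw1.symm⟩
            · exact ⟨1, Subtype.ext (h w hw hw1).symm⟩
          omega
        have hcb1 : c * b ≠ 1 := fun e => hcb (by rw [eq_inv_of_mul_eq_one_left e, hinv])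
        have h := mul_mem (hPinv g c hc hc1) (hPinv g (c * b) (mul_mem hc hb) hcb1)
        have e : r * ψ g (r * c) * (r * ψ g (r * (c * b))) = ψ g b := by
          rw [mul_assoc, ← mul_assoc (ψ g (r * c)), hcomm (ψ g (r * c)) r, mul_assoc r, hrr, ← map_mul]
          congr 1
          rw [mul_assoc, ← mul_assoc c, hcomm c r, mul_assoc r, hrr, ← mul_assoc, hexp, one_mul]
        rwa [e] at h
      obtain ⟨g, hg⟩ := hW' a ha ha1
      refine hrW ?_
      have := hWinv g⁻¹ a ha
      rwa [← hg, map_inv, MulAut.inv_apply, MulEquiv.symm_apply_apply] at this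
    · intro g b hb
      push_neg at hOW
      by_cases hb1 : b = 1
      · rw [hb1, map_one]; exact one_mem _
      by_contra hgb
      have hgr : ψ g₀ r ∉ W := fun h => hOW _ h ⟨g₀, rfl⟩
      have h2 : r * ψ g₀ r ∈ W := (hor _).resolve_left hgr
      have h21 : r * ψ g₀ r ≠ 1 := fun e => hg₀ (by rw [← hrr (ψ g₀ r), e, mul_one])
      have h3 : r * ψ g b ∈ W := (hor _).resolve_left hgb
      have hOgb : O (ψ g b) := by
        by_cases h31 : r * ψ g b = 1
        · rw [← hrr (ψ g b), h31, mul_one]; exact hOr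
        · obtain ⟨i, hi⟩ := htr _ h2 h21 _ h3 h31
          have := hOpow i _ ⟨g₀, rfl⟩
          rw [map_mul, hyr] at hi
          rwa [mul_left_cancel hi] at this
      exact hOW b hb (hOin g b hOgb)

/-- Involutions move every element outside an invariant natural submodule without fixed complement. -/
theorem eight (hL : Nat.card L = 168) (φ : Y →* L) (hφ : Function.Surjective φ) (hV : Nat.card V = 16)
    (hexp : ∀ v : V, v * v = 1) (ψ : Y →* MulAut V) (hk : ψ.ker = φ.ker) (Z : Subgroup V) (hZ : Nat.card Z = 8)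
    (hZinv : ∀ g, ∀ z ∈ Z, ψ g z ∈ Z) (hnofix : ∀ ω, ω ∉ Z → ∃ g, ψ g ω ≠ ω) (t : Y) (ht : ψ t ≠ 1)
    (ht2 : ψ t * ψ t = 1) {ω : V} (hω : ω ∉ Z) : ψ t ω ≠ ω := by
  classical
  have hinv : ∀ a : V, a⁻¹ = a := fun a => inv_eq_of_mul_eq_one_right (hexp a)
  have hcomm : ∀ a b : V, a * b = b * a := fun a b =>
    (hinv (a * b)).symm.trans (by rw [mul_inv_rev, hinv, hinv])
  obtain ⟨y, r, W, hr1, hr, hrW, hW8, hor, hd, hdsurj, htr⟩ := seven_setup hL φ hφ hV hexp ψ hk
  have hZ2 : Z.index = 2 := by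
    have := Z.card_mul_index
    rw [hZ, hV] at this
    omega
  have hZiff : ∀ g a, ψ g a ∈ Z ↔ a ∈ Z := fun g a => ⟨fun h => by
    have := hZinv g⁻¹ _ h
    rwa [map_inv, MulAut.inv_apply, MulEquiv.symm_apply_apply] at this, hZinv g a⟩
  have hWZ : W = Z := by
    refine Subgroup.eq_of_le_of_card_ge (fun w hw => ?_) (by rw [hW8, hZ])
    obtain ⟨v, rfl⟩ := hdsurj w hw
    rw [Subgroup.mul_mem_iff_of_index_two hZ2]
    exact hZiff y v
  subst hWZ
  have hyr : ∀ i : ℕ, ψ (y ^ i) r = r := fun i => by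
    induction i with
    | zero => simp
    | succ i ih => rw [pow_succ, map_mul, MulAut.mul_apply, hr, ih]
  have hrr : ∀ v, r * (r * v) = v := fun v => by rw [← mul_assoc, hexp, one_mul]
  obtain ⟨g₀, hg₀⟩ := hnofix r hrW
  have h2 : r * ψ g₀ r ∈ W := (hor _).resolve_left fun h => hrW ((hZiff g₀ r).mp h)
  have h21 : r * ψ g₀ r ≠ 1 := fun e => hg₀ (by rw [← hrr (ψ g₀ r), e, mul_one])
  have hO : ∀ a, a ∉ W → ∃ g, ψ g r = a := by
    intro a ha
    have h3 := (hor a).resolve_left ha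
    by_cases h31 : r * a = 1
    · exact ⟨1, by rw [map_one]; exact (by rw [← hrr a, h31, mul_one] : a = r).symm⟩
    · obtain ⟨i, hi⟩ := htr _ h2 h21 _ h3 h31
      rw [map_mul, hyr] at hi
      exact ⟨y ^ i * g₀, by rw [map_mul, MulAut.mul_apply]; exact mul_left_cancel hi⟩
  have horb : MulAction.orbit ψ.range r = {a | a ∉ W} := by
    ext a
    constructor
    · rintro ⟨⟨_, g, rfl⟩, rfl⟩
      exact fun e => hrW ((hZiff g r).mp e)
    · intro ha
      obtain ⟨g, hg⟩ := hO a ha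
      exact ⟨⟨ψ g, g, rfl⟩, hg⟩
  have hc : Nat.card (MulAction.orbit ψ.range r) = 8 := by
    haveI := Fintype.ofFinite V
    rw [horb]
    show Nat.card {a : V // a ∉ W} = 8
    rw [Nat.card_eq_fintype_card, Fintype.card_subtype_compl, ← Nat.card_eq_fintype_card,
      ← Nat.card_eq_fintype_card, hV, show Nat.card {a : V // a ∈ W} = 8 from hW8]
  have hS : Nat.card (MulAction.stabilizer ψ.range r) = 21 := by
    have := Nat.card_congr (MulAction.orbitProdStabilizerEquivGroup ψ.range r)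
    rw [Nat.card_prod, hc, card_range hL φ hφ ψ hk] at this
    omega
  intro hfix
  obtain ⟨g, hg⟩ := hO ω hω
  let s : ψ.range := ⟨ψ (g⁻¹ * t * g), _, rfl⟩
  have hs : s ∈ MulAction.stabilizer ψ.range r := by
    show ψ (g⁻¹ * t * g) r = r
    rw [map_mul, map_mul, MulAut.mul_apply, MulAut.mul_apply, hg, hfix, ← hg, map_inv, MulAut.inv_apply,
      MulEquiv.symm_apply_apply]
  haveI : Fact (Nat.Prime 2) := ⟨Nat.prime_two⟩
  have hord : orderOf (⟨s, hs⟩ : MulAction.stabilizer ψ.range r) = 2 := by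
    refine orderOf_eq_prime (Subtype.ext (Subtype.ext ?_)) fun e => ht ?_
    · show ψ (g⁻¹ * t * g) ^ 2 = 1
      rw [map_mul, map_mul, map_inv, show (ψ g)⁻¹ * ψ t * ψ g = MulAut.conj (ψ g)⁻¹ (ψ t) by simp,
        ← map_pow, sq, ht2, map_one]
    · have e' : ψ (g⁻¹ * t * g) = 1 := congrArg (fun u => ((u.1 : ψ.range) : MulAut V)) e
      rw [map_mul, map_mul, map_inv] at e'
      have := congrArg (fun u => ψ g * u * (ψ g)⁻¹) e'
      simpa [mul_assoc] using this
  have := orderOf_dvd_natCard (⟨s, hs⟩ : MulAction.stabilizer ψ.range r)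
  rw [hord, hS] at this
  omega

end Sixteen

end CfsgLib.SectL32
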