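/-
No extension of a homogeneous abelian group `(ℤ/4)³` by `L₃(2)` in sectional 2-rank four.
-/
import Cfsg.Agent.Lib.SectL32.Natural

set_option autoImplicit false
set_option linter.style.haveILetI false
set_option maxRecDepth 8000

namespace CfsgLib.SectL32

open scoped commutatorElement

/-- A commutator in terms of three squares. -/
theorem comm_mem {Y : Type*} [Group Y] {W : Subgroup Y} {a b : Y} (hb : ∀ w ∈ W, b * w * b⁻¹ ∈ W)
    (ha2 : a * a ∈ W) (hb2 : b * b ∈ W) (hab : a * b * (a * b) ∈ W) : ⁅a, b⁆ ∈ W := by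
  rw [commutatorElement_def, show a * b * a⁻¹ * b⁻¹ =
    (a * b * (a * b)) * ((b * b)⁻¹ * (b * (a * a)⁻¹ * b⁻¹) * (b * b) * (b * b)⁻¹) by group]
  exact mul_mem hab (mul_mem (mul_mem (mul_mem (inv_mem hb2) (hb _ (inv_mem ha2))) hb2) (inv_mem hb2))

/-- Three coordinates modulo four. -/
abbrev C4 : Type := ZMod 4 × ZMod 4 × ZMod 4

/-- The candidate actions of a lift of an element of order four. -/
def cand (v p : C4) : C4 := (p.1 + p.2.2 * v.1, p.1 + p.2.1 + p.2.2 * v.2.1, p.2.1 + p.2.2 * (1 + v.2.2))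

theorem cand_forced : ∀ v : C4, v + v = 0 → cand v (cand v (cand v (cand v (1, 0, 0)))) = (1, 0, 0) →
    1 + v.2.2 - v.2.1 + v.1 = 1 → v = (0, 2, 2) := by decide +kernel

theorem cand_fixed : ∀ q : C4, cand (0, 2, 2) q = q → ∃ x : C4,
    q + (cand (0, 2, 2) (cand (0, 2, 2) x) + x) = 0 ∨
      q + (cand (0, 2, 2) (cand (0, 2, 2) x) + x) = (0, 0, 2) := by decide +kernel

theorem cand_axis : ∀ p : C4, p.1 + p.1 = 0 →
    p + cand (0, 2, 2) (cand (0, 2, 2) p) = 0 ∨ p + cand (0, 2, 2) (cand (0, 2, 2) p) = (0, 0, 2) := by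
  decide +kernel

theorem nu_four : ∀ v : C, nu (nu (nu (nu v))) = v ∧ nu (nu v) = ta v := by decide

theorem conj_ta : ∀ v : C, sw (ta (sw v)) = tb v ∧ sh (ta (sh v)) = tc v ∧ ta (tb v) = tc v ∧ sw (sw v) = v ∧
    sh (sh v) = v := by decide

theorem four_distinct : Function.Injective (fun p : Fin 2 × Fin 2 =>
    fun v : C => (fun w => ta w)^[p.1.val] ((fun w => tb w)^[p.2.val] v)) := by decide

set_option maxHeartbeats 2000000 in
/-- The cube lemma. -/
theorem cube {X Y L : Type*} [Group X] [Finite X] [Group Y] [Finite Y] [Group L] [Finite L] [IsSimpleGroup L]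
    (hr : Cfsg.SectionalPRankLE 2 4 X) (π : X →* Y) (hπ : Function.Surjective π) (hL : Nat.card L = 168)
    (φ : Y →* L) (hφ : Function.Surjective φ) (A Ω : Subgroup Y) [A.Normal] (hAk : A ≤ φ.ker)
    (hcomm : ∀ a ∈ A, ∀ b ∈ A, a * b = b * a) (hcard : Nat.card A = 64) (h4 : ∀ a ∈ A, a ^ 4 = 1)
    (hΩdef : ∀ a, a ∈ Ω ↔ a ∈ A ∧ a * a = 1) (hΩ : Nat.card Ω = 8)
    (hker : ∀ k ∈ φ.ker, k ∈ A ∨ ∀ a ∈ A, k * a * k⁻¹ = a⁻¹)
    (hnat : ∃ y : Y, ∃ a ∈ A, y * (a * a) * y⁻¹ ≠ a * a) : False := by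
  classical
  haveI hΩn : Ω.Normal := ⟨fun w hw g => by
    rw [hΩdef] at hw ⊢
    exact ⟨(inferInstance : A.Normal).conj_mem w hw.1 g, by
      rw [show g * w * g⁻¹ * (g * w * g⁻¹) = g * (w * w) * g⁻¹ by group, hw.2, mul_one, mul_inv_cancel]⟩⟩
  letI : CommGroup A := { (inferInstance : Group A) with mul_comm := fun a b => Subtype.ext (hcomm a a.2 b b.2) }
  letI : Module (ZMod 4) (Additive A) := AddCommGroup.zmodModule (n := 4) fun a => Subtype.ext (h4 _ a.toMul.2)
  have hsqΩ : ∀ a : A, (a : Y) * a ∈ Ω := fun a => (hΩdef _).mpr ⟨mul_mem a.2 a.2, by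
    have := h4 a a.2
    simpa [pow_succ, mul_assoc] using this⟩
  let S : A →* Ω :=
    { toFun := fun a => ⟨(a : Y) * a, hsqΩ a⟩
      map_one' := Subtype.ext (mul_one 1)
      map_mul' := fun a b => Subtype.ext (by
        show (a : Y) * b * (a * b) = a * a * (b * b)
        rw [mul_assoc, ← mul_assoc (b : Y), hcomm b b.2 a a.2]; group) }
  have hSker : ∀ a : A, S a = 1 ↔ (a : Y) ∈ Ω := fun a => by
    rw [Subtype.ext_iff, hΩdef]
    exact ⟨fun h => ⟨a.2, h⟩, fun h => h.2⟩
  have hSsurj : Function.Surjective S := by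
    have hk : Nat.card S.ker = 8 := by
      rw [← hΩ]
      exact Nat.card_congr
        { toFun := fun a => ⟨((a : A) : Y), (hSker a).mp (MonoidHom.mem_ker.mp a.2)⟩
          invFun := fun w => ⟨⟨w, ((hΩdef _).mp w.2).1⟩, MonoidHom.mem_ker.mpr ((hSker _).mpr w.2)⟩
          left_inv := fun a => rfl
          right_inv := fun w => rfl }
    have h := S.ker.card_mul_index
    rw [Subgroup.index_ker, hk, hcard] at h
    exact MonoidHom.range_eq_top.mp (Subgroup.eq_top_of_card_eq _ (by rw [hΩ]; omega))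
  -- the action on the involutions
  let ψ : Y →* MulAut Ω := MulAut.conjNormal
  have hψv : ∀ g (w : Ω), ((ψ g w : Ω) : Y) = g * w * g⁻¹ := fun g w => MulAut.conjNormal_apply g w
  have hinvol : ∀ w : Ω, w * w = 1 := fun w => Subtype.ext ((hΩdef _).mp w.2).2
  have hk : φ.ker ≤ ψ.ker := fun k hk' => MonoidHom.mem_ker.mpr (MulEquiv.ext fun w => Subtype.ext (by
    rw [hψv, MulAut.one_apply]
    rcases hker k hk' with h | h
    · rw [hcomm k h w ((hΩdef _).mp w.2).1, mul_inv_cancel_right]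
    · rw [h w ((hΩdef _).mp w.2).1]
      exact inv_eq_of_mul_eq_one_right ((hΩdef _).mp w.2).2))
  obtain ⟨Φ₀⟩ := exists_coord hΩ hinvol
  obtain ⟨y₀, a₀, ha₀, hy₀⟩ := hnat
  obtain ⟨hψ, hψker⟩ := natural_surj hL φ hφ ψ hk (y₀ := y₀) (fun h => hy₀ (by
    have := hψv y₀ ⟨a₀ * a₀, hsqΩ ⟨a₀, ha₀⟩⟩
    rw [h, MulAut.one_apply] at this
    exact this.symm)) Φ₀
  -- the determinant
  let lin : Y →* (Additive A ≃ₗ[ZMod 4] Additive A) :=
    { toFun := fun g => LinearEquiv.ofBijective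
        (AddMonoidHom.toZModLinearMap 4 (MonoidHom.toAdditive (MulAut.conjNormal (H := A) g).toMonoidHom))
        (MulAut.conjNormal (H := A) g).bijective
      map_one' := LinearEquiv.ext fun a => by
        show Additive.ofMul (MulAut.conjNormal (H := A) (1 : Y) a.toMul) = a
        rw [map_one]; rfl
      map_mul' := fun g g' => LinearEquiv.ext fun a => by
        show Additive.ofMul (MulAut.conjNormal (H := A) (g * g') a.toMul) = _
        rw [map_mul]; rfl }
  have hlin : ∀ g a, (((lin g a).toMul : A) : Y) = g * (a.toMul : A) * g⁻¹ := fun g a =>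
    MulAut.conjNormal_apply g a.toMul
  let d : Y →* (ZMod 4)ˣ := LinearEquiv.det.comp lin
  have hdA : ∀ a ∈ A, d a = 1 := fun a ha => by
    show LinearEquiv.det (lin a) = 1
    rw [show lin a = 1 from LinearEquiv.ext fun b => by
      apply Additive.toMul.injective
      apply Subtype.ext
      rw [hlin, hcomm a ha _ b.toMul.2, mul_inv_cancel_right]
      rfl, map_one]
  have hadj : ∀ y : Y, ∃ y', φ y' = φ y ∧ d y' = 1 := fun y => by
    have h := hom_trivial hL φ hφ (A := (ZMod 4)ˣ ⧸ φ.ker.map d) ((QuotientGroup.mk' (φ.ker.map d)).comp d) (fun k hk' => by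
      rw [MonoidHom.mem_ker, MonoidHom.comp_apply, QuotientGroup.mk'_apply, QuotientGroup.eq_one_iff]
      exact Subgroup.mem_map_of_mem d hk') y
    obtain ⟨k, hk', hdk⟩ := (QuotientGroup.eq_one_iff (N := φ.ker.map d) _).mp h
    exact ⟨y * k⁻¹, by rw [map_mul, map_inv, MonoidHom.mem_ker.mp hk', inv_one, mul_one],
      by rw [map_mul, map_inv, hdk, mul_inv_cancel]⟩
  -- the lifts of the transvections
  have main : ∀ Φ : Coord Ω, ∃ g : Y, (∀ n, co Φ (ψ g n) = ta (co Φ n)) ∧ d g = 1 ∧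
      (∀ k, φ k = 1 → d k = 1 → k ∈ A) ∧
      ∃ e : Ω, co Φ e = e₀ ∧ g * g ∈ Subgroup.zpowers (e : Y) ∧
        ∀ a : A, (co Φ (S a)).1 = 0 → (a : Y) * (g * a * g⁻¹) ∈ Subgroup.zpowers (e : Y) := by
    intro Φ
    obtain ⟨u', hu'⟩ := exists_act hψ Φ nu
    obtain ⟨u, huφ, hud⟩ := hadj u'
    have hu : ∀ n, co Φ (ψ u n) = nu (co Φ n) := by
      have he : ψ u = ψ u' := (MonoidHom.eq_iff ψ).mpr (by
        rw [hψker]; exact (MonoidHom.eq_iff φ).mp huφ)
      intro n; rw [he]; exact hu' n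
    let c : Additive A →+ C :=
      { toFun := fun a => co Φ (S a.toMul)
        map_zero' := by rw [toMul_zero, map_one, co_one]
        map_add' := fun a b => by rw [toMul_add, map_mul, co_mul] }
    have hcS : ∀ g a, S ((lin g a).toMul) = ψ g (S a.toMul) := fun g a => Subtype.ext (by
      rw [hψv]
      show (((lin g a).toMul : A) : Y) * ((lin g a).toMul : A) = g * (((a.toMul : A) : Y) * (a.toMul : A)) * g⁻¹
      rw [hlin]; group)
    have hcu : ∀ a, c (lin u a) = nu (c a) := fun a => by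
      show co Φ (S (lin u a).toMul) = _
      rw [hcS, hu]; rfl
    obtain ⟨n₀, hn₀⟩ := co_surj Φ (1, 0, 0)
    obtain ⟨x', hx'⟩ := hSsurj n₀
    set x : Additive A := Additive.ofMul x' with hxdef
    have hcx : c x = (1, 0, 0) := by show co Φ (S x') = _; rw [hx', hn₀]
    set k : Additive A := lin u x - x with hkdef
    have hck : c k = (0, 1, 0) := by rw [hkdef, map_sub, hcu, hcx]; decide
    set w : Additive A := lin u k - k with hwdef
    have hcw : c w = e₀ := by rw [hwdef, map_sub, hcu, hck]; decide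
    let G : C4 →ₗ[ZMod 4] Additive A :=
      (LinearMap.toSpanSingleton (ZMod 4) _ x).coprod
        ((LinearMap.toSpanSingleton (ZMod 4) _ k).coprod (LinearMap.toSpanSingleton (ZMod 4) _ w))
    have hG : ∀ p : C4, G p = p.1 • x + (p.2.1 • k + p.2.2 • w) := fun p => rfl
    have hS0 : ∀ a, c a = 0 → ∃ b, a = b + b := by
      intro a ha
      have h := (hSker _).mp ((co_eq_zero Φ).mp ha)
      obtain ⟨b, hb⟩ := hSsurj ⟨_, h⟩
      refine ⟨Additive.ofMul b, Additive.toMul.injective (Subtype.ext ?_)⟩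
      exact (congrArg Subtype.val hb).symm
    have hGsurj : Function.Surjective G := by
      have hmodC : ∀ v : C, ∃ p : C4, c (G p) = v := by
        have h1 : ∀ v : C, ∃ i j l : Fin 2, v = (i : ℕ) • ((1, 0, 0) : C) + ((j : ℕ) • (0, 1, 0) + (l : ℕ) • e₀) := by
          decide
        intro v
        obtain ⟨i, j, l, rfl⟩ := h1 v
        refine ⟨((i : ℕ), (j : ℕ), (l : ℕ)), ?_⟩
        rw [hG]
        simp only [Nat.cast_smul_eq_nsmul, map_add, map_nsmul, hcx, hck, hcw]
      have step : ∀ a, ∃ p b, a = G p + (b + b) := by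
        intro a
        obtain ⟨p, hp⟩ := hmodC (c a)
        obtain ⟨b, hb⟩ := hS0 (a - G p) (by rw [map_sub, hp, sub_self])
        exact ⟨p, b, by rw [← hb]; abel⟩
      intro a
      obtain ⟨p, b, rfl⟩ := step a
      obtain ⟨p', b', rfl⟩ := step b
      refine ⟨p + (p' + p'), ?_⟩
      have h0 : b' + b' + (b' + b') = 0 := Additive.toMul.injective (Subtype.ext (by
        have := h4 _ b'.toMul.2
        simpa [pow_succ, mul_assoc] using this))
      rw [map_add, map_add, show G p' + (b' + b') + (G p' + (b' + b')) = G p' + G p' + (b' + b' + (b' + b')) by abel,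
        h0, add_zero]
    let E : C4 ≃ₗ[ZMod 4] Additive A := LinearEquiv.ofBijective G ((Nat.bijective_iff_surjective_and_card G).mpr
      ⟨hGsurj, by
        show Nat.card C4 = Nat.card A
        rw [hcard, Nat.card_prod, Nat.card_prod, Nat.card_zmod]⟩)
    have hE : ∀ p : C4, E p = p.1 • x + (p.2.1 • k + p.2.2 • w) := hG
    -- the matrix
    have hv2 : c (lin u w - w) = 0 := by rw [map_sub, hcu, hcw]; decide
    obtain ⟨b, hb⟩ := hS0 _ hv2
    set v : C4 := E.symm (lin u w - w) with hvdef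
    have hv : v + v = 0 := by
      rw [hvdef, ← map_add, hb, map_eq_zero_iff _ E.symm.injective]
      exact Additive.toMul.injective (Subtype.ext (by
        have := h4 _ b.toMul.2
        simpa [pow_succ, mul_assoc] using this))
    have hEv : E v = lin u w - w := E.apply_symm_apply _
    have hU : ∀ p : C4, lin u (E p) = E (cand v p) := by
      intro p
      rw [hE p, hE (cand v p)]
      have ex : lin u x = x + k := by rw [hkdef]; abel
      have ek : lin u k = k + w := by rw [hwdef]; abel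
      have ew : lin u w = w + E v := by rw [hEv]; abel
      simp only [map_add, map_smul, ex, ek, ew, hE v, cand, smul_add, add_smul, mul_smul, one_smul]
      abel
    let M : Matrix (Fin 3) (Fin 3) (ZMod 4) := !![1, 0, v.1; 1, 1, v.2.1; 0, 1, 1 + v.2.2]
    let P : (Fin 3 → ZMod 4) ≃ₗ[ZMod 4] C4 :=
      { toFun := fun f => (f 0, f 1, f 2)
        map_add' := fun f g => rfl
        map_smul' := fun r f => rfl
        invFun := fun p => ![p.1, p.2.1, p.2.2]
        left_inv := fun f => by funext i; fin_cases i <;> rfl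
        right_inv := fun p => rfl }
    have hdet : ∀ g, ((d g : (ZMod 4)ˣ) : ZMod 4) = LinearMap.det (lin g).toLinearMap := fun g =>
      LinearEquiv.coe_det (lin g)
    have hmat : (lin u).toLinearMap =
        (P.trans E).toLinearMap ∘ₗ Matrix.toLin' M ∘ₗ (P.trans E).symm.toLinearMap := by
      refine LinearMap.ext fun a => ?_
      obtain ⟨f, rfl⟩ := (P.trans E).surjective a
      simp only [LinearEquiv.coe_coe, LinearMap.comp_apply, LinearEquiv.symm_apply_apply]
      show lin u (E (P f)) = E (P (Matrix.toLin' M f))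
      rw [hU]
      congr 1
      have hP : ∀ f, P f = (f 0, f 1, f 2) := fun f => rfl
      rw [hP, hP]
      refine Prod.ext ?_ (Prod.ext ?_ ?_) <;>
        simp [M, cand, Matrix.toLin'_apply, Matrix.mulVec, dotProduct, Fin.sum_univ_three] <;> ring
    haveI : Nontrivial (ZMod 4) := ⟨0, 1, by decide⟩
    haveI : Module.Free (ZMod 4) (Additive A) := Module.Free.of_equiv (P.trans E)
    have hdetu : 1 + v.2.2 - v.2.1 + v.1 = 1 := by
      have h := hdet u
      rw [hud, hmat, LinearMap.det_conj, LinearMap.det_toLin', Matrix.det_fin_three] at h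
      simp [M] at h
      linear_combination -h
    have hmem : ∀ k', φ k' = 1 → d k' = 1 → k' ∈ A := by
      intro k' hk1 hk2
      refine (hker k' hk1).resolve_right fun hinv => ?_
      have hneg : (lin k').toLinearMap = (-1 : ZMod 4) • LinearMap.id := LinearMap.ext fun a => by
        rw [LinearMap.smul_apply, LinearMap.id_apply, neg_one_smul]
        apply Additive.toMul.injective
        apply Subtype.ext
        show (((lin k' a).toMul : A) : Y) = _
        rw [hlin, hinv _ a.toMul.2]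
        rfl
      have h := hdet k'
      rw [hk2, hneg, LinearMap.det_smul, LinearMap.det_id, LinearEquiv.finrank_eq (P.trans E).symm,
        Module.finrank_fin_fun] at h
      revert h
      decide
    have hu4 : u ^ 4 ∈ A := by
      refine hmem _ (MonoidHom.mem_ker.mp (hψker ▸ MonoidHom.mem_ker.mpr ?_)) (by rw [map_pow, hud, one_pow])
      refine MulEquiv.ext fun n => co_inj Φ ?_
      rw [map_pow]
      simp only [pow_succ, pow_zero, one_mul, MulAut.mul_apply, hu, (nu_four _).1, MulAut.one_apply]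
    have hfix4 : ∀ a, lin u (lin u (lin u (lin u a))) = a := fun a => by
      have h : lin (u ^ 4) a = a := Additive.toMul.injective (Subtype.ext (by
        rw [hlin, hcomm _ hu4 _ a.toMul.2, mul_inv_cancel_right]))
      rw [map_pow] at h
      simpa [pow_succ] using h
    have hv0 : v = (0, 2, 2) := by
      refine cand_forced v hv (E.injective ?_) hdetu
      rw [← hU, ← hU, ← hU, ← hU]
      exact hfix4 _
    rw [hv0] at hU
    -- the fixed element and the adjustment
    set q : Additive A := Additive.ofMul ⟨u ^ 4, hu4⟩ with hqdef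
    have hq : lin u q = q := Additive.toMul.injective (Subtype.ext (by
      rw [hlin, hqdef, toMul_ofMul]
      show u * u ^ 4 * u⁻¹ = u ^ 4
      group))
    obtain ⟨xq, hxq⟩ := cand_fixed (E.symm q) (E.injective (by rw [← hU, E.apply_symm_apply, hq]))
    obtain ⟨e, he⟩ := co_surj Φ e₀
    have heW : ∀ p : C4, p = 0 ∨ p = (0, 0, 2) → (((E p).toMul : A) : Y) ∈ Subgroup.zpowers (e : Y) := by
      rintro p (rfl | rfl)
      · rw [map_zero]; exact one_mem _
      · rw [hE, zero_smul, zero_smul, zero_add, zero_add, show (2 : ZMod 4) = 1 + 1 from rfl, add_smul, one_smul]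
        have : S w.toMul = e := co_inj Φ (hcw.trans he.symm)
        rw [← congrArg Subtype.val this]
        exact Subgroup.mem_zpowers _
    set a := E xq with hadef
    set g : Y := u * u * (a.toMul : A) with hgdef
    have hgA : ∀ b : Additive A, g * (b.toMul : A) * g⁻¹ = (((lin u (lin u b)).toMul : A) : Y) := by
      intro b
      rw [hlin, hlin, hgdef]
      have := hcomm _ a.toMul.2 _ b.toMul.2
      calc u * u * (a.toMul : A) * (b.toMul : A) * (u * u * ((a.toMul : A) : Y))⁻¹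
          = u * u * (((a.toMul : A) : Y) * (b.toMul : A) * ((a.toMul : A) : Y)⁻¹) * (u * u)⁻¹ := by group
        _ = u * u * ((b.toMul : A) : Y) * (u * u)⁻¹ := by rw [this, mul_inv_cancel_right]
        _ = _ := by group
    refine ⟨g, fun n => ?_, ?_, hmem, e, he, ?_, fun b hb => ?_⟩
    · have hA1 : ψ ((a.toMul : A) : Y) = 1 := MonoidHom.mem_ker.mp (hk (hAk a.toMul.2))
      rw [hgdef, map_mul, map_mul, hA1, mul_one, MulAut.mul_apply, hu, hu, (nu_four _).2]
    · rw [hgdef, map_mul, map_mul, hud, hdA _ a.toMul.2, one_mul, one_mul]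
    · have h1 : g * g = (((q + (lin u (lin u a) + a)).toMul : A) : Y) := by
        rw [toMul_add, toMul_add, Subgroup.coe_mul, Subgroup.coe_mul, hlin, hlin, hqdef, toMul_ofMul, hgdef]
        have hc4 := hcomm _ hu4 _ a.toMul.2
        generalize ((a.toMul : A) : Y) = b at hc4 ⊢
        show u * u * b * (u * u * b) = u ^ 4 * (u * (u * b * u⁻¹) * u⁻¹ * b)
        have e4 : u ^ 4 = u * u * (u * u) := by simp [pow_succ, mul_assoc]
        rw [show u * (u * b * u⁻¹) * u⁻¹ = u * u * b * (u * u)⁻¹ by group]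
        rw [e4] at hc4 ⊢
        generalize u * u = h at hc4 ⊢
        calc h * b * (h * b) = h * (b * (h * h)) * h⁻¹ * b := by group
          _ = h * (h * h * b) * h⁻¹ * b := by rw [hc4]
          _ = _ := by group
      rw [h1, show q + (lin u (lin u a) + a) =
        E (E.symm q + (cand (0, 2, 2) (cand (0, 2, 2) xq) + xq)) by
          rw [map_add, map_add, ← hU, ← hU, E.apply_symm_apply]]
      exact heW _ hxq
    · have hgb := hgA (Additive.ofMul b)
      rw [toMul_ofMul] at hgb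
      rw [hgb, ← Subgroup.coe_mul]
      obtain ⟨p, hp⟩ := E.surjective (Additive.ofMul b)
      have h1 : p.1 + p.1 = 0 := by
        have e1 : c (E p) = (p.1.val • (1, 0, 0) : C) + (p.2.1.val • (0, 1, 0) + p.2.2.val • e₀) := by
          rw [hE]
          conv_lhs => rw [← ZMod.natCast_zmod_val p.1, ← ZMod.natCast_zmod_val p.2.1, ← ZMod.natCast_zmod_val p.2.2]
          simp only [Nat.cast_smul_eq_nsmul, map_add, map_nsmul, hcx, hck, hcw]
        have e2 : (c (E p)).1 = 0 := by rw [hp]; exact hb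
        rw [e1] at e2
        revert e2
        generalize p.1 = i
        generalize p.2.1.val = j
        generalize p.2.2.val = l
        intro e2
        simp at e2
        revert e2
        revert i
        decide
      rw [show b * (lin u (lin u (Additive.ofMul b))).toMul =
        ((E (p + cand (0, 2, 2) (cand (0, 2, 2) p))).toMul : A) by
          rw [map_add, ← hU, ← hU, hp, toMul_add, toMul_ofMul]]
      exact heW _ (cand_axis p h1)
  -- three commuting transvections
  obtain ⟨g₁, hg₁, hd₁, hmem, e, he, hs₁, hx₁⟩ := main Φ₀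
  obtain ⟨g₂, hg₂, hd₂, -, e', he', hs₂, hx₂⟩ := main (recoord Φ₀ sw)
  obtain ⟨g₃, hg₃, hd₃, -, e'', he'', hs₃, hx₃⟩ := main (recoord Φ₀ sh)
  have ee' : e' = e := co_inj Φ₀ (sw.injective (by rw [← co_recoord, he', he]; decide))
  have ee'' : e'' = e := co_inj Φ₀ (sh.injective (by rw [← co_recoord, he'', he]; decide))
  rw [ee'] at hs₂ hx₂
  rw [ee''] at hs₃ hx₃
  clear ee' ee'' he' he'' e' e''
  have hg₂' : ∀ n, co Φ₀ (ψ g₂ n) = tb (co Φ₀ n) := fun n => by
    have := hg₂ n
    rw [co_recoord, co_recoord] at this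
    rw [← (conj_ta (co Φ₀ n)).1, ← this, (conj_ta _).2.2.2.1]
  have hg₃' : ∀ n, co Φ₀ (ψ g₃ n) = tc (co Φ₀ n) := fun n => by
    have := hg₃ n
    rw [co_recoord, co_recoord] at this
    rw [← (conj_ta (co Φ₀ n)).2.1, ← this, (conj_ta _).2.2.2.2]
  set W := Subgroup.zpowers (e : Y) with hWdef
  have hWcard : Nat.card W = 2 := by
    rw [hWdef, Nat.card_zpowers]
    refine orderOf_eq_prime (by rw [sq]; exact ((hΩdef _).mp e.2).2) fun h => ?_
    have : co Φ₀ e = 0 := (co_eq_zero Φ₀).mpr (Subtype.ext h)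
    rw [he] at this
    exact absurd this (by decide)
  have hWA : W ≤ A := Subgroup.zpowers_le.mpr ((hΩdef _).mp e.2).1
  -- the exponent of `W`-squares
  let B : Subgroup Y := (W.comap (Ω.subtype.comp S)).map A.subtype
  have hBmem : ∀ b, b ∈ B ↔ b ∈ A ∧ b * b ∈ W := fun b => by
    constructor
    · rintro ⟨a, ha, rfl⟩
      exact ⟨a.2, ha⟩
    · rintro ⟨hb, hb2⟩
      exact ⟨⟨b, hb⟩, hb2, rfl⟩
  have hBA : B ≤ A := fun b hb => ((hBmem b).mp hb).1
  have hBcard : 16 ≤ Nat.card B := by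
    obtain ⟨a₁, ha₁⟩ := hSsurj e
    have ha₁Ω : (a₁ : Y) ∉ Ω := fun h => by
      rw [(hSker a₁).mpr h] at ha₁
      rw [← ha₁, co_one] at he
      exact absurd he (by decide)
    have := card_join (T := A ⧸ (Ω.subgroupOf A)) (Y := A) (QuotientGroup.mk' _) (Ω.subgroupOf A)
      (W.comap (Ω.subtype.comp S)) (fun b hb => by
        show ((S b : Ω) : Y) ∈ W
        rw [(hSker b).mpr hb]; exact one_mem _)
      (by rw [QuotientGroup.ker_mk']) (![(1 : A), a₁]) (fun i => by
        fin_cases i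
        · exact one_mem _
        · show ((S a₁ : Ω) : Y) ∈ W
          rw [ha₁]; exact Subgroup.mem_zpowers _) (by
        intro i j h
        fin_cases i <;> fin_cases j <;> first
          | rfl
          | exact absurd ((QuotientGroup.eq_one_iff (N := Ω.subgroupOf A) a₁).mp h) ha₁Ω
          | exact absurd ((QuotientGroup.eq_one_iff (N := Ω.subgroupOf A) a₁).mp h.symm) ha₁Ω)
    rw [Nat.card_congr (Subgroup.subgroupOfEquivOfLe fun w hw => ((hΩdef w).mp hw).1).toEquiv, hΩ,
      Nat.card_fin] at this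
    rw [Subgroup.card_map_of_injective A.subtype_injective]
    omega
  have hax : ∀ b : A, (b : Y) ∈ B → (co Φ₀ (S b)).1 = 0 ∧ (co Φ₀ (S b)).2.1 = 0 := by
    intro b hb
    obtain ⟨i, hi⟩ := Subgroup.mem_zpowers_iff.mp ((hBmem _).mp hb).2
    have : S b = e ^ i := Subtype.ext (by rw [Subgroup.coe_zpow, hi]; rfl)
    rw [this]
    rcases Int.even_or_odd i with ⟨m, rfl⟩ | ⟨m, rfl⟩
    · rw [← two_mul, zpow_mul, zpow_two, hinvol, one_zpow, co_one]; decide
    · rw [zpow_add, zpow_one, zpow_mul, zpow_two, hinvol, one_zpow, one_mul, he]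
      decide
  -- adjusting
  have hd₁₂ : φ (g₃⁻¹ * (g₁ * g₂)) = 1 := by
    rw [← MonoidHom.mem_ker, ← hψker, MonoidHom.mem_ker, map_mul, map_inv, inv_mul_eq_one, map_mul]
    refine MulEquiv.ext fun n => co_inj Φ₀ ?_
    rw [MulAut.mul_apply, hg₃', hg₁, hg₂', (conj_ta _).2.2.1]
  set y : A := ⟨g₃⁻¹ * (g₁ * g₂), hmem _ hd₁₂ (by rw [map_mul, map_inv, map_mul, hd₁, hd₂, hd₃]; simp)⟩ with hydef
  obtain ⟨n₁, hn₁⟩ := co_surj Φ₀ (0, (co Φ₀ (S y)).2.1, 0)
  obtain ⟨y₁, hy₁⟩ := hSsurj n₁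
  obtain ⟨n₂, hn₂⟩ := co_surj Φ₀ ((co Φ₀ (S y)).1, 0, 0)
  obtain ⟨y₂, hy₂⟩ := hSsurj n₂
  have hgsq : ∀ (g : Y) (a : A), g * g ∈ W → (a : Y) * (g * a * g⁻¹) ∈ W → g * a * (g * a) ∈ W := by
    intro g a hgg h
    have hc' := hcomm _ (hWA hgg) a a.2
    rw [show g * (a : Y) * (g * a) = g * a * (g * g) * g⁻¹ * a by group,
      show g * (a : Y) * (g * g) = g * (g * g * a) by rw [hc']; group,
      show g * (g * g * (a : Y)) * g⁻¹ * a = g * g * ((g * a * g⁻¹) * a) by group,
      hcomm (g * a * g⁻¹) ((inferInstance : A.Normal).conj_mem _ a.2 g) a a.2]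
    exact mul_mem hgg h
  have hA1 : ∀ a ∈ A, ψ a = 1 := fun a ha => MonoidHom.mem_ker.mp (hk (hAk ha))
  set G₁ := g₁ * (y₁ : Y) with hG₁
  set G₂ := g₂ * (y₂ : Y) with hG₂
  have hG₁2 : G₁ * G₁ ∈ W := hgsq g₁ y₁ hs₁ (hx₁ y₁ (by rw [hy₁, hn₁]))
  have hG₂2 : G₂ * G₂ ∈ W := hgsq g₂ y₂ hs₂ (hx₂ y₂ (by rw [co_recoord, hy₂, hn₂]; rfl))
  have hG12 : G₁ * G₂ * (G₁ * G₂) ∈ W := by
    set z : A := y * ⟨g₂⁻¹ * (y₁ : Y) * g₂, (inferInstance : A.Normal).conj_mem' _ y₁.2 g₂⟩ * y₂ with hz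
    have e1 : G₁ * G₂ = g₃ * (z : Y) := by rw [hz, Subgroup.coe_mul, Subgroup.coe_mul, hydef, hG₁, hG₂]; group
    rw [e1]
    refine hgsq g₃ z hs₃ (hx₃ z ?_)
    have e2 : S ⟨g₂⁻¹ * (y₁ : Y) * g₂, (inferInstance : A.Normal).conj_mem' _ y₁.2 g₂⟩ = ψ g₂⁻¹ (S y₁) :=
      Subtype.ext (by rw [hψv]; show g₂⁻¹ * (y₁ : Y) * g₂ * (g₂⁻¹ * y₁ * g₂) = g₂⁻¹ * ((y₁ : Y) * y₁) * g₂⁻¹⁻¹; group)
    have e3 : ψ g₂⁻¹ n₁ = ψ g₂ n₁ := by
      apply (ψ g₂).injective
      rw [map_inv, MulAut.inv_apply, MulEquiv.apply_symm_apply]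
      apply co_inj Φ₀
      rw [hg₂', hg₂', hn₁]
      generalize (co Φ₀ (S y)).2.1 = j
      revert j; decide
    rw [co_recoord, hz, map_mul, map_mul, co_mul, co_mul, e2, hy₁, hy₂, e3, hg₂', hn₁, hn₂]
    generalize co Φ₀ (S y) = v
    revert v; decide
  have hGW : ∀ (G : Y), (∀ n, co Φ₀ (ψ G n) = ta (co Φ₀ n)) ∨ (∀ n, co Φ₀ (ψ G n) = tb (co Φ₀ n)) →
      ∀ w ∈ W, G * w * G⁻¹ = w := by
    intro G hG w hw
    obtain ⟨i, rfl⟩ := Subgroup.mem_zpowers_iff.mp hw
    rw [← conj_zpow]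
    congr 1
    have : ψ G e = e := co_inj Φ₀ (by
      rcases hG with h | h <;> rw [h, he] <;> decide)
    rw [← hψv G e, this]
  have hG₁a : ∀ n, co Φ₀ (ψ G₁ n) = ta (co Φ₀ n) := fun n => by rw [hG₁, map_mul, hA1 _ y₁.2, mul_one]; exact hg₁ n
  have hG₂a : ∀ n, co Φ₀ (ψ G₂ n) = tb (co Φ₀ n) := fun n => by rw [hG₂, map_mul, hA1 _ y₂.2, mul_one]; exact hg₂' n
  have hcB : ∀ (g : Y) (a : A) (b : Y), b ∈ B →
      ((h : b ∈ A) → (b * (g * b * g⁻¹) ∈ W)) → ⁅g * (a : Y), b⁆ ∈ W := by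
    intro g a b hb h
    have hbA := hBA hb
    rw [commutatorElement_def, show g * (a : Y) * b * (g * a)⁻¹ * b⁻¹ = g * (a * b * (a : Y)⁻¹) * g⁻¹ * b⁻¹ by group,
      hcomm a a.2 b hbA, mul_inv_cancel_right,
      show g * b * g⁻¹ * b⁻¹ = g * b * g⁻¹ * b * (b * b)⁻¹ by group,
      hcomm (g * b * g⁻¹) ((inferInstance : A.Normal).conj_mem _ hbA g) b hbA]
    exact mul_mem (h hbA) (inv_mem ((hBmem b).mp hb).2)
  have hB₁ : ∀ b ∈ B, ⁅G₁, b⁆ ∈ W := fun b hb => hcB g₁ y₁ b hb fun h => hx₁ ⟨b, h⟩ (hax ⟨b, h⟩ hb).1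
  have hB₂ : ∀ b ∈ B, ⁅G₂, b⁆ ∈ W := fun b hb => hcB g₂ y₂ b hb fun h => hx₂ ⟨b, h⟩ (by
    rw [co_recoord]; exact (hax ⟨b, h⟩ hb).2)
  have hflip : ∀ {a b : Y}, ⁅a, b⁆ ∈ W → ⁅b, a⁆ ∈ W := fun h => by rw [← commutatorElement_inv]; exact inv_mem h
  set s : Set Y := (B : Set Y) ∪ {G₁, G₂} with hs
  have hsect := sect_le hr π hπ s W
    ((Subgroup.zpowers_le.mpr ((hBmem _).mpr ⟨((hΩdef _).mp e.2).1, by
      rw [((hΩdef _).mp e.2).2]; exact one_mem _⟩)).trans
      (fun b hb => Subgroup.subset_closure (Or.inl hb)))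
    (by
      rintro a (ha | rfl | rfl) w hw
      · rw [hcomm a (hBA ha) w (hWA hw), mul_inv_cancel_right]; exact hw
      · rw [hGW _ (Or.inl hG₁a) w hw]; exact hw
      · rw [hGW _ (Or.inr hG₂a) w hw]; exact hw)
    (by
      rintro a (ha | rfl | rfl)
      · exact ((hBmem a).mp ha).2
      · exact hG₁2
      · exact hG₂2)
    (by
      have h12 : ⁅G₁, G₂⁆ ∈ W := comm_mem (fun w hw => by rw [hGW _ (Or.inr hG₂a) w hw]; exact hw) hG₁2 hG₂2 hG12
      rintro a (ha | rfl | rfl) b (hb | rfl | rfl)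
      · rw [commutatorElement_eq_one_iff_mul_comm.mpr (hcomm a (hBA ha) b (hBA hb))]; exact one_mem _
      · exact hflip (hB₁ a ha)
      · exact hflip (hB₂ a ha)
      · exact hB₁ b hb
      · rw [commutatorElement_self]; exact one_mem _
      · exact h12
      · exact hB₂ b hb
      · exact hflip h12
      · rw [commutatorElement_self]; exact one_mem _)
  have hG₁s : G₁ ∈ Subgroup.closure s := Subgroup.subset_closure (Or.inr (Or.inl rfl))
  have hG₂s : G₂ ∈ Subgroup.closure s := Subgroup.subset_closure (Or.inr (Or.inr rfl))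
  have hcard' := card_join ψ B (Subgroup.closure s) (fun b hb => Subgroup.subset_closure (Or.inl hb))
    (fun b hb => MonoidHom.mem_ker.mpr (hA1 b (hBA hb)))
    (fun p : Fin 2 × Fin 2 => G₁ ^ p.1.val * G₂ ^ p.2.val)
    (fun p => mul_mem (pow_mem hG₁s _) (pow_mem hG₂s _))
    (by
      intro p p' h
      refine four_distinct (funext fun v => ?_)
      obtain ⟨n, rfl⟩ := co_surj Φ₀ v
      have key : ∀ (G : Y) (f : C ≃+ C), (∀ n, co Φ₀ (ψ G n) = f (co Φ₀ n)) → ∀ (i : ℕ) n,
          co Φ₀ (ψ (G ^ i) n) = (fun w => f w)^[i] (co Φ₀ n) := by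
        intro G f hf i
        induction i with
        | zero => simp
        | succ i ih => intro n; rw [pow_succ', map_mul, MulAut.mul_apply, hf, ih, Function.iterate_succ_apply']
      have h' := congrArg (fun f : MulAut Ω => co Φ₀ (f n)) h
      simp only [Function.comp_apply, map_mul, MulAut.mul_apply, key _ _ hG₁a, key _ _ hG₂a] at h'
      exact h')
  rw [Nat.card_prod, Nat.card_fin] at hcard'
  rw [hWcard] at hsect
  omega

end CfsgLib.SectL32
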