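/-
An abelian kernel with sixteen involutions over `L₃(2)` in sectional 2-rank four.
-/
import Cfsg.Agent.Lib.SectL32.Cube

set_option autoImplicit false
set_option linter.style.haveILetI false
set_option maxRecDepth 8000

namespace CfsgLib.SectL32

open scoped commutatorElement

theorem ta_fixed : ∀ v : C, (ta v = v ↔ v.1 = 0) ∧ (nu v = v → v = 0 ∨ v = e₀) ∧ nu (nu v) = ta v := by decide

/-- The order of the image of a subgroup containing the kernel. -/
theorem card_map_mul {Y T : Type*} [Group Y] [Finite Y] [Group T] (f : Y →* T) (H : Subgroup Y) (h : f.ker ≤ H) :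
    Nat.card (H.map f) * Nat.card f.ker = Nat.card H := by
  rw [← Subgroup.relIndex_bot_left (H.map f), ← Subgroup.relIndex_comap, MonoidHom.comap_bot,
    ← Subgroup.relIndex_bot_left f.ker, mul_comm, Subgroup.relIndex_mul_relIndex ⊥ f.ker H bot_le h,
    Subgroup.relIndex_bot_left]

set_option maxHeartbeats 2000000 in
/-- The abelian lemma. -/
theorem abel {X Y L : Type*} [Group X] [Finite X] [Group Y] [Finite Y] [Group L] [Finite L] [IsSimpleGroup L]
    (hr : Cfsg.SectionalPRankLE 2 4 X) (π : X →* Y) (hπ : Function.Surjective π) (hL : Nat.card L = 168)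
    (φ : Y →* L) (hφ : Function.Surjective φ) (R Ω Z : Subgroup Y) [R.Normal] [Z.Normal] (hRk : φ.ker = R)
    (hcomm : ∀ a ∈ R, ∀ b ∈ R, a * b = b * a) (h4 : ∀ a ∈ R, a ^ 4 = 1)
    (hΩdef : ∀ a, a ∈ Ω ↔ a ∈ R ∧ a * a = 1) (hΩ : Nat.card Ω = 16) (hZΩ : Z ≤ Ω) (hZ : Nat.card Z = 8)
    (hsq : ∀ z ∈ Z, ∃ a ∈ R, a * a = z) (hnat : ∃ y : Y, ∃ z ∈ Z, y * z * y⁻¹ ≠ z)
    (hfix : (∀ a ∈ R, a * a ∈ Z) ∨ ∀ ω ∈ Ω, ω ∉ Z → ∃ y : Y, y * ω * y⁻¹ ≠ ω) : False := by
  classical
  have hΩR : Ω ≤ R := fun a ha => ((hΩdef a).mp ha).1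
  haveI hΩn : Ω.Normal := ⟨fun w hw g => by
    rw [hΩdef] at hw ⊢
    exact ⟨(inferInstance : R.Normal).conj_mem w hw.1 g, by
      rw [show g * w * g⁻¹ * (g * w * g⁻¹) = g * (w * w) * g⁻¹ by group, hw.2, mul_one, mul_inv_cancel]⟩⟩
  by_cases hnf : ∀ ω ∈ Ω, ω ∉ Z → ∃ y : Y, y * ω * y⁻¹ ≠ ω
  swap
  · -- a fixed involution outside `Z`
    have hsqZ := hfix.resolve_right hnf
    push_neg at hnf
    obtain ⟨ω, hωΩ, hωZ, hω⟩ := hnf
    haveI : (Subgroup.zpowers ω).Normal := ⟨fun w hw g => by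
      obtain ⟨i, rfl⟩ := Subgroup.mem_zpowers_iff.mp hw
      rw [← conj_zpow, hω]
      exact hw⟩
    have hω1 : ω ≠ 1 := fun h => hωZ (h ▸ one_mem _)
    have hωcard : Nat.card (Subgroup.zpowers ω) = 2 := by
      rw [Nat.card_zpowers]
      exact orderOf_eq_prime (by rw [sq]; exact ((hΩdef ω).mp hωΩ).2) hω1
    have hmem : ∀ w ∈ Subgroup.zpowers ω, w = 1 ∨ w = ω := by
      intro w hw
      obtain ⟨i, rfl⟩ := Subgroup.mem_zpowers_iff.mp hw
      rcases Int.even_or_odd i with ⟨m, rfl⟩ | ⟨m, rfl⟩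
      · left; rw [← two_mul, zpow_mul, zpow_two, ((hΩdef ω).mp hωΩ).2, one_zpow]
      · right; rw [zpow_add, zpow_one, zpow_mul, zpow_two, ((hΩdef ω).mp hωΩ).2, one_zpow, one_mul]
    let q := QuotientGroup.mk' (Subgroup.zpowers ω)
    have hqk : q.ker = Subgroup.zpowers ω := QuotientGroup.ker_mk' _
    have hωR : Subgroup.zpowers ω ≤ R := Subgroup.zpowers_le.mpr (hΩR hωΩ)
    have hωφ : Subgroup.zpowers ω ≤ φ.ker := hRk ▸ hωR
    let φ' := QuotientGroup.lift (Subgroup.zpowers ω) φ hωφ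
    haveI : (R.map q).Normal := Subgroup.Normal.map inferInstance _ (QuotientGroup.mk'_surjective _)
    have hR : Nat.card R = 128 := by
      let S : R →* Z :=
        { toFun := fun a => ⟨(a : Y) * a, hsqZ a a.2⟩
          map_one' := Subtype.ext (mul_one 1)
          map_mul' := fun a b => Subtype.ext (by
            show (a : Y) * b * (a * b) = a * a * (b * b)
            rw [mul_assoc, ← mul_assoc (b : Y), hcomm b b.2 a a.2]; group) }
      have hk : Nat.card S.ker = 16 := by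
        rw [← hΩ]
        exact Nat.card_congr
          { toFun := fun a => ⟨((a : R) : Y), (hΩdef _).mpr ⟨(a : R).2, congrArg Subtype.val (MonoidHom.mem_ker.mp a.2)⟩⟩
            invFun := fun w => ⟨⟨w, hΩR w.2⟩, MonoidHom.mem_ker.mpr (Subtype.ext ((hΩdef _).mp w.2).2)⟩
            left_inv := fun a => rfl
            right_inv := fun w => rfl }
      have hs : Function.Surjective S := fun z => by
        obtain ⟨a, ha, e⟩ := hsq z z.2
        exact ⟨⟨a, ha⟩, Subtype.ext e⟩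
      have h := S.ker.card_mul_index
      rw [Subgroup.index_ker, hk, MonoidHom.range_eq_top.mpr hs, Subgroup.card_top, hZ] at h
      omega
    have hA : Nat.card (R.map q) = 64 := by
      have := card_map_mul q R (hqk.trans_le hωR)
      rw [hqk, hωcard, hR] at this
      omega
    have hΩ' : Nat.card (Ω.map q) = 8 := by
      have := card_map_mul q Ω (hqk.trans_le (Subgroup.zpowers_le.mpr hωΩ))
      rw [hqk, hωcard, hΩ] at this
      omega
    refine cube hr (q.comp π) ((QuotientGroup.mk'_surjective _).comp hπ) hL φ'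
      (QuotientGroup.lift_surjective_of_surjective _ _ hφ _) (R.map q) (Ω.map q) ?_ ?_ hA ?_ ?_ hΩ' ?_ ?_
    · rintro _ ⟨a, ha, rfl⟩
      show φ a = 1
      exact MonoidHom.mem_ker.mp (hRk.symm ▸ ha)
    · rintro _ ⟨a, ha, rfl⟩ _ ⟨b, hb, rfl⟩
      rw [← map_mul, ← map_mul, hcomm a ha b hb]
    · rintro _ ⟨a, ha, rfl⟩
      rw [← map_pow, h4 a ha, map_one]
    · intro x
      constructor
      · rintro ⟨a, ha, rfl⟩
        exact ⟨⟨a, hΩR ha, rfl⟩, by rw [← map_mul, ((hΩdef a).mp ha).2, map_one]⟩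
      · rintro ⟨⟨a, ha, rfl⟩, h⟩
        refine ⟨a, (hΩdef a).mpr ⟨ha, ?_⟩, rfl⟩
        rw [← map_mul] at h
        exact (hmem _ ((QuotientGroup.eq_one_iff _).mp h)).resolve_right fun e => hωZ (e ▸ hsqZ a ha)
    · intro k hk
      obtain ⟨a, rfl⟩ := QuotientGroup.mk'_surjective _ k
      exact Or.inl ⟨a, hRk ▸ (MonoidHom.mem_ker.mp hk), rfl⟩
    · obtain ⟨y, z, hz, hne⟩ := hnat
      obtain ⟨a, ha, rfl⟩ := hsq z hz
      refine ⟨q y, q a, ⟨a, ha, rfl⟩, fun h => hne ?_⟩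
      rw [← map_mul, ← map_inv, ← map_mul, ← map_mul] at h
      rcases hmem _ (QuotientGroup.eq.mp h) with e | e
      · exact inv_mul_eq_one.mp e
      · exact absurd (e ▸ mul_mem (inv_mem ((inferInstance : Z.Normal).conj_mem _ hz y)) hz) hωZ
  -- no fixed involution outside `Z`
  have hZR : Z ≤ R := hZΩ.trans hΩR
  let ψ : Y →* MulAut Z := MulAut.conjNormal
  let ψΩ : Y →* MulAut Ω := MulAut.conjNormal
  have hZexp : ∀ z : Z, z * z = 1 := fun z => Subtype.ext ((hΩdef _).mp (hZΩ z.2)).2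
  have hΩexp : ∀ z : Ω, z * z = 1 := fun z => Subtype.ext ((hΩdef _).mp z.2).2
  have hψv : ∀ g (z : Z), ((ψ g z : Z) : Y) = g * z * g⁻¹ := fun g z => MulAut.conjNormal_apply g z
  have hψΩv : ∀ g (z : Ω), ((ψΩ g z : Ω) : Y) = g * z * g⁻¹ := fun g z => MulAut.conjNormal_apply g z
  have hk : φ.ker ≤ ψ.ker := fun k hk' => MonoidHom.mem_ker.mpr (MulEquiv.ext fun z => Subtype.ext (by
    rw [hψv, hcomm k (hRk ▸ hk') z (hZR z.2), mul_inv_cancel_right]; rfl))
  have hkΩ : φ.ker ≤ ψΩ.ker := fun k hk' => MonoidHom.mem_ker.mpr (MulEquiv.ext fun z => Subtype.ext (by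
    rw [hψΩv, hcomm k (hRk ▸ hk') z (hΩR z.2), mul_inv_cancel_right]; rfl))
  obtain ⟨y₀, z₀, hz₀, hy₀⟩ := hnat
  obtain ⟨Φ⟩ := exists_coord hZ hZexp
  obtain ⟨hψ, hψker⟩ := natural_surj hL φ hφ ψ hk (y₀ := y₀) (fun h => hy₀ (by
    have := hψv y₀ ⟨z₀, hz₀⟩
    rw [h, MulAut.one_apply] at this
    exact this.symm)) Φ
  have hψΩker : ψΩ.ker = φ.ker := ker_eq φ hφ ψΩ hkΩ (y₀ := y₀) (fun h => hy₀ (by
    have := hψΩv y₀ ⟨z₀, hZΩ hz₀⟩
    rw [h, MulAut.one_apply] at this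
    exact this.symm))
  obtain ⟨u, hu⟩ := exists_act hψ Φ nu
  set h := u * u with hhdef
  have hh : ∀ n, co Φ (ψ h n) = ta (co Φ n) := fun n => by
    rw [hhdef, map_mul, MulAut.mul_apply, hu, hu]; exact (ta_fixed _).2.2
  have hh1 : ψ h ≠ 1 := by
    intro e
    obtain ⟨n, hn⟩ := co_surj Φ (1, 0, 0)
    have := hh n
    rw [e, MulAut.one_apply, hn] at this
    exact absurd this (by decide)
  have hh2 : ψ (h * h) = 1 := MulEquiv.ext fun n => co_inj Φ (by
    rw [map_mul, MulAut.mul_apply, hh, hh, MulAut.one_apply]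
    generalize co Φ n = v
    revert v; decide)
  have hq : h * h ∈ R := by rw [← hRk, ← hψker]; exact MonoidHom.mem_ker.mpr hh2
  -- the fixed points of `h`
  have hfixh : ∀ w ∈ Ω, h * w * h⁻¹ = w → ∃ hw : w ∈ Z, (co Φ ⟨w, hw⟩).1 = 0 := by
    intro w hw hhw
    have hwZ : w ∈ Z := by
      by_contra hwZ
      have := eight hL φ hφ hΩ hΩexp ψΩ hψΩker (Z.subgroupOf Ω)
        (by rw [Nat.card_congr (Subgroup.subgroupOfEquivOfLe hZΩ).toEquiv, hZ])
        (fun g z hz => by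
          show ((ψΩ g z : Ω) : Y) ∈ Z
          rw [hψΩv]; exact (inferInstance : Z.Normal).conj_mem _ hz g)
        (fun v hv => by
          obtain ⟨y, hy⟩ := hnf v v.2 hv
          exact ⟨y, fun e => hy (by rw [← hψΩv, e])⟩)
        h (fun e => hh1 (MonoidHom.mem_ker.mp (hψker.symm ▸ hψΩker ▸ MonoidHom.mem_ker.mpr e)))
        (by rw [← map_mul]; exact MonoidHom.mem_ker.mp (hψΩker.symm ▸ hψker ▸ MonoidHom.mem_ker.mpr hh2))
        (ω := ⟨w, hw⟩) hwZ
      exact this (Subtype.ext (by rw [hψΩv]; exact hhw))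
    refine ⟨hwZ, (ta_fixed _).1.mp ?_⟩
    rw [← hh, show ψ h ⟨w, hwZ⟩ = ⟨w, hwZ⟩ from Subtype.ext (by rw [hψv]; exact hhw)]
  let K : Subgroup Y :=
    ({ carrier := {z : Z | (co Φ z).1 = 0}
       one_mem' := by simp [co_one]
       mul_mem' := fun {a b} ha hb => by
         show (co Φ (a * b)).1 = 0
         rw [co_mul, Prod.fst_add, show (co Φ a).1 = 0 from ha, show (co Φ b).1 = 0 from hb, add_zero]
       inv_mem' := fun {a} ha => by
         show (co Φ a⁻¹).1 = 0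
         rw [inv_eq_of_mul_eq_one_right (hZexp a)]; exact ha } : Subgroup Z).map Z.subtype
  have hKmem : ∀ w, w ∈ K ↔ ∃ hw : w ∈ Z, (co Φ ⟨w, hw⟩).1 = 0 := fun w =>
    ⟨fun ⟨z, hz, e⟩ => e ▸ ⟨z.2, hz⟩, fun ⟨hw, h0⟩ => ⟨⟨w, hw⟩, h0, rfl⟩⟩
  have hKfix : ∀ w ∈ K, h * w * h⁻¹ = w := fun w hw => by
    obtain ⟨hwZ, h0⟩ := (hKmem w).mp hw
    rw [← hψv h ⟨w, hwZ⟩]
    exact congrArg Subtype.val (co_inj Φ ((hh _).trans ((ta_fixed _).1.mpr h0)))
  have hKR : K ≤ R := fun w hw => hZR ((hKmem w).mp hw).1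
  let B : Subgroup Y :=
    { carrier := {a | a ∈ R ∧ a * a ∈ K}
      one_mem' := ⟨one_mem _, by rw [one_mul]; exact one_mem _⟩
      mul_mem' := fun {a b} ha hb => ⟨mul_mem ha.1 hb.1, by
        rw [show a * b * (a * b) = a * (b * a) * b by group, hcomm b hb.1 a ha.1,
          show a * (a * b) * b = a * a * (b * b) by group]
        exact mul_mem ha.2 hb.2⟩
      inv_mem' := fun {a} ha => ⟨inv_mem ha.1, by rw [← mul_inv_rev]; exact inv_mem ha.2⟩ }
  have hBR : B ≤ R := fun a ha => ha.1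
  have hBcard : Nat.card B = 16 * Nat.card K := by
    let S : B →* K :=
      { toFun := fun a => ⟨(a : Y) * a, a.2.2⟩
        map_one' := Subtype.ext (mul_one 1)
        map_mul' := fun a b => Subtype.ext (by
          show (a : Y) * b * (a * b) = a * a * (b * b)
          rw [mul_assoc, ← mul_assoc (b : Y), hcomm b b.2.1 a a.2.1]; group) }
    have hs : Function.Surjective S := fun z => by
      obtain ⟨a, ha, e⟩ := hsq z ((hKmem _).mp z.2).1
      exact ⟨⟨a, ha, e ▸ z.2⟩, Subtype.ext e⟩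
    have hk : Nat.card S.ker = 16 := by
      rw [← hΩ]
      exact Nat.card_congr
        { toFun := fun a => ⟨((a : B) : Y), (hΩdef _).mpr ⟨(a : B).2.1, congrArg Subtype.val (MonoidHom.mem_ker.mp a.2)⟩⟩
          invFun := fun w => ⟨⟨w, hΩR w.2, by rw [((hΩdef _).mp w.2).2]; exact one_mem _⟩,
            MonoidHom.mem_ker.mpr (Subtype.ext ((hΩdef _).mp w.2).2)⟩
          left_inv := fun a => rfl
          right_inv := fun w => rfl }
    have h := S.ker.card_mul_index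
    rw [Subgroup.index_ker, hk, MonoidHom.range_eq_top.mpr hs, Subgroup.card_top] at h
    exact h.symm
  -- conjugating by `h` twice
  have htwice : ∀ a ∈ R, h * (h * a * h⁻¹) * h⁻¹ = a := fun a ha => by
    rw [show h * (h * a * h⁻¹) * h⁻¹ = h * h * a * (h * h)⁻¹ by group, hcomm _ hq a ha, mul_inv_cancel_right]
  have hcom : ∀ b ∈ B, h * b * h⁻¹ * b⁻¹ ∈ K := by
    intro b hb
    have hc : h * b * h⁻¹ ∈ R := (inferInstance : R.Normal).conj_mem b hb.1 h
    have h2 : h * b * h⁻¹ * b⁻¹ * (h * b * h⁻¹ * b⁻¹) = 1 := by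
      have e := hKfix _ hb.2
      calc h * b * h⁻¹ * b⁻¹ * (h * b * h⁻¹ * b⁻¹) = h * b * h⁻¹ * (b⁻¹ * (h * b * h⁻¹)) * b⁻¹ := by group
        _ = h * b * h⁻¹ * (h * b * h⁻¹ * b⁻¹) * b⁻¹ := by rw [hcomm _ (inv_mem hb.1) _ hc]
        _ = h * (b * b) * h⁻¹ * (b * b)⁻¹ := by group
        _ = 1 := by rw [e, mul_inv_cancel]
    refine (hKmem _).mpr (hfixh _ ((hΩdef _).mpr ⟨mul_mem hc (inv_mem hb.1), h2⟩) ?_)
    rw [show h * (h * b * h⁻¹ * b⁻¹) * h⁻¹ = h * (h * b * h⁻¹) * h⁻¹ * (h * b * h⁻¹)⁻¹ by group, htwice b hb.1]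
    calc b * (h * b * h⁻¹)⁻¹ = (h * b * h⁻¹ * b⁻¹)⁻¹ := by group
      _ = _ := inv_eq_of_mul_eq_one_right h2
  -- an element whose square lies in `K`
  have hq2Ω : h * h * (h * h) ∈ Ω := (hΩdef _).mpr ⟨mul_mem hq hq, by
    have := h4 _ hq
    simpa [pow_succ, mul_assoc] using this⟩
  obtain ⟨hq2Z, -⟩ := hfixh _ hq2Ω (by group)
  have hnu : co Φ ⟨_, hq2Z⟩ = 0 ∨ co Φ ⟨_, hq2Z⟩ = e₀ := by
    refine (ta_fixed _).2.1 ((hu _).symm.trans (congrArg (co Φ) (Subtype.ext ?_)))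
    rw [hψv]
    show u * (h * h * (h * h)) * u⁻¹ = h * h * (h * h)
    rw [hhdef]
    group
  obtain ⟨x, hxR, hxK⟩ : ∃ x ∈ R, h * x * (h * x) ∈ K := by
    rcases hnu with h0 | h0
    · refine ⟨1, one_mem _, ?_⟩
      rw [mul_one]
      exact (hKmem _).mpr (hfixh _ ((hΩdef _).mpr ⟨hq, congrArg Subtype.val ((co_eq_zero Φ).mp h0)⟩) (by group))
    · obtain ⟨n, hn⟩ := co_surj Φ (1, 0, 0)
      obtain ⟨x, hx, hxn⟩ := hsq n n.2
      refine ⟨x, hx, ?_⟩
      set c := h * x * h⁻¹ with hcdef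
      have hcR : c ∈ R := (inferInstance : R.Normal).conj_mem x hx h
      have e1 : h * x * (h * x) = c * (h * h) * x := by rw [hcdef]; group
      have e2 : c * (h * h) * x = h * h * (c * x) := by rw [hcomm c hcR _ hq]; group
      rw [e1, e2]
      have hd : c * x ∈ R := mul_mem hcR hx
      refine (hKmem _).mpr (hfixh _ ((hΩdef _).mpr ⟨mul_mem hq hd, ?_⟩) ?_)
      · have e3 : c * x * (c * x) = h * (x * x) * h⁻¹ * (x * x) := by
          rw [show c * x * (c * x) = c * (x * c) * x by group, hcomm x hx c hcR, hcdef]; group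
        have e4 : (⟨h * h * (h * h), hq2Z⟩ : Z) = ψ h n * n := co_inj Φ (by
          rw [h0, co_mul, hh, hn]; decide)
        rw [show h * h * (c * x) * (h * h * (c * x)) = h * h * ((c * x) * (h * h)) * (c * x) by group,
          hcomm _ hd _ hq, show h * h * (h * h * (c * x)) * (c * x) = h * h * (h * h) * (c * x * (c * x)) by group, e3,
          hxn, ← hψv h n, ← Subgroup.coe_mul, ← e4]
        exact ((hΩdef _).mp hq2Ω).2
      · rw [show h * (h * h * (c * x)) * h⁻¹ = h * h * (h * c * h⁻¹ * (h * x * h⁻¹)) by group, ← hcdef,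
          show h * c * h⁻¹ = x from htwice x hx, hcomm x hx c hcR]
  set G := h * x with hGdef
  have hGK : ∀ w ∈ K, G * w * G⁻¹ = w := fun w hw => by
    rw [hGdef, show h * x * w * (h * x)⁻¹ = h * (x * w * x⁻¹) * h⁻¹ by group, hcomm x hxR w (hKR hw),
      mul_inv_cancel_right, hKfix w hw]
  have hGB : ∀ b ∈ B, ⁅G, b⁆ ∈ K := fun b hb => by
    rw [commutatorElement_def, hGdef, show h * x * b * (h * x)⁻¹ * b⁻¹ = h * (x * b * x⁻¹) * h⁻¹ * b⁻¹ by group,
      hcomm x hxR b hb.1, mul_inv_cancel_right]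
    exact hcom b hb
  set s : Set Y := (B : Set Y) ∪ {G} with hs
  have hKB : K ≤ B := fun w hw => ⟨hKR hw, mul_mem hw hw⟩
  have hsect := sect_le hr π hπ s K (fun w hw => Subgroup.subset_closure (Or.inl (hKB hw)))
    (by
      rintro a (ha | rfl) w hw
      · rw [hcomm a (hBR ha) w (hKR hw), mul_inv_cancel_right]; exact hw
      · rw [hGK w hw]; exact hw)
    (by
      rintro a (ha | rfl)
      · exact ha.2
      · exact hxK)
    (by
      rintro a (ha | rfl) b (hb | rfl)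
      · rw [commutatorElement_eq_one_iff_mul_comm.mpr (hcomm a (hBR ha) b (hBR hb))]; exact one_mem _
      · rw [← commutatorElement_inv]; exact inv_mem (hGB a ha)
      · exact hGB b hb
      · rw [commutatorElement_self]; exact one_mem _)
  have hcard' := card_join ψ B (Subgroup.closure s) (fun b hb => Subgroup.subset_closure (Or.inl hb))
    (fun b hb => hk (hRk.symm ▸ hBR hb)) (![1, G] : Fin 2 → Y)
    (fun i => by
      fin_cases i
      · exact one_mem _
      · exact Subgroup.subset_closure (Or.inr rfl))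
    (by
      have hG1 : ψ G ≠ 1 := by
        rw [hGdef, map_mul, MonoidHom.mem_ker.mp (hk (show x ∈ φ.ker by rw [hRk]; exact hxR)), mul_one]; exact hh1
      intro i j e
      fin_cases i <;> fin_cases j <;> first
        | rfl
        | exact absurd (((map_one ψ).symm.trans e)).symm hG1
        | exact absurd (e.trans (map_one ψ)) hG1)
  rw [Nat.card_fin, hBcard] at hcard'
  have hKpos : 0 < Nat.card K := Nat.card_pos
  omega

end CfsgLib.SectL32
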