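/-
Sections isomorphic to the natural module, and maps out of them.
-/
import Cfsg.Agent.Lib.SectL32.Abel

set_option autoImplicit false
set_option linter.style.haveILetI false
set_option linter.unusedSectionVars false
set_option maxRecDepth 8000

namespace CfsgLib.SectL32

open scoped commutatorElement

section Small

variable {V : Type*} [Group V] [Finite V]

theorem card_exp_two (hexp : ∀ v : V, v * v = 1) (h16 : Nat.card V ≤ 16) (h : 4 < Nat.card V) :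
    Nat.card V = 8 ∨ Nat.card V = 16 := by
  haveI : Fact (Nat.Prime 2) := ⟨Nat.prime_two⟩
  obtain ⟨k, hk⟩ := IsPGroup.iff_card.mp (show IsPGroup 2 V from fun v => ⟨1, by rw [pow_one, sq]; exact hexp v⟩)
  rw [hk] at h16 h ⊢
  have : k < 5 := (Nat.pow_lt_pow_iff_right (by norm_num : 1 < 2)).mp (lt_of_le_of_lt h16 (by norm_num))
  interval_cases k <;> simp_all

variable {L : Type*} [Group L] [Finite L] [IsSimpleGroup L] {Y : Type*} [Group Y]

theorem not_small (hL : Nat.card L = 168) (φ : Y →* L) (hφ : Function.Surjective φ) (ψ : Y →* MulAut V)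
    (hk : ψ.ker = φ.ker) : 4 < Nat.card V := by
  by_contra h
  push_neg at h
  have h1 := Nat.card_le_card_of_injective (fun f : ψ.range => (f : MulAut V).toEquiv)
    (fun f f' e => Subtype.ext (MulEquiv.ext fun v => Equiv.ext_iff.mp e v))
  rw [card_range hL φ hφ ψ hk, Nat.card_perm] at h1
  have h2 := Nat.factorial_le h
  rw [show Nat.factorial 4 = 24 from rfl] at h2
  omega

end Small

/-- The quotient of `N` by `Z` is a natural module for `Y / ker φ`. -/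
structure NatSec {Y L : Type*} [Group Y] [Group L] (φ : Y →* L) (N Z : Subgroup Y) : Prop where
  normN : N.Normal
  normZ : Z.Normal
  le : Z ≤ N
  leK : N ≤ φ.ker
  card : ∀ [Z.Normal], Nat.card (N.map (QuotientGroup.mk' Z)) = 8
  sq : ∀ a ∈ N, a * a ∈ Z
  ker : ∀ k ∈ φ.ker, ∀ a ∈ N, k * a * k⁻¹ * a⁻¹ ∈ Z
  nontriv : ∃ y, ∃ a ∈ N, y * a * y⁻¹ * a⁻¹ ∉ Z

section Sec

variable {Y L : Type*} [Group Y] [Finite Y] [Group L] [Finite L] [IsSimpleGroup L] {φ : Y →* L}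
  {N Z : Subgroup Y}

/-- The natural module of a section. -/
theorem NatSec.module (S : NatSec φ N Z) (hL : Nat.card L = 168) (hφ : Function.Surjective φ) :
    haveI := S.normN
    haveI := S.normZ
    ∃ (M : Subgroup (Y ⧸ Z)) (ψ : Y →* MulAut M), Nat.card M = 8 ∧ (∀ m : M, m * m = 1) ∧
      Function.Surjective ψ ∧ ψ.ker = φ.ker ∧ (∀ m, m ∈ M ↔ ∃ a ∈ N, QuotientGroup.mk' Z a = m) ∧
      ∀ y a (h : QuotientGroup.mk' Z a ∈ M), ((ψ y ⟨_, h⟩ : M) : Y ⧸ Z) = QuotientGroup.mk' Z (y * a * y⁻¹) := by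
  haveI := S.normN
  haveI := S.normZ
  let p := QuotientGroup.mk' Z
  let M := N.map p
  haveI : M.Normal := Subgroup.Normal.map inferInstance _ (QuotientGroup.mk'_surjective Z)
  let ψ : Y →* MulAut M := (MulAut.conjNormal).comp p
  have hval : ∀ y a (h : p a ∈ M), ((ψ y ⟨_, h⟩ : M) : Y ⧸ Z) = p (y * a * y⁻¹) := fun y a h => by
    show ((MulAut.conjNormal (p y) ⟨_, h⟩ : M) : Y ⧸ Z) = _
    rw [MulAut.conjNormal_apply, map_mul, map_mul, map_inv]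
  have hexp : ∀ m : M, m * m = 1 := by
    rintro ⟨_, a, ha, rfl⟩
    refine Subtype.ext ?_
    show p a * p a = 1
    rw [← map_mul]
    exact (QuotientGroup.eq_one_iff _).mpr (S.sq a ha)
  have hk : φ.ker ≤ ψ.ker := fun k hk => MonoidHom.mem_ker.mpr (MulEquiv.ext fun m => by
    obtain ⟨_, a, ha, rfl⟩ := m
    refine Subtype.ext ((hval k a _).trans ?_)
    rw [MulAut.one_apply]
    show p (k * a * k⁻¹) = p a
    rw [← div_eq_one, div_eq_mul_inv, ← map_inv, ← map_mul]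
    exact (QuotientGroup.eq_one_iff _).mpr (S.ker k hk a ha))
  obtain ⟨Φ⟩ := exists_coord S.card hexp
  obtain ⟨y₀, a₀, ha₀, hne⟩ := S.nontriv
  obtain ⟨h1, h2⟩ := natural_surj hL φ hφ ψ hk (y₀ := y₀) (fun h => hne (by
    have h' := hval y₀ a₀ ⟨a₀, ha₀, rfl⟩
    rw [h, MulAut.one_apply] at h'
    refine (QuotientGroup.eq_one_iff _).mp ?_
    show p (y₀ * a₀ * y₀⁻¹ * a₀⁻¹) = 1
    rw [map_mul, map_inv, ← h', mul_inv_cancel])) Φ
  exact ⟨M, ψ, S.card, hexp, h1, h2, fun m => Iff.rfl, hval⟩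

theorem NatSec.transitive (S : NatSec φ N Z) (hL : Nat.card L = 168) (hφ : Function.Surjective φ) {a b : Y}
    (ha : a ∈ N) (haZ : a ∉ Z) (hb : b ∈ N) (hbZ : b ∉ Z) : ∃ y, ∃ z ∈ Z, y * a * y⁻¹ = b * z := by
  haveI := S.normN
  haveI := S.normZ
  obtain ⟨M, ψ, hM, hexp, hψ, -, hmem, hval⟩ := S.module hL hφ
  have ha' := (hmem _).mpr ⟨a, ha, rfl⟩
  have hb' := (hmem _).mpr ⟨b, hb, rfl⟩
  obtain ⟨y, hy⟩ := SectL32.transitive hψ hM hexp (a := ⟨_, ha'⟩) (b := ⟨_, hb'⟩)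
    (fun e => haZ ((QuotientGroup.eq_one_iff a).mp (congrArg Subtype.val e)))
    (fun e => hbZ ((QuotientGroup.eq_one_iff b).mp (congrArg Subtype.val e)))
  have h : QuotientGroup.mk' Z (y * a * y⁻¹) = QuotientGroup.mk' Z b :=
    (hval y a ha').symm.trans (congrArg Subtype.val hy)
  exact ⟨y, b⁻¹ * (y * a * y⁻¹), QuotientGroup.eq.mp h.symm, (mul_inv_cancel_left _ _).symm⟩

theorem NatSec.const (S : NatSec φ N Z) (hL : Nat.card L = 168) (hφ : Function.Surjective φ) {T : Type*} (f : Y → T)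
    (hconst : ∀ a ∈ N, ∀ z ∈ Z, f (a * z) = f a) (hinv : ∀ y, ∀ a ∈ N, f (y * a * y⁻¹) = f a) {a b : Y}
    (ha : a ∈ N) (haZ : a ∉ Z) (hb : b ∈ N) (hbZ : b ∉ Z) : f a = f b := by
  obtain ⟨y, z, hz, e⟩ := S.transitive hL hφ ha haZ hb hbZ
  rw [← hinv y a ha, e, hconst b hb z hz]

/-- Three elements with independent classes. -/
theorem NatSec.triple (S : NatSec φ N Z) (hL : Nat.card L = 168) (hφ : Function.Surjective φ) :
    ∃ a b c, a ∈ N ∧ b ∈ N ∧ c ∈ N ∧ a ∉ Z ∧ b ∉ Z ∧ c ∉ Z ∧ a * b ∉ Z ∧ a * c ∉ Z ∧ b * c ∉ Z ∧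
      a * (b * c) ∉ Z := by
  haveI := S.normN
  haveI := S.normZ
  obtain ⟨M, ψ, hM, hexp, -, -, hmem, -⟩ := S.module hL hφ
  obtain ⟨Φ⟩ := exists_coord hM hexp
  have key : ∀ v : C, ∃ a ∈ N, ∃ h : QuotientGroup.mk' Z a ∈ M, co Φ ⟨_, h⟩ = v := fun v => by
    obtain ⟨m, hm⟩ := co_surj Φ v
    obtain ⟨a, ha, e⟩ := (hmem _).mp m.2
    refine ⟨a, ha, e ▸ m.2, ?_⟩
    rw [← hm]; congr 1; exact Subtype.ext e
  obtain ⟨a, ha, ha', ca⟩ := key (1, 0, 0)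
  obtain ⟨b, hb, hb', cb⟩ := key (0, 1, 0)
  obtain ⟨c, hc, hc', cc⟩ := key (0, 0, 1)
  have no : ∀ (x : Y) (hx : QuotientGroup.mk' Z x ∈ M) (v : C), co Φ ⟨_, hx⟩ = v → v ≠ 0 → x ∉ Z := by
    intro x hx v e hv hxZ
    refine hv (e ▸ (co_eq_zero Φ).mpr (Subtype.ext ?_))
    exact (QuotientGroup.eq_one_iff x).mpr hxZ
  have mu : ∀ (x w : Y) (hx : QuotientGroup.mk' Z x ∈ M) (hw : QuotientGroup.mk' Z w ∈ M),
      ∃ h : QuotientGroup.mk' Z (x * w) ∈ M, co Φ ⟨_, h⟩ = co Φ ⟨_, hx⟩ + co Φ ⟨_, hw⟩ := by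
    intro x w hx hw
    refine ⟨by rw [map_mul]; exact mul_mem hx hw, ?_⟩
    rw [← co_mul]; congr 1
  obtain ⟨hab', cab⟩ := mu a b ha' hb'
  obtain ⟨hac', cac⟩ := mu a c ha' hc'
  obtain ⟨hbc', cbc⟩ := mu b c hb' hc'
  obtain ⟨habc', cabc⟩ := mu a _ ha' hbc'
  exact ⟨a, b, c, ha, hb, hc, no a ha' _ ca (by decide), no b hb' _ cb (by decide), no c hc' _ cc (by decide),
    no _ hab' _ cab (by rw [ca, cb]; decide), no _ hac' _ cac (by rw [ca, cc]; decide),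
    no _ hbc' _ cbc (by rw [cb, cc]; decide), no _ habc' _ cabc (by rw [ca, cbc, cb, cc]; decide)⟩

/-- An invariant homomorphism on a natural section is trivial. -/
theorem NatSec.hom_trivial (S : NatSec φ N Z) (hL : Nat.card L = 168) (hφ : Function.Surjective φ) {T : Type*}
    [Group T] (f : Y → T) (hhom : ∀ a ∈ N, ∀ b ∈ N, f (a * b) = f a * f b) (hZ : ∀ z ∈ Z, f z = 1)
    (hinv : ∀ y, ∀ a ∈ N, f (y * a * y⁻¹) = f a) : ∀ a ∈ N, f a = 1 := by
  intro x hx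
  by_cases hxZ : x ∈ Z
  · exact hZ x hxZ
  obtain ⟨a, b, c, ha, hb, -, haZ, hbZ, -, habZ, -, -, -⟩ := S.triple hL hφ
  have hc : ∀ w ∈ N, ∀ z ∈ Z, f (w * z) = f w := fun w hw z hz => by
    rw [hhom w hw z (S.le hz), hZ z hz, mul_one]
  have e1 := S.const hL hφ f hc hinv ha haZ hb hbZ
  have e2 := S.const hL hφ f hc hinv (mul_mem ha hb) habZ hb hbZ
  rw [hhom a ha b hb] at e2
  rw [S.const hL hφ f hc hinv hx hxZ ha haZ]
  exact mul_eq_right.mp e2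

/-- An invariant function of squares on a natural section is trivial. -/
theorem NatSec.sq_eq_one (S : NatSec φ N Z) (hL : Nat.card L = 168) (hφ : Function.Surjective φ)
    (hconst : ∀ a ∈ N, ∀ z ∈ Z, a * z * (a * z) = a * a) (hinv : ∀ y, ∀ a ∈ N, y * (a * a) * y⁻¹ = a * a)
    (h2 : ∀ a ∈ N, a * a * (a * a) = 1) : ∀ a ∈ N, a * a = 1 := by
  intro x hx
  by_cases hxZ : x ∈ Z
  · have := hconst 1 (one_mem _) x hxZ
    rwa [one_mul, one_mul] at this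
  obtain ⟨a, b, c, ha, hb, hc, haZ, hbZ, hcZ, habZ, hacZ, hbcZ, habcZ⟩ := S.triple hL hφ
  have hi : ∀ y, ∀ w ∈ N, y * w * y⁻¹ * (y * w * y⁻¹) = w * w := fun y w hw => by
    rw [show y * w * y⁻¹ * (y * w * y⁻¹) = y * (w * w) * y⁻¹ by group, hinv y w hw]
  have e : ∀ w ∈ N, w ∉ Z → w * w = x * x := fun w hw hwZ =>
    S.const hL hφ (fun w => w * w) hconst hi hw hwZ hx hxZ
  refine sq_trivial (a := a) (b := b) (c := c) ?_ (h2 x hx) (e a ha haZ) (e b hb hbZ) (e c hc hcZ)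
    (e _ (mul_mem ha hb) habZ) (e _ (mul_mem ha hc) hacZ) (e _ (mul_mem hb hc) hbcZ)
    (e _ (mul_mem ha (mul_mem hb hc)) habcZ)
  intro w _
  exact (mul_inv_eq_iff_eq_mul.mp (hinv w x hx)).symm

/-- An invariant alternating form on a natural section is trivial. -/
theorem NatSec.bilin_trivial (S : NatSec φ N Z) (hL : Nat.card L = 168) (hφ : Function.Surjective φ) {T : Type*}
    [Group T] (B : Y → Y → T) (hB : ∀ a ∈ N, ∀ b ∈ N, ∀ c ∈ N, B a (b * c) = B a b * B a c)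
    (hB' : ∀ a ∈ N, ∀ b ∈ N, ∀ z ∈ Z, B (a * z) b = B a b) (hBZ : ∀ a ∈ N, ∀ z ∈ Z, B a z = 1)
    (hinv : ∀ y, ∀ a ∈ N, ∀ b ∈ N, B (y * a * y⁻¹) (y * b * y⁻¹) = B a b) (halt : ∀ a ∈ N, B a a = 1)
    (h1 : ∀ b ∈ N, B 1 b = 1) : ∀ a ∈ N, ∀ b ∈ N, B a b = 1 := by
  classical
  haveI := S.normN
  haveI := S.normZ
  obtain ⟨M, ψ, hM, hexp, hψ, -, hmem, hval⟩ := S.module hL hφ
  let rep : M → Y := fun m => ((hmem _).mp m.2).choose
  have hrepN : ∀ m, rep m ∈ N := fun m => ((hmem _).mp m.2).choose_spec.1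
  have hrep : ∀ m : M, QuotientGroup.mk' Z (rep m) = m := fun m => ((hmem _).mp m.2).choose_spec.2
  have well : ∀ a ∈ N, ∀ a' ∈ N, ∀ b ∈ N, ∀ b' ∈ N, QuotientGroup.mk' Z a = QuotientGroup.mk' Z a' →
      QuotientGroup.mk' Z b = QuotientGroup.mk' Z b' → B a b = B a' b' := by
    intro a ha a' ha' b hb b' hb' ea eb
    have za := QuotientGroup.eq.mp ea.symm
    have zb := QuotientGroup.eq.mp eb.symm
    rw [← mul_inv_cancel_left a' a, ← mul_inv_cancel_left b' b, hB' a' ha' _ (mul_mem hb' (S.le zb)) _ za,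
      hB a' ha' b' hb' _ (S.le zb), hBZ a' ha' _ zb, mul_one]
  intro a ha b hb
  have ha' := (hmem _).mpr ⟨a, ha, rfl⟩
  have hb' := (hmem _).mpr ⟨b, hb, rfl⟩
  have := inv_bilin hψ hM hexp (fun m m' => B (rep m) (rep m'))
    (fun m m' m'' => by
      rw [← hB _ (hrepN _) _ (hrepN _) _ (hrepN _)]
      exact well _ (hrepN _) _ (hrepN _) _ (hrepN _) _ (mul_mem (hrepN _) (hrepN _)) rfl
        (by rw [map_mul, hrep, hrep, hrep]; rfl))
    (fun y m m' => by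
      rw [← hinv y _ (hrepN m) _ (hrepN m')]
      have e : ∀ n : M, QuotientGroup.mk' Z (rep (ψ y n)) = QuotientGroup.mk' Z (y * rep n * y⁻¹) := fun n => by
        rw [hrep, ← hval y (rep n) (by rw [hrep]; exact n.2)]
        congr 2; exact Subtype.ext (hrep n).symm
      exact well _ (hrepN _) _ (S.normN.conj_mem _ (hrepN _) y) _ (hrepN _) _ (S.normN.conj_mem _ (hrepN _) y)
        (e m) (e m'))
    (fun m => halt _ (hrepN m))
    (fun m => by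
      rw [← h1 _ (hrepN m)]
      exact well _ (hrepN _) _ (one_mem _) _ (hrepN _) _ (hrepN _) (by rw [hrep, map_one]; rfl) rfl)
    ⟨_, ha'⟩ ⟨_, hb'⟩
  rw [← this]
  exact well a ha _ (hrepN ⟨_, ha'⟩) b hb _ (hrepN ⟨_, hb'⟩) (hrep ⟨_, ha'⟩).symm (hrep ⟨_, hb'⟩).symm

/-- A natural module among the normal subgroups. -/
def IsNat (φ : Y →* L) (W : Subgroup Y) : Prop :=
  Nat.card W = 8 ∧ (∀ z ∈ W, z * z = 1) ∧ (∀ k ∈ φ.ker, ∀ z ∈ W, k * z * k⁻¹ = z) ∧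
    ∃ y, ∃ z ∈ W, y * z * y⁻¹ ≠ z

theorem IsNat.act {W : Subgroup Y} [W.Normal] (h : IsNat φ W) (hL : Nat.card L = 168) (hφ : Function.Surjective φ) :
    Function.Surjective (MulAut.conjNormal : Y →* MulAut W) ∧ (MulAut.conjNormal : Y →* MulAut W).ker = φ.ker := by
  obtain ⟨hc, hexp, hk, y₀, z₀, hz₀, hne⟩ := h
  obtain ⟨Φ⟩ := exists_coord hc (fun z : W => Subtype.ext (hexp z z.2))
  refine natural_surj hL φ hφ _ (fun k hk' => MonoidHom.mem_ker.mpr (MulEquiv.ext fun z => Subtype.ext ?_))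
    (y₀ := y₀) (fun e => hne ?_) Φ
  · rw [MulAut.conjNormal_apply, hk k hk' z z.2]; rfl
  · have := MulAut.conjNormal_apply y₀ (⟨z₀, hz₀⟩ : W)
    rw [e, MulAut.one_apply] at this
    exact this.symm

theorem IsNat.no_fixed {W : Subgroup Y} [W.Normal] (h : IsNat φ W) (hL : Nat.card L = 168)
    (hφ : Function.Surjective φ) {z : Y} (hz : z ∈ W) (hfix : ∀ y, y * z * y⁻¹ = z) : z = 1 := by
  by_contra hz1
  obtain ⟨hψ, -⟩ := h.act hL hφ
  obtain ⟨y₀, z₀, hz₀, hne⟩ := h.2.2.2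
  by_cases hz₀1 : z₀ = 1
  · exact hne (by rw [hz₀1]; group)
  obtain ⟨y, hy⟩ := SectL32.transitive hψ h.1 (fun w : W => Subtype.ext (h.2.1 w w.2)) (a := ⟨z, hz⟩) (b := ⟨z₀, hz₀⟩)
    (fun e => hz1 (congrArg Subtype.val e)) (fun e => hz₀1 (congrArg Subtype.val e))
  have := congrArg Subtype.val hy
  rw [MulAut.conjNormal_apply, hfix] at this
  exact hne (by rw [show z₀ = z from this.symm, hfix])

/-- Equivariant maps from a natural section into a natural module. -/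
theorem NatSec.map_nat (S : NatSec φ N Z) (hL : Nat.card L = 168) (hφ : Function.Surjective φ) {W : Subgroup Y}
    [W.Normal] (hW : IsNat φ W) (f : Y → Y) (hf : ∀ a ∈ N, f a ∈ W) (hf1 : f 1 = 1)
    (hconst : ∀ a ∈ N, ∀ z ∈ Z, f (a * z) = f a) (heq : ∀ y, ∀ a ∈ N, f (y * a * y⁻¹) = y * f a * y⁻¹) :
    (∀ a ∈ N, f a = 1) ∨ ((∀ a ∈ N, ∀ b ∈ N, f (a * b) = f a * f b) ∧ (∀ a ∈ N, f a = 1 → a ∈ Z) ∧
      ∀ w ∈ W, ∃ a ∈ N, f a = w) := by
  classical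
  haveI := S.normN
  haveI := S.normZ
  obtain ⟨M, ψ, hM, hexp, hψ, hψk, hmem, hval⟩ := S.module hL hφ
  obtain ⟨hψ', hψ'k⟩ := hW.act hL hφ
  let rep : M → Y := fun m => ((hmem _).mp m.2).choose
  have hrepN : ∀ m, rep m ∈ N := fun m => ((hmem _).mp m.2).choose_spec.1
  have hrep : ∀ m : M, QuotientGroup.mk' Z (rep m) = m := fun m => ((hmem _).mp m.2).choose_spec.2
  have well : ∀ a ∈ N, ∀ a' ∈ N, QuotientGroup.mk' Z a = QuotientGroup.mk' Z a' → f a = f a' := by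
    intro a ha a' ha' ea
    rw [← mul_inv_cancel_left a' a, hconst a' ha' _ (QuotientGroup.eq.mp ea.symm)]
  let q : M → W := fun m => ⟨f (rep m), hf _ (hrepN m)⟩
  have hq : ∀ a (ha : a ∈ N), q ⟨_, (hmem _).mpr ⟨a, ha, rfl⟩⟩ = ⟨f a, hf a ha⟩ := fun a ha =>
    Subtype.ext (well _ (hrepN _) a ha (hrep _))
  rcases equiv_map hψ hψ' hM hexp hW.1 (fun w : W => Subtype.ext (hW.2.1 w w.2)) (hψ'k.trans hψk.symm) q
    (Subtype.ext (by
      show f (rep 1) = 1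
      rw [← hf1]
      exact well _ (hrepN _) 1 (one_mem _) (by rw [hrep, map_one]; rfl)))
    (fun y m => Subtype.ext (by
      show f (rep (ψ y m)) = ((MulAut.conjNormal y (q m) : W) : Y)
      rw [MulAut.conjNormal_apply]
      show _ = y * f (rep m) * y⁻¹
      rw [← heq y _ (hrepN m)]
      refine well _ (hrepN _) _ (S.normN.conj_mem _ (hrepN _) y) ?_
      rw [hrep, ← hval y (rep m) (by rw [hrep]; exact m.2)]
      congr 2; exact Subtype.ext (hrep m).symm)) with h | ⟨hb, hh⟩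
  · refine Or.inl fun a ha => ?_
    exact congrArg Subtype.val ((hq a ha).symm.trans (h _))
  · refine Or.inr ⟨fun a ha b hb' => ?_, fun a ha h1 => ?_, fun w hw => ?_⟩
    · have e1 := hh ⟨_, (hmem _).mpr ⟨a, ha, rfl⟩⟩ ⟨_, (hmem _).mpr ⟨b, hb', rfl⟩⟩
      rw [hq a ha, hq b hb'] at e1
      refine Eq.trans ?_ (congrArg Subtype.val e1)
      exact well _ (mul_mem ha hb') _ (hrepN _) (by rw [hrep, map_mul]; rfl)
    · have e1 : q ⟨_, (hmem _).mpr ⟨a, ha, rfl⟩⟩ = q 1 := by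
        rw [hq a ha]
        refine Subtype.ext (h1.trans (hf1.symm.trans (well 1 (one_mem _) _ (hrepN _) ?_)))
        rw [hrep, map_one]; rfl
      exact (QuotientGroup.eq_one_iff a).mp (congrArg Subtype.val (hb.1 e1))
    · obtain ⟨m, hm⟩ := hb.2 ⟨w, hw⟩
      exact ⟨rep m, hrepN m, congrArg Subtype.val hm⟩

/-- An element of order three modulo `ker φ` at a point of a natural section. -/
theorem NatSec.three_fix (S : NatSec φ N Z) (hL : Nat.card L = 168) (hφ : Function.Surjective φ) {W : Subgroup Y}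
    [W.Normal] (hW : IsNat φ W) {a : Y} (ha : a ∈ N) (haZ : a ∉ Z) :
    ∃ y z, y * a * y⁻¹ * a⁻¹ ∈ Z ∧ y * y * y ∈ φ.ker ∧ z ∈ W ∧ z ≠ 1 ∧ y * z * y⁻¹ = z ∧
      ∀ w ∈ W, y * w * y⁻¹ = w → w = 1 ∨ w = z := by
  haveI := S.normN
  haveI := S.normZ
  obtain ⟨M, ψ, hM, hexp, hψ, hψk, hmem, hval⟩ := S.module hL hφ
  obtain ⟨-, hψ'k⟩ := hW.act hL hφ
  have ha' := (hmem _).mpr ⟨a, ha, rfl⟩
  obtain ⟨y, hy, h3, z, hz1, hzf, huniq⟩ := value_unique hψ hM hexp hW.1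
    (fun w : W => Subtype.ext (hW.2.1 w w.2)) (MulAut.conjNormal : Y →* MulAut W) (hψ'k.trans hψk.symm)
    (n := ⟨_, ha'⟩) (fun e => haZ ((QuotientGroup.eq_one_iff a).mp (congrArg Subtype.val e)))
  refine ⟨y, z, ?_, ?_, z.2, fun e => hz1 (Subtype.ext e), ?_, fun w hw hyw => ?_⟩
  · refine (QuotientGroup.eq_one_iff _).mp ?_
    show QuotientGroup.mk' Z (y * a * y⁻¹ * a⁻¹) = 1
    rw [map_mul, map_inv, ← hval y a ha', hy, mul_inv_cancel]
  · rw [← hψk, MonoidHom.mem_ker]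
    refine MulEquiv.ext fun m => ?_
    rw [map_mul, map_mul, MulAut.mul_apply, MulAut.mul_apply]
    exact h3 m
  · have := congrArg Subtype.val hzf
    rwa [MulAut.conjNormal_apply] at this
  · rcases huniq ⟨w, hw⟩ (Subtype.ext (by rw [MulAut.conjNormal_apply]; exact hyw)) with h | h
    · exact Or.inl (congrArg Subtype.val h)
    · exact Or.inr (congrArg Subtype.val h)

/-- Two non-trivial equivariant maps agree. -/
theorem NatSec.unique (S : NatSec φ N Z) (hL : Nat.card L = 168) (hφ : Function.Surjective φ) {W : Subgroup Y}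
    [W.Normal] (hW : IsNat φ W) (f g : Y → Y) (hf : ∀ a ∈ N, f a ∈ W) (hg : ∀ a ∈ N, g a ∈ W)
    (hfc : ∀ a ∈ N, ∀ z ∈ Z, f (a * z) = f a) (hgc : ∀ a ∈ N, ∀ z ∈ Z, g (a * z) = g a)
    (hfe : ∀ y, ∀ a ∈ N, f (y * a * y⁻¹) = y * f a * y⁻¹) (hge : ∀ y, ∀ a ∈ N, g (y * a * y⁻¹) = y * g a * y⁻¹)
    {a : Y} (ha : a ∈ N) (haZ : a ∉ Z) (hf1 : f a ≠ 1) (hg1 : g a ≠ 1) : f a = g a := by
  obtain ⟨y, z, hya, -, -, -, -, huniq⟩ := S.three_fix hL hφ hW ha haZ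
  have hy : y * a * y⁻¹ = a * (a⁻¹ * (y * a * y⁻¹ * a⁻¹) * a) := by group
  have hzz : a⁻¹ * (y * a * y⁻¹ * a⁻¹) * a ∈ Z := S.normZ.conj_mem' _ hya a
  have e1 : y * f a * y⁻¹ = f a := by rw [← hfe y a ha, hy, hfc a ha _ hzz]
  have e2 : y * g a * y⁻¹ = g a := by rw [← hge y a ha, hy, hgc a ha _ hzz]
  rw [(huniq _ (hf a ha) e1).resolve_left hf1, (huniq _ (hg a ha) e2).resolve_left hg1]

/-- A minimal central layer is trivial of order two or natural. -/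
theorem min_type {X : Type*} [Group X] [Finite X] (hr : Cfsg.SectionalPRankLE 2 4 X) (π : X →* Y)
    (hπ : Function.Surjective π) (hL : Nat.card L = 168) (φ : Y →* L) (hφ : Function.Surjective φ) (Z : Subgroup Y)
    [Z.Normal] (hcen : ∀ z ∈ Z, ∀ a ∈ φ.ker, z * a = a * z) (hZ2 : ∀ z ∈ Z, z * z = 1) (hZne : Z ≠ ⊥)
    (hmin : ∀ W : Subgroup Y, W.Normal → W ≤ Z → W = ⊥ ∨ W = Z) :
    (Nat.card Z = 2 ∧ ∀ y : Y, ∀ z ∈ Z, y * z * y⁻¹ = z) ∨ IsNat φ Z := by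
  classical
  obtain ⟨z₁, hz₁, hz₁1⟩ : ∃ z ∈ Z, z ≠ 1 := by
    by_contra h
    push_neg at h
    exact hZne ((Subgroup.eq_bot_iff_forall Z).mpr h)
  have hcyc : ∀ z ∈ Z, z ≠ 1 → (∀ y : Y, y * z * y⁻¹ = z) → Nat.card Z = 2 := by
    intro z hz hz1 hfix
    have hn : (Subgroup.zpowers z).Normal := ⟨fun w hw g => by
      obtain ⟨i, rfl⟩ := Subgroup.mem_zpowers_iff.mp hw
      rw [← conj_zpow, hfix]; exact hw⟩
    rcases hmin _ hn (Subgroup.zpowers_le.mpr hz) with h | h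
    · exact absurd (Subgroup.zpowers_eq_bot.mp h) hz1
    · rw [← h, Nat.card_zpowers]
      exact orderOf_eq_prime (by rw [sq]; exact hZ2 z hz) hz1
  by_cases htriv : ∀ y : Y, ∀ z ∈ Z, y * z * y⁻¹ = z
  · exact Or.inl ⟨hcyc z₁ hz₁ hz₁1 fun y => htriv y z₁ hz₁, htriv⟩
  push_neg at htriv
  obtain ⟨y₀, z₀, hz₀, hne⟩ := htriv
  have hkfix : ∀ k ∈ φ.ker, ∀ z ∈ Z, k * z * k⁻¹ = z := fun k hk z hz => by
    rw [← hcen z hz k hk, mul_inv_cancel_right]
  let ψZ : Y →* MulAut Z := MulAut.conjNormal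
  have hψZk : ψZ.ker = φ.ker := ker_eq φ hφ ψZ (fun k hk => MonoidHom.mem_ker.mpr (MulEquiv.ext fun z =>
    Subtype.ext (by rw [MulAut.conjNormal_apply, hkfix k hk z z.2]; rfl))) (y₀ := y₀) (fun e => hne (by
      have := MulAut.conjNormal_apply y₀ (⟨z₀, hz₀⟩ : Z)
      rw [show (MulAut.conjNormal y₀ : MulAut Z) = 1 from e, MulAut.one_apply] at this
      exact this.symm))
  have hexp : ∀ z : Z, z * z = 1 := fun z => Subtype.ext (hZ2 z z.2)
  rcases card_exp_two hexp (elem_le hr π hπ Z hZ2) (not_small hL φ hφ ψZ hψZk) with h8 | h16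
  · exact Or.inr ⟨h8, hZ2, hkfix, y₀, z₀, hz₀, hne⟩
  exfalso
  rcases classify hL φ hφ h16 hexp ψZ hψZk with ⟨W, hW8, hWinv, -⟩ | ⟨r, hr1, hrfix, -, -⟩
  · have hn : (W.map Z.subtype).Normal := ⟨by
      rintro _ ⟨w, hw, rfl⟩ g
      exact ⟨ψZ g w, hWinv g w hw, MulAut.conjNormal_apply g w⟩⟩
    have hc : Nat.card (W.map Z.subtype) = 8 := by rw [Subgroup.card_map_of_injective Z.subtype_injective, hW8]
    rcases hmin _ hn (Subgroup.map_subtype_le W) with h | h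
    · rw [h, Subgroup.card_bot] at hc; omega
    · rw [h, h16] at hc; omega
  · have := hcyc r r.2 (fun e => hr1 (Subtype.ext e)) fun y => by
      have := congrArg Subtype.val (hrfix y)
      rwa [MulAut.conjNormal_apply] at this
    omega

end Sec

end CfsgLib.SectL32
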