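/-
The first layer below the Frattini quotient.
-/
import Cfsg.Agent.Lib.SectL32.Section

set_option autoImplicit false
set_option linter.style.haveILetI false
set_option linter.unusedSectionVars false
set_option maxRecDepth 8000

namespace CfsgLib.SectL32

open scoped commutatorElement

/-- Squares of products with central involutions. -/
theorem sq_mul_central {Y : Type*} [Group Y] {a z : Y} (h : z * a = a * z) (h2 : z * z = 1) :
    a * z * (a * z) = a * a := by
  rw [show a * z * (a * z) = a * (z * a) * z by group, h, show a * (a * z) * z = a * a * (z * z) by group, h2, mul_one]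

/-- The index two lemma. -/
theorem two_coset {Y : Type*} [Group Y] [Finite Y] {Q₀ R : Subgroup Y} (hle : Q₀ ≤ R)
    (hcard : Nat.card R = 2 * Nat.card Q₀) {r a : Y} (hr : r ∈ R) (hrn : r ∉ Q₀) (ha : a ∈ R) (han : a ∉ Q₀) :
    a * r⁻¹ ∈ Q₀ := by
  have hidx : (Q₀.subgroupOf R).index = 2 := by
    have := (Q₀.subgroupOf R).card_mul_index
    rw [Nat.card_congr (Subgroup.subgroupOfEquivOfLe hle).toEquiv, hcard, mul_comm 2] at this
    exact Nat.eq_of_mul_eq_mul_left Nat.card_pos this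
  have h : (⟨a, ha⟩ : R) * (⟨r, hr⟩ : R)⁻¹ ∈ Q₀.subgroupOf R := by
    rw [Subgroup.mul_mem_iff_of_index_two hidx, inv_mem_iff]
    exact iff_of_false han hrn
  exact h

set_option maxHeartbeats 4000000 in
/-- The first layer. -/
theorem layer_one {X Y L : Type*} [Group X] [Finite X] [Group Y] [Finite Y] [Group L] [Finite L] [IsSimpleGroup L]
    (hr : Cfsg.SectionalPRankLE 2 4 X) (π : X →* Y) (hπ : Function.Surjective π) (hL : Nat.card L = 168)
    (φ : Y →* L) (hφ : Function.Surjective φ) (Z : Subgroup Y) [Z.Normal] (hZk : Z ≤ φ.ker)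
    (hcen : ∀ z ∈ Z, ∀ a ∈ φ.ker, z * a = a * z) (hZ2 : ∀ z ∈ Z, z * z = 1) (hZne : Z ≠ ⊥)
    (hmin : ∀ W : Subgroup Y, W.Normal → W ≤ Z → W = ⊥ ∨ W = Z) (hsq : ∀ a ∈ φ.ker, a * a ∈ Z)
    (hgen : Z ≤ Subgroup.closure {g | ∃ a ∈ φ.ker, g = a * a})
    (hfaith : ∀ y : Y, (∀ a ∈ φ.ker, y * a * y⁻¹ * a⁻¹ ∈ Z) → y ∈ φ.ker) :
    Nat.card Z = 2 ∧ (∀ a ∈ φ.ker, ∀ b ∈ φ.ker, a * b = b * a) ∧ ∃ Q₀ : Subgroup Y, NatSec φ Q₀ Z ∧
      Nat.card Q₀ = 16 ∧ Nat.card φ.ker = 32 ∧ (∀ a ∈ Q₀, a * a = 1) ∧ ∀ a ∈ φ.ker, a ∉ Q₀ → a * a ≠ 1 := by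
  classical
  set R := φ.ker with hRdef
  haveI hRn : R.Normal := MonoidHom.normal_ker φ
  let p := QuotientGroup.mk' Z
  have hp : Function.Surjective p := QuotientGroup.mk'_surjective Z
  have hpk : p.ker = Z := QuotientGroup.ker_mk' Z
  have pone : ∀ a, p a = 1 ↔ a ∈ Z := fun a => QuotientGroup.eq_one_iff a
  set V := R.map p with hVdef
  haveI hVn : V.Normal := Subgroup.Normal.map inferInstance _ hp
  have hVexp : ∀ v : V, v * v = 1 := by
    rintro ⟨_, a, ha, rfl⟩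
    refine Subtype.ext ?_
    show p a * p a = 1
    rw [← map_mul, pone]
    exact hsq a ha
  -- commutators lie in `Z`
  have hRZ : ∀ k ∈ R, ∀ a ∈ R, k * a * k⁻¹ * a⁻¹ ∈ Z := by
    intro k hk a ha
    rw [← pone, map_mul, map_mul, map_mul, map_inv, map_inv]
    have hinv : ∀ x : V, x⁻¹ = x := fun x => inv_eq_of_mul_eq_one_right (hVexp x)
    have h : (⟨p k, k, hk, rfl⟩ : V) * ⟨p a, a, ha, rfl⟩ = ⟨p a, a, ha, rfl⟩ * ⟨p k, k, hk, rfl⟩ :=
      (hinv _).symm.trans (by rw [mul_inv_rev, hinv, hinv])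
    have h' : p k * p a = p a * p k := congrArg Subtype.val h
    rw [h', mul_inv_cancel_right, mul_inv_cancel]
  let ψ : Y →* MulAut V := (MulAut.conjNormal).comp p
  have hψv : ∀ y a (h : p a ∈ V), ((ψ y ⟨_, h⟩ : V) : Y ⧸ Z) = p (y * a * y⁻¹) := fun y a h => by
    show ((MulAut.conjNormal (p y) ⟨_, h⟩ : V) : Y ⧸ Z) = _
    rw [MulAut.conjNormal_apply, map_mul, map_mul, map_inv]
  have hψeq : ∀ y a (h : p a ∈ V), ψ y ⟨_, h⟩ = ⟨_, h⟩ → y * a * y⁻¹ * a⁻¹ ∈ Z := fun y a h e => by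
    rw [← pone, map_mul, ← hψv y a h, e, map_inv, mul_inv_cancel]
  have hψk : ψ.ker = R := by
    ext y
    refine ⟨fun hy => hfaith y fun a ha => hψeq y a ⟨a, ha, rfl⟩ (by rw [MonoidHom.mem_ker.mp hy]; rfl),
      fun hy => MonoidHom.mem_ker.mpr (MulEquiv.ext fun v => ?_)⟩
    obtain ⟨_, a, ha, rfl⟩ := v
    refine Subtype.ext ((hψv y a _).trans ?_)
    rw [MulAut.one_apply]
    show p (y * a * y⁻¹) = p a
    rw [← mul_inv_eq_one, ← map_inv, ← map_mul, pone]
    exact hRZ y hy a ha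
  have hV16 : Nat.card V ≤ 16 := elem_le hr (p.comp π) (hp.comp hπ) V fun v hv => congrArg Subtype.val (hVexp ⟨v, hv⟩)
  have hRcard : Nat.card V * Nat.card Z = Nat.card R := by
    have := card_map_mul p R (hpk.trans_le hZk)
    rwa [hpk] at this
  -- the type of `Z`
  have hZtype : (Nat.card Z = 2 ∧ ∀ y : Y, ∀ z ∈ Z, y * z * y⁻¹ = z) ∨ IsNat φ Z :=
    min_type hr π hπ hL φ hφ Z hcen hZ2 hZne hmin
  have hall : (∀ a ∈ R, a * a = 1) → False := fun h => hZne (le_bot_iff.mp (hgen.trans (by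
    rw [Subgroup.closure_le]
    rintro _ ⟨a, ha, rfl⟩
    exact Subgroup.mem_bot.mpr (h a ha))))
  have hconst : ∀ a ∈ R, ∀ z ∈ Z, a * z * (a * z) = a * a := fun a ha z hz =>
    sq_mul_central (hcen z hz a ha) (hZ2 z hz)
  have hfeq : ∀ (y a : Y), y * a * y⁻¹ * (y * a * y⁻¹) = y * (a * a) * y⁻¹ := fun y a => by group
  -- squares in a natural section
  have sqpart : ∀ N Z' : Subgroup Y, NatSec φ N Z' → (∀ a ∈ N, ∀ z ∈ Z', a * z * (a * z) = a * a) →
      (∀ a ∈ N, a * a = 1) ∨ (IsNat φ Z ∧ (∀ a ∈ N, ∀ b ∈ N, a * b = b * a) ∧ (∀ a ∈ N, a * a = 1 → a ∈ Z') ∧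
        ∀ z ∈ Z, ∃ a ∈ N, a * a = z) := by
    intro N Z' S hc
    rcases hZtype with ⟨h2, htriv⟩ | hnat
    · exact Or.inl (S.sq_eq_one hL hφ hc (fun y a ha => htriv y _ (hsq a (S.leK ha)))
        fun a ha => hZ2 _ (hsq a (S.leK ha)))
    rcases S.map_nat hL hφ hnat (fun a => a * a) (fun a ha => hsq a (S.leK ha)) (mul_one 1) hc
      (fun y a _ => hfeq y a) with h | ⟨h1, h2, h3⟩
    · exact Or.inl h
    refine Or.inr ⟨hnat, fun a ha b hb => ?_, h2, h3⟩
    have e := h1 a ha b hb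
    rw [show a * b * (a * b) = a * (b * a) * b by group, show a * a * (b * b) = a * (a * b) * b by group] at e
    exact (mul_left_cancel (mul_right_cancel e)).symm
  -- the cube
  have cubecase : ∀ A : Subgroup Y, A.Normal → Z ≤ A → A ≤ R → IsNat φ Z → Nat.card A = 64 →
      (∀ a ∈ A, ∀ b ∈ A, a * b = b * a) → (∀ a ∈ A, a * a = 1 → a ∈ Z) → (∀ z ∈ Z, ∃ a ∈ A, a * a = z) →
      (∀ k ∈ R, k ∈ A ∨ ∀ a ∈ A, k * a * k⁻¹ = a⁻¹) → False := by
    intro A hAn hZA hAR hnat hA hcomm hker hsurj hk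
    refine cube hr π hπ hL φ hφ A Z hAR hcomm hA (fun a ha => ?_) (fun a => ⟨fun h => ⟨hZA h, hZ2 a h⟩,
      fun h => hker a h.1 h.2⟩) hnat.1 hk ?_
    · rw [show a ^ 4 = a * a * (a * a) by simp [pow_succ, mul_assoc]]
      exact hZ2 _ (hsq a (hAR ha))
    · obtain ⟨y, z, hz, hne⟩ := hnat.2.2.2
      obtain ⟨a, ha, rfl⟩ := hsurj z hz
      exact ⟨y, a, ha, hne⟩
  -- the abelian case
  have abelcase : IsNat φ Z → Nat.card R = 128 → (∀ a ∈ R, ∀ b ∈ R, a * b = b * a) →
      (∀ z ∈ Z, ∃ a ∈ R, a * a = z) → False := by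
    intro hnat hR hcomm hsurj
    let Ω : Subgroup Y :=
      { carrier := {a | a ∈ R ∧ a * a = 1}
        one_mem' := ⟨one_mem _, one_mul 1⟩
        mul_mem' := fun {a b} ha hb => ⟨mul_mem ha.1 hb.1, by
          rw [show a * b * (a * b) = a * (b * a) * b by group, hcomm b hb.1 a ha.1,
            show a * (a * b) * b = a * a * (b * b) by group, ha.2, hb.2, mul_one]⟩
        inv_mem' := fun {a} ha => ⟨inv_mem ha.1, by rw [← mul_inv_rev, ha.2, inv_one]⟩ }
    have hΩ : Nat.card Ω = 16 := by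
      let S : R →* Z :=
        { toFun := fun a => ⟨(a : Y) * a, hsq a a.2⟩
          map_one' := Subtype.ext (mul_one 1)
          map_mul' := fun a b => Subtype.ext (by
            show (a : Y) * b * (a * b) = a * a * (b * b)
            rw [mul_assoc, ← mul_assoc (b : Y), hcomm b b.2 a a.2]; group) }
      have hk : Nat.card S.ker = Nat.card Ω := Nat.card_congr
        { toFun := fun a => ⟨((a : R) : Y), (a : R).2, congrArg Subtype.val (MonoidHom.mem_ker.mp a.2)⟩
          invFun := fun w => ⟨⟨w, w.2.1⟩, MonoidHom.mem_ker.mpr (Subtype.ext w.2.2)⟩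
          left_inv := fun a => rfl
          right_inv := fun w => rfl }
      have hs : Function.Surjective S := fun z => by
        obtain ⟨a, ha, e⟩ := hsurj z z.2
        exact ⟨⟨a, ha⟩, Subtype.ext e⟩
      have h := S.ker.card_mul_index
      rw [Subgroup.index_ker, hk, MonoidHom.range_eq_top.mpr hs, Subgroup.card_top, hnat.1, hR] at h
      omega
    refine abel hr π hπ hL φ hφ R Ω Z rfl hcomm (fun a ha => ?_) (fun a => Iff.rfl) hΩ
      (fun z hz => ⟨hZk hz, hZ2 z hz⟩) hnat.1 hsurj hnat.2.2.2 (Or.inl hsq)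
    rw [show a ^ 4 = a * a * (a * a) by simp [pow_succ, mul_assoc]]
    exact hZ2 _ (hsq a ha)
  have mkSec : ∀ N Z' : Subgroup Y, N.Normal → Z'.Normal → Z ≤ Z' → Z' ≤ N → N ≤ R →
      Nat.card N = 8 * Nat.card Z' → (∃ y, ∃ a ∈ N, y * a * y⁻¹ * a⁻¹ ∉ Z') → NatSec φ N Z' := by
    intro N Z' hN hZ' hZZ' hle hNR hc hnt
    refine ⟨hN, hZ', hle, hNR, ?_, fun a ha => hZZ' (hsq a (hNR ha)),
      fun k hk a ha => hZZ' (hRZ k hk a (hNR ha)), hnt⟩
    intro _
    have := card_map_mul (QuotientGroup.mk' Z') N ((QuotientGroup.ker_mk' Z').trans_le hle)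
    rw [QuotientGroup.ker_mk', hc] at this
    exact Nat.eq_of_mul_eq_mul_right Nat.card_pos this
  -- the order of the Frattini quotient
  rcases card_exp_two hVexp hV16 (not_small hL φ hφ ψ hψk) with hV8 | hV16'
  · -- natural quotient
    exfalso
    have S : NatSec φ R Z := mkSec R Z hRn inferInstance le_rfl hZk le_rfl (by rw [← hRcard, hV8]) (by
      by_contra h
      push_neg at h
      have : ψ.ker = ⊤ := top_le_iff.mp fun y _ => by
        rw [hψk]; exact hfaith y fun a ha => h y a ha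
      rw [hψk, hRdef] at this
      obtain ⟨l, hl⟩ := exists_ne (1 : L)
      obtain ⟨y, rfl⟩ := hφ l
      exact hl (MonoidHom.mem_ker.mp (this.ge (Subgroup.mem_top y))))
    rcases sqpart R Z S hconst with h | ⟨hnat, hcomm, hk, hsurj⟩
    · exact hall h
    · exact cubecase R hRn hZk le_rfl hnat (by rw [← hRcard, hV8, hnat.1]) hcomm hk hsurj fun k hk' => Or.inl hk'
  rcases classify hL φ hφ hV16' hVexp ψ hψk with ⟨W, hW8, hWinv, g₀, w₀, hw₀, hgw₀⟩ |
      ⟨⟨r', r₀, hr₀, hpr⟩, hr1, hrfix, hswap, g₁, v₁, hg₁, hg₁'⟩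
  · -- an invariant complement of order eight
    set Q₀ : Subgroup Y := (W.map V.subtype).comap p with hQ₀
    have hQ₀R : Q₀ ≤ R := fun a ha => by
      obtain ⟨w, -, e⟩ := ha
      obtain ⟨b, hb, e'⟩ := w.2
      have hab : p b = p a := e'.trans e
      have : b⁻¹ * a ∈ Z := QuotientGroup.eq.mp hab
      rw [← mul_inv_cancel_left b a]
      exact mul_mem hb (hZk this)
    haveI hQ₀n : Q₀.Normal := ⟨fun a ⟨w, hw, e⟩ g => ⟨ψ g w, hWinv g w hw, by
      show ((ψ g w : V) : Y ⧸ Z) = p (g * a * g⁻¹)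
      rw [show w = ⟨p a, e ▸ w.2⟩ from Subtype.ext e, hψv]⟩⟩
    have hZQ₀ : Z ≤ Q₀ := fun z hz => ⟨1, one_mem _, ((pone z).mpr hz).symm⟩
    have hQcard : Nat.card Q₀ = 8 * Nat.card Z := by
      have := card_map_mul p Q₀ (hpk.trans_le hZQ₀)
      rw [hpk, hQ₀, Subgroup.map_comap_eq_self_of_surjective hp,
        Subgroup.card_map_of_injective V.subtype_injective, hW8] at this
      rw [hQ₀]; exact this.symm
    have S : NatSec φ Q₀ Z := mkSec Q₀ Z hQ₀n inferInstance le_rfl hZQ₀ hQ₀R hQcard (by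
      obtain ⟨_, a, ha, rfl⟩ := w₀
      refine ⟨g₀, a, ⟨_, hw₀, rfl⟩, fun h => hgw₀ (Subtype.ext ?_)⟩
      refine (hψv g₀ a _).trans ?_
      show p (g₀ * a * g₀⁻¹) = p a
      rw [← mul_inv_eq_one, ← map_inv, ← map_mul, pone]; exact h)
    have hR2 : Nat.card R = 2 * Nat.card Q₀ := by rw [← hRcard, hV16', hQcard]; ring
    obtain ⟨r₀, hr₀, hr₀Q⟩ : ∃ r ∈ R, r ∉ Q₀ := by
      by_contra h
      push_neg at h
      have := Subgroup.card_le_of_le (show R ≤ Q₀ from h)
      have h0 : 0 < Nat.card Q₀ := Nat.card_pos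
      omega
    have hsplit : ∀ k ∈ R, k ∈ Q₀ ∨ k * r₀⁻¹ ∈ Q₀ := fun k hk => by
      by_cases h : k ∈ Q₀
      · exact Or.inl h
      · exact Or.inr (two_coset hQ₀R hR2 hr₀ hr₀Q hk h)
    have hQcomm : ∀ a ∈ Q₀, ∀ b ∈ Q₀, a * b = b * a := by
      rcases sqpart Q₀ Z S (fun a ha => hconst a (hQ₀R ha)) with h | ⟨-, h, -, -⟩
      · intro a ha b hb
        have hi : ∀ c ∈ Q₀, c⁻¹ = c := fun c hc => inv_eq_of_mul_eq_one_right (h c hc)
        rw [← hi _ (mul_mem ha hb), mul_inv_rev, hi a ha, hi b hb]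
      · exact h
    -- the commutator with `r₀`
    let β : Y → Y := fun a => a * r₀ * a⁻¹ * r₀⁻¹
    have hβZ : ∀ a ∈ Q₀, β a ∈ Z := fun a ha => hRZ a (hQ₀R ha) r₀ hr₀
    have hβz : ∀ z ∈ Z, β z = 1 := fun z hz => by
      show z * r₀ * z⁻¹ * r₀⁻¹ = 1
      rw [hcen z hz r₀ hr₀, mul_inv_cancel_right, mul_inv_cancel]
    have hβhom : ∀ a ∈ Q₀, ∀ b ∈ Q₀, β (a * b) = β a * β b := fun a ha b hb => by
      have h1 : β (a * b) = a * β b * a⁻¹ * β a := by show _ = _; simp only [β]; group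
      have hb' := hβZ b hb
      rw [h1, ← hcen _ hb' a (hQ₀R ha), mul_inv_cancel_right, hcen _ (hβZ a ha) (β b) (hZk hb') |>.symm]
    have hβc : ∀ a ∈ Q₀, ∀ z ∈ Z, β (a * z) = β a := fun a ha z hz => by
      rw [hβhom a ha z (hZQ₀ hz), hβz z hz, mul_one]
    have hβeq : ∀ y, ∀ a ∈ Q₀, β (y * a * y⁻¹) = y * β a * y⁻¹ := by
      intro y a ha
      have hyr : y * r₀ * y⁻¹ ∈ R := hRn.conj_mem _ hr₀ y
      have hy0 : y * r₀ * y⁻¹ ∉ Q₀ := fun h => hr₀Q (by simpa [mul_assoc] using hQ₀n.conj_mem' _ h y)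
      set b := y * r₀ * y⁻¹ * r₀⁻¹ with hb
      have hbQ : b ∈ Q₀ := two_coset hQ₀R hR2 hr₀ hr₀Q hyr hy0
      set a' := y * a * y⁻¹ with ha'
      have ha'Q : a' ∈ Q₀ := hQ₀n.conj_mem _ ha y
      have e : y * β a * y⁻¹ = b * β a' * b⁻¹ := by
        have e1 : y * β a * y⁻¹ = a' * b * r₀ * a'⁻¹ * r₀⁻¹ * b⁻¹ := by simp only [β, ha', hb]; group
        rw [e1, hQcomm a' ha'Q b hbQ]; simp only [β]; group
      rw [e, ← hcen _ (hβZ a' ha'Q) b (hQ₀R hbQ), mul_inv_cancel_right]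
    -- commutativity of the radical when `β` is trivial
    have hRcomm : (∀ a ∈ Q₀, β a = 1) → ∀ a ∈ R, ∀ b ∈ R, a * b = b * a := by
      intro hβ
      have hc : ∀ a ∈ Q₀, a * r₀ = r₀ * a := fun a ha => mul_inv_eq_iff_eq_mul.mp (mul_inv_eq_one.mp (hβ a ha))
      have hgenR : R ≤ Subgroup.closure ((Q₀ : Set Y) ∪ {r₀}) := fun k hk => by
        rcases hsplit k hk with h | h
        · exact Subgroup.subset_closure (Or.inl h)
        · rw [← inv_mul_cancel_right k r₀]
          exact mul_mem (Subgroup.subset_closure (Or.inl h)) (Subgroup.subset_closure (Or.inr rfl))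
      have h1 : ∀ a ∈ Q₀, R ≤ Subgroup.centralizer {a} := fun a ha => hgenR.trans (by
        rw [Subgroup.closure_le]
        rintro s (hs | rfl)
        · exact Subgroup.mem_centralizer_singleton_iff.mpr (hQcomm s hs a ha)
        · exact Subgroup.mem_centralizer_singleton_iff.mpr (hc a ha).symm)
      intro a ha b hb
      have h2 : R ≤ Subgroup.centralizer {b} := hgenR.trans (by
        rw [Subgroup.closure_le]
        rintro s (hs | rfl)
        · exact Subgroup.mem_centralizer_singleton_iff.mpr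
            (Subgroup.mem_centralizer_singleton_iff.mp (h1 s hs hb)).symm
        · refine Subgroup.mem_centralizer_singleton_iff.mpr ?_
          rcases hsplit b hb with h | h
          · exact (hc b h).symm
          · rw [← inv_mul_cancel_right b s, ← mul_assoc, ← hc _ h, mul_assoc]
      )
      exact Subgroup.mem_centralizer_singleton_iff.mp (h2 ha)
    rcases hZtype with ⟨h2, htriv⟩ | hnat
    · -- the good shape
      have hQ1 : ∀ a ∈ Q₀, a * a = 1 := (sqpart Q₀ Z S (fun a ha => hconst a (hQ₀R ha))).resolve_right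
        fun h => by have := h.1.1; omega
      have hβ1 := S.hom_trivial hL hφ β hβhom hβz fun y a ha => by rw [hβeq y a ha, htriv y _ (hβZ a ha)]
      have hRc := hRcomm hβ1
      refine ⟨h2, hRc, Q₀, S, by rw [hQcard, h2], by rw [hR2, hQcard, h2], hQ1, fun a ha haQ ha1 => ?_⟩
      refine hall fun k hk => ?_
      have hsq2 : ∀ c ∈ Q₀, ∀ d ∈ R, c * d * (c * d) = d * d := fun c hc d hd => by
        rw [show c * d * (c * d) = c * (d * c) * d by group, hRc d hd c (hQ₀R hc),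
          show c * (c * d) * d = c * c * (d * d) by group, hQ1 c hc, one_mul]
      have hr1 : r₀ * r₀ = 1 := by
        have h := hsq2 _ (two_coset hQ₀R hR2 hr₀ hr₀Q ha haQ) r₀ hr₀
        rw [inv_mul_cancel_right, ha1] at h
        exact h.symm
      rcases hsplit k hk with h | h
      · exact hQ1 k h
      · have h' := hsq2 _ h r₀ hr₀
        rw [inv_mul_cancel_right] at h'
        rw [h', hr1]
    · exfalso
      have hQ64 : Nat.card Q₀ = 64 := by rw [hQcard, hnat.1]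
      obtain ⟨-, -, hk1, hsurj⟩ := (sqpart Q₀ Z S (fun a ha => hconst a (hQ₀R ha))).resolve_left fun h => by
        have := elem_le hr π hπ Q₀ h
        omega
      rcases S.map_nat hL hφ hnat β hβZ (hβz 1 (one_mem _)) hβc hβeq with h | ⟨-, hb2, -⟩
      · exact abelcase hnat (by rw [hR2, hQ64]) (hRcomm h) fun z hz => by
          obtain ⟨a, ha, e⟩ := hsurj z hz
          exact ⟨a, hQ₀R ha, e⟩
      · -- `r₀` inverts
        have hinv : ∀ a ∈ Q₀, r₀ * a * r₀⁻¹ = a⁻¹ := by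
          intro a ha
          have e : β a = a * a := by
            by_cases haZ : a ∈ Z
            · rw [hβz a haZ, hZ2 a haZ]
            · exact S.unique hL hφ hnat β (fun a => a * a) hβZ (fun a ha => hsq a (hQ₀R ha)) hβc
                (fun a ha => hconst a (hQ₀R ha)) hβeq (fun y a _ => hfeq y a) ha haZ
                (fun h => haZ (hb2 a ha h)) (fun h => haZ (hk1 a ha h))
          have e' : r₀ * a⁻¹ * r₀⁻¹ = a := by
            calc r₀ * a⁻¹ * r₀⁻¹ = a⁻¹ * (a * r₀ * a⁻¹ * r₀⁻¹) := by group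
              _ = a⁻¹ * (a * a) := congrArg (a⁻¹ * ·) e
              _ = a := by group
          calc r₀ * a * r₀⁻¹ = (r₀ * a⁻¹ * r₀⁻¹)⁻¹ := by group
            _ = a⁻¹ := by rw [e']
        refine cubecase Q₀ hQ₀n hZQ₀ hQ₀R hnat hQ64 hQcomm hk1 hsurj fun k hk => ?_
        rcases hsplit k hk with h | h
        · exact Or.inl h
        · refine Or.inr fun a ha => ?_
          rw [show k * a * k⁻¹ = k * r₀⁻¹ * (r₀ * a * r₀⁻¹) * (k * r₀⁻¹)⁻¹ by group, hinv a ha,
            hQcomm _ h _ (inv_mem ha), mul_inv_cancel_right]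
  · -- a fixed point without complement
    exfalso
    subst hpr
    have hr₀Z : r₀ ∉ Z := fun h => hr1 (Subtype.ext ((pone r₀).mpr h))
    have hyr : ∀ y, y * r₀ * y⁻¹ * r₀⁻¹ ∈ Z := fun y => hψeq y r₀ _ (hrfix y)
    let Zr : Subgroup Y := (Subgroup.zpowers (p r₀)).comap p
    have hr2 : p r₀ * p r₀ = 1 := by rw [← map_mul, pone]; exact hsq r₀ hr₀
    have hmemZr : ∀ a, a ∈ Zr ↔ a ∈ Z ∨ a * r₀⁻¹ ∈ Z := by
      intro a
      show p a ∈ Subgroup.zpowers (p r₀) ↔ _
      rw [← pone, ← pone, map_mul, map_inv, mul_inv_eq_one]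
      constructor
      · rintro ⟨i, hi : p r₀ ^ i = p a⟩
        rw [← hi]
        rcases Int.even_or_odd i with ⟨m, rfl⟩ | ⟨m, rfl⟩
        · left; rw [← two_mul, zpow_mul, zpow_two, hr2, one_zpow]
        · right; rw [zpow_add, zpow_one, zpow_mul, zpow_two, hr2, one_zpow, one_mul]
      · rintro (h | h) <;> rw [h]
        · exact one_mem _
        · exact Subgroup.mem_zpowers _
    haveI hZrn : Zr.Normal := ⟨fun a ha g => by
      show p (g * a * g⁻¹) ∈ Subgroup.zpowers (p r₀)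
      obtain ⟨i, hi : p r₀ ^ i = p a⟩ := (ha : p a ∈ Subgroup.zpowers (p r₀))
      have : p g * p r₀ * (p g)⁻¹ = p r₀ := by
        have h := (pone _).mpr (hyr g)
        rwa [map_mul, map_inv, mul_inv_eq_one, map_mul, map_mul, map_inv] at h
      rw [map_mul, map_mul, map_inv, ← hi, ← conj_zpow, this]
      exact ⟨i, rfl⟩⟩
    have hZZr : Z ≤ Zr := fun z hz => (hmemZr z).mpr (Or.inl hz)
    have hZrR : Zr ≤ R := fun a ha => by
      rcases (hmemZr a).mp ha with h | h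
      · exact hZk h
      · rw [← inv_mul_cancel_right a r₀]; exact mul_mem (hZk h) hr₀
    have hZrcard : Nat.card Zr = 2 * Nat.card Z := by
      have := card_map_mul p Zr (hpk.trans_le hZZr)
      rw [hpk, Subgroup.map_comap_eq_self_of_surjective hp, Nat.card_zpowers,
        orderOf_eq_prime (p := 2) (by rw [sq]; exact hr2) (fun e => hr1 (Subtype.ext e))] at this
      exact this.symm
    have S : NatSec φ R Zr := mkSec R Zr hRn hZrn hZZr hZrR le_rfl (by rw [← hRcard, hV16', hZrcard]; ring) (by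
      obtain ⟨_, a, ha, rfl⟩ := v₁
      refine ⟨g₁, a, ha, fun h => ?_⟩
      rcases (hmemZr _).mp h with h' | h' <;> rw [← pone, map_mul, map_inv, mul_inv_eq_one] at h'
      · exact hg₁ (Subtype.ext ((hψv g₁ a _).trans h'))
      · rw [map_mul, map_inv, mul_inv_eq_iff_eq_mul] at h'
        refine hg₁' (Subtype.ext ((hψv g₁ a _).trans (h'.trans ?_)))
        show p r₀ * p a = p a * p r₀
        exact congrArg Subtype.val (show (⟨p r₀, r₀, hr₀, rfl⟩ : V) * ⟨p a, a, ha, rfl⟩ = _ * _ from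
          (inv_eq_of_mul_eq_one_right (hVexp _)).symm.trans (by
            rw [mul_inv_rev, inv_eq_of_mul_eq_one_right (hVexp _), inv_eq_of_mul_eq_one_right (hVexp _)])))
    have swap : ∀ a ∈ R, a ∉ Zr → ∃ g, g * a * g⁻¹ * (a * r₀)⁻¹ ∈ Z := by
      intro a ha haZ
      obtain ⟨g, hg⟩ := hswap ⟨p a, a, ha, rfl⟩ (fun e => haZ (hZZr ((pone a).mp (congrArg Subtype.val e))))
        (fun e => haZ ((hmemZr a).mpr (Or.inr (by
          rw [← pone, map_mul, map_inv, mul_inv_eq_one]; exact congrArg Subtype.val e))))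
      refine ⟨g, ?_⟩
      have h := hψv g a ⟨a, ha, rfl⟩
      rw [hg] at h
      rw [← pone, map_mul, map_inv, mul_inv_eq_one, ← h]
      exact (map_mul p a r₀).symm
    -- the commutator with `r₀`
    let β : Y → Y := fun a => a * r₀ * a⁻¹ * r₀⁻¹
    have hβZ : ∀ a ∈ R, β a ∈ Z := fun a ha => hRZ a ha r₀ hr₀
    have hβhom : ∀ a ∈ R, ∀ b ∈ R, β (a * b) = β a * β b := fun a ha b hb => by
      have h1 : β (a * b) = a * β b * a⁻¹ * β a := by show _ = _; simp only [β]; group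
      have hb' := hβZ b hb
      rw [h1, ← hcen _ hb' a ha, mul_inv_cancel_right, hcen _ (hβZ a ha) (β b) (hZk hb') |>.symm]
    have hβz : ∀ z ∈ Zr, β z = 1 := fun z hz => by
      show z * r₀ * z⁻¹ * r₀⁻¹ = 1
      rcases (hmemZr z).mp hz with h | h
      · rw [hcen z h r₀ hr₀, mul_inv_cancel_right, mul_inv_cancel]
      · have := hcen _ h r₀ hr₀
        rw [show z * r₀ * z⁻¹ * r₀⁻¹ = z * r₀⁻¹ * r₀ * (z * r₀⁻¹)⁻¹ * r₀⁻¹ by group, this, mul_inv_cancel_right,
          mul_inv_cancel]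
    have hβc : ∀ a ∈ R, ∀ z ∈ Zr, β (a * z) = β a := fun a ha z hz => by
      rw [hβhom a ha z (hZrR hz), hβz z hz, mul_one]
    have hβeq : ∀ y, ∀ a ∈ R, β (y * a * y⁻¹) = y * β a * y⁻¹ := by
      intro y a ha
      set a' := y * a * y⁻¹ with ha'
      set z := y * r₀ * y⁻¹ * r₀⁻¹ with hz
      have e1 : y * β a * y⁻¹ = a' * z * r₀ * a'⁻¹ * r₀⁻¹ * z⁻¹ := by simp only [β, ha', hz]; group
      have ha'R : a' ∈ R := hRn.conj_mem a ha y
      rw [e1, ← hcen z (hyr y) a' ha'R, show z * a' * r₀ * a'⁻¹ * r₀⁻¹ * z⁻¹ = z * β a' * z⁻¹ by simp only [β]; group,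
        ← hcen _ (hβZ a' ha'R) z (hZk (hyr y)), mul_inv_cancel_right]
    have hβinv : ∀ a ∈ R, β a * β a = 1 := fun a ha => hZ2 _ (hβZ a ha)
    have hβ1 : ∀ a ∈ R, β a = 1 := by
      rcases hZtype with ⟨-, htriv⟩ | hnat
      · exact S.hom_trivial hL hφ β hβhom hβz fun y a ha => by rw [hβeq y a ha, htriv y _ (hβZ a ha)]
      rcases S.map_nat hL hφ hnat β hβZ (hβz 1 (one_mem _)) hβc hβeq with h | ⟨-, hb2, -⟩
      · exact h
      exfalso
      obtain ⟨a, -, -, ha, -, -, haZ, -⟩ := S.triple hL hφ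
      obtain ⟨y, z₀, hya, hy3, -, -, -, huniq⟩ := S.three_fix hL hφ hnat ha haZ
      have hya' : y * a * y⁻¹ * a⁻¹ ∈ Z := by
        rcases (hmemZr _).mp hya with h | h
        · exact h
        exfalso
        have e : p y * p a * (p y)⁻¹ = p r₀ * p a := by
          have h' := (pone _).mpr h
          rw [map_mul, map_mul, map_mul, map_mul, map_inv, map_inv, map_inv, mul_inv_eq_one,
            mul_inv_eq_iff_eq_mul] at h'
          exact h'
        have er : p y * p r₀ * (p y)⁻¹ = p r₀ := by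
          have h' := (pone _).mpr (hyr y)
          rwa [map_mul, map_mul, map_mul, map_inv, map_inv, mul_inv_eq_one] at h'
        have e3 := (pone _).mpr (hRZ _ hy3 a ha)
        rw [map_mul, map_mul, map_mul, map_inv, map_inv, map_mul, map_mul, mul_inv_eq_one] at e3
        rw [show p y * p y * p y * p a * (p y * p y * p y)⁻¹ =
          p y * (p y * (p y * p a * (p y)⁻¹) * (p y)⁻¹) * (p y)⁻¹ by group, e,
          show p y * (p r₀ * p a) * (p y)⁻¹ = (p y * p r₀ * (p y)⁻¹) * (p y * p a * (p y)⁻¹) by group, er, e,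
          ← mul_assoc (p r₀) (p r₀), hr2, one_mul, e] at e3
        exact hr₀Z ((pone r₀).mp (mul_eq_right.mp e3))
      have hzz : a⁻¹ * (y * a * y⁻¹ * a⁻¹) * a ∈ Z := (inferInstance : Z.Normal).conj_mem' _ hya' a
      have hyaa : y * a * y⁻¹ = a * (a⁻¹ * (y * a * y⁻¹ * a⁻¹) * a) := by group
      have f1 : y * (a * a) * y⁻¹ = a * a := by rw [← hfeq, hyaa, hconst a ha _ hzz]
      have f2 : y * β a * y⁻¹ = β a := by rw [← hβeq y a ha, hyaa, hβc a ha _ (hZZr hzz)]
      have hb1 : β a ≠ 1 := fun h => haZ (hb2 a ha h)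
      have eb : β a = z₀ := (huniq _ (hβZ a ha) f2).resolve_left hb1
      obtain ⟨g, hg⟩ := swap a ha haZ
      have hga : ∃ z ∈ Z, g * a * g⁻¹ = a * r₀ * z := ⟨(a * r₀)⁻¹ * (g * a * g⁻¹), by
        have := (inferInstance : Z.Normal).conj_mem' _ hg (a * r₀)
        simpa [mul_assoc] using this, (mul_inv_cancel_left _ _).symm⟩
      obtain ⟨z, hz, egz⟩ := hga
      have hgb : g * β a * g⁻¹ = β a := by
        rw [← hβeq g a ha, egz, mul_assoc, hβc a ha]
        exact (hmemZr _).mpr (Or.inr (by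
          rw [← hcen z hz r₀ hr₀, mul_inv_cancel_right]; exact hz))
      have hr22 : r₀ * r₀ = 1 := hnat.no_fixed hL hφ (hsq r₀ hr₀) fun g => by
        rw [← hfeq, show g * r₀ * g⁻¹ = r₀ * (r₀⁻¹ * (g * r₀ * g⁻¹ * r₀⁻¹) * r₀) by group,
          hconst r₀ hr₀ _ ((inferInstance : Z.Normal).conj_mem' _ (hyr g) r₀)]
      have hsqr : g * (a * a) * g⁻¹ = a * a * β a := by
        rw [← hfeq, egz, hconst _ (mul_mem ha hr₀) z hz,
          show a * r₀ * (a * r₀) = a * a * (a⁻¹ * (r₀ * a * r₀⁻¹)) * (r₀ * r₀) by group, hr22, mul_one]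
        congr 1
        have hh : r₀ * a * r₀⁻¹ = (β a)⁻¹ * a := by simp only [β]; group
        rw [hh, inv_eq_of_mul_eq_one_right (hβinv a ha), hcen _ (hβZ a ha) a ha, inv_mul_cancel_left]
      rcases huniq _ (hsq a ha) f1 with h | h
      · rw [h, one_mul, mul_one, mul_inv_cancel] at hsqr
        exact hb1 hsqr.symm
      · rw [h, ← eb, hgb, hβinv a ha] at hsqr
        exact hb1 hsqr
    have hr0c : ∀ a ∈ R, a * r₀ = r₀ * a := fun a ha => mul_inv_eq_iff_eq_mul.mp (mul_inv_eq_one.mp (hβ1 a ha))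
    have hr21 : r₀ * r₀ = 1 := by
      rcases hZtype with ⟨h2, htriv⟩ | hnat
      · obtain ⟨a, -, -, ha, -, -, haZ, -⟩ := S.triple hL hφ
        obtain ⟨g, hg⟩ := swap a ha haZ
        have e : g * a * g⁻¹ * (g * a * g⁻¹) = a * r₀ * (a * r₀) := by
          have hz : (a * r₀)⁻¹ * (g * a * g⁻¹) ∈ Z := by
            have := (inferInstance : Z.Normal).conj_mem' _ hg (a * r₀)
            simpa [mul_assoc] using this
          conv_lhs => rw [← mul_inv_cancel_left (a * r₀) (g * a * g⁻¹)]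
          exact hconst _ (mul_mem ha hr₀) _ hz
        rw [hfeq, htriv g _ (hsq a ha), show a * r₀ * (a * r₀) = a * (r₀ * a) * r₀ by group, ← hr0c a ha,
          show a * (a * r₀) * r₀ = a * a * (r₀ * r₀) by group] at e
        exact left_eq_mul.mp e
      · exact hnat.no_fixed hL hφ (hsq r₀ hr₀) fun g => by
          rw [← hfeq, show g * r₀ * g⁻¹ = r₀ * (r₀⁻¹ * (g * r₀ * g⁻¹ * r₀⁻¹) * r₀) by group,
            hconst r₀ hr₀ _ ((inferInstance : Z.Normal).conj_mem' _ (hyr g) r₀)]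
    have hc' : ∀ a ∈ R, ∀ z ∈ Zr, a * z * (a * z) = a * a := by
      intro a ha z hz
      refine sq_mul_central ?_ ?_
      · rcases (hmemZr z).mp hz with h | h
        · exact hcen z h a ha
        · rw [← inv_mul_cancel_right z r₀, mul_assoc, ← hr0c a ha, ← mul_assoc, hcen _ h a ha, mul_assoc]
      · rcases (hmemZr z).mp hz with h | h
        · exact hZ2 z h
        · rw [← inv_mul_cancel_right z r₀, sq_mul_central (hr0c _ (hZk h)).symm hr21]
          exact hZ2 _ h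
    rcases sqpart R Zr S hc' with h | ⟨hnat, hcomm, -, hsurj⟩
    · exact hall h
    · exact abelcase hnat (by rw [← hRcard, hV16', hnat.1]) hcomm hsurj

end CfsgLib.SectL32
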