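/-
The second layer below the Frattini quotient is trivial.
-/
import Cfsg.Agent.Lib.SectL32.LayerOne

set_option autoImplicit false
set_option linter.style.haveILetI false
set_option linter.unusedSectionVars false
set_option maxRecDepth 8000

namespace CfsgLib.SectL32

open scoped commutatorElement

theorem fixes_e : nu e₀ = e₀ ∧ ta e₀ = e₀ ∧ tb e₀ = e₀ ∧ tc e₀ = e₀ ∧ sw e₀ = e₀ ∧ sh e₀ = e₀ := by decide

theorem axes_meet : (∀ v, ta v = v → tb v = v → v = 0 ∨ v = e₀) ∧ (∀ v, tb v = v → tc v = v → v = 0 ∨ v = e₀) ∧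
    (∀ v, tc v = v → ta v = v → v = 0 ∨ v = e₀) ∧
    (∀ v, ta v + v = 0 ∨ ta v + v = e₀) ∧ (∀ v, tb v + v = 0 ∨ tb v + v = e₀) ∧
    (∀ v, tc v + v = 0 ∨ tc v + v = e₀) ∧
    (∀ v, ta (tb v) = tc v ∧ tb (ta v) = tc v ∧ tb (tc v) = ta v ∧ tc (tb v) = ta v ∧ tc (ta v) = tb v ∧
      ta (tc v) = tb v ∧ sw (nu (nu (sw v))) = tb v ∧ sh (nu (nu (sh v))) = tc v) :=
  ⟨by decide, by decide, by decide, by decide, by decide, by decide, by decide⟩

set_option maxHeartbeats 4000000 in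
/-- There is no second layer. -/
theorem layer_two {X Y L : Type*} [Group X] [Finite X] [Group Y] [Finite Y] [Group L] [Finite L] [IsSimpleGroup L]
    (hr : Cfsg.SectionalPRankLE 2 4 X) (π : X →* Y) (hπ : Function.Surjective π) (hL : Nat.card L = 168)
    (φ : Y →* L) (hφ : Function.Surjective φ) (M F Q₀ : Subgroup Y) [M.Normal] [F.Normal] (S : NatSec φ Q₀ F)
    (hMF : M ≤ F) (hFcard : Nat.card F = 2 * Nat.card M) (hRcard : Nat.card φ.ker = 2 * Nat.card Q₀)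
    (hMcen : ∀ m ∈ M, ∀ a ∈ φ.ker, m * a = a * m) (hM2 : ∀ m ∈ M, m * m = 1) (hMne : M ≠ ⊥)
    (hmin : ∀ W : Subgroup Y, W.Normal → W ≤ M → W = ⊥ ∨ W = M) (hQsq : ∀ a ∈ Q₀, a * a ∈ M)
    (hcom : ∀ k ∈ φ.ker, ∀ a ∈ φ.ker, k * a * k⁻¹ * a⁻¹ ∈ M) (hrsq : ∀ a ∈ φ.ker, a ∉ Q₀ → a * a ∉ M)
    (hsqF : ∀ a ∈ φ.ker, a * a ∈ F) (hgen : F ≤ Subgroup.closure {g | ∃ a ∈ φ.ker, g = a * a})
    (hfaith : ∀ y : Y, (∀ a ∈ φ.ker, y * a * y⁻¹ * a⁻¹ ∈ F) → y ∈ φ.ker) : False := by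
  classical
  set R := φ.ker with hRdef
  haveI hRn : R.Normal := MonoidHom.normal_ker φ
  haveI := S.normN
  have hFQ : F ≤ Q₀ := S.le
  have hQR : Q₀ ≤ R := S.leK
  have hMR : M ≤ R := hMF.trans (hFQ.trans hQR)
  have hQcard : Nat.card Q₀ = 8 * Nat.card F := by
    have := card_map_mul (QuotientGroup.mk' F) Q₀ ((QuotientGroup.ker_mk' F).trans_le hFQ)
    rw [QuotientGroup.ker_mk', S.card] at this
    exact this.symm
  obtain ⟨r, hrR, hrQ⟩ : ∃ r ∈ R, r ∉ Q₀ := by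
    by_contra h
    push_neg at h
    have := Subgroup.card_le_of_le (show R ≤ Q₀ from h)
    have h0 : 0 < Nat.card Q₀ := Nat.card_pos
    omega
  have hsplit : ∀ k ∈ R, k ∈ Q₀ ∨ k * r⁻¹ ∈ Q₀ := fun k hk => by
    by_cases h : k ∈ Q₀
    · exact Or.inl h
    · exact Or.inr (two_coset hQR hRcard hrR hrQ hk h)
  set s := r * r with hsdef
  have hsF : s ∈ F := hsqF r hrR
  have hsM : s ∉ M := hrsq r hrR hrQ
  have hsR : s ∈ R := mul_mem hrR hrR
  have hF : ∀ f ∈ F, f ∈ M ∨ f * s⁻¹ ∈ M := fun f hf => by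
    by_cases h : f ∈ M
    · exact Or.inl h
    · exact Or.inr (two_coset hMF hFcard hsF hsM hf h)
  -- `F` is central in the radical
  have hsc : ∀ a ∈ R, s * a = a * s := by
    intro a ha
    have hb := hcom r hrR a ha
    have e : s * a * s⁻¹ * a⁻¹ = r * (r * a * r⁻¹ * a⁻¹) * r⁻¹ * (r * a * r⁻¹ * a⁻¹) := by rw [hsdef]; group
    rw [← hMcen _ hb r hrR, mul_inv_cancel_right, hM2 _ hb, mul_inv_eq_one, mul_inv_eq_iff_eq_mul] at e
    exact e
  have hFc : ∀ f ∈ F, ∀ a ∈ R, f * a = a * f := fun f hf a ha => by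
    rcases hF f hf with h | h
    · exact hMcen f h a ha
    · rw [← inv_mul_cancel_right f s, mul_assoc, hsc a ha, ← mul_assoc, hMcen _ h a ha, mul_assoc]
  have hs2M : s * s ∈ M := hQsq s (hFQ hsF)
  have hconjs : ∀ y, ∃ m ∈ M, y * s * y⁻¹ = m * s := by
    intro y
    rcases hF _ ((inferInstance : F.Normal).conj_mem s hsF y) with h | h
    · exact absurd (by simpa [mul_assoc] using (inferInstance : M.Normal).conj_mem' _ h y) hsM
    · exact ⟨_, h, (inv_mul_cancel_right _ _).symm⟩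
  -- the commutator with `r`
  let β : Y → Y := fun a => a * r * a⁻¹ * r⁻¹
  have hβM : ∀ a ∈ Q₀, β a ∈ M := fun a ha => hcom a (hQR ha) r hrR
  have hβhom : ∀ a ∈ Q₀, ∀ b ∈ Q₀, β (a * b) = β a * β b := fun a ha b hb => by
    have h1 : β (a * b) = a * β b * a⁻¹ * β a := by show _ = _; simp only [β]; group
    rw [h1, ← hMcen _ (hβM b hb) a (hQR ha), mul_inv_cancel_right, hMcen _ (hβM a ha) (β b) (hMR (hβM b hb))]
  have hβF : ∀ f ∈ F, β f = 1 := fun f hf => by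
    show f * r * f⁻¹ * r⁻¹ = 1
    rw [hFc f hf r hrR, mul_inv_cancel_right, mul_inv_cancel]
  have hβc : ∀ a ∈ Q₀, ∀ z ∈ F, β (a * z) = β a := fun a ha z hz => by
    rw [hβhom a ha z (hFQ hz), hβF z hz, mul_one]
  have hn : ∀ y, y * r * y⁻¹ * r⁻¹ ∈ Q₀ := fun y => two_coset hQR hRcard hrR hrQ (hRn.conj_mem _ hrR y) fun h =>
    hrQ (by simpa [mul_assoc] using S.normN.conj_mem' _ h y)
  have hβeq : (∀ a ∈ Q₀, ∀ b ∈ Q₀, a * b = b * a) → ∀ y, ∀ a ∈ Q₀, β (y * a * y⁻¹) = y * β a * y⁻¹ := by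
    intro hQcomm y a ha
    set b := y * r * y⁻¹ * r⁻¹ with hb
    set a' := y * a * y⁻¹ with ha'
    have ha'Q : a' ∈ Q₀ := S.normN.conj_mem _ ha y
    have e1 : y * β a * y⁻¹ = a' * b * r * a'⁻¹ * r⁻¹ * b⁻¹ := by simp only [β, ha', hb]; group
    rw [e1, hQcomm a' ha'Q b (hn y),
      show b * a' * r * a'⁻¹ * r⁻¹ * b⁻¹ = b * β a' * b⁻¹ by simp only [β]; group,
      ← hMcen _ (hβM a' ha'Q) b (hQR (hn y)), mul_inv_cancel_right]
  have hRcomm : (∀ a ∈ Q₀, ∀ b ∈ Q₀, a * b = b * a) → (∀ a ∈ Q₀, β a = 1) → ∀ a ∈ R, ∀ b ∈ R, a * b = b * a := by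
    intro hQcomm hβ
    have hc : ∀ a ∈ Q₀, a * r = r * a := fun a ha => mul_inv_eq_iff_eq_mul.mp (mul_inv_eq_one.mp (hβ a ha))
    have hc' : ∀ a ∈ R, a * r = r * a := fun a ha => by
      rcases hsplit a ha with h | h
      · exact hc a h
      · calc a * r = a * r⁻¹ * r * r := by rw [inv_mul_cancel_right]
          _ = r * (a * r⁻¹) * r := by rw [hc _ h]
          _ = r * a := by rw [mul_assoc, inv_mul_cancel_right]
    have h1 : ∀ a ∈ Q₀, ∀ b ∈ R, a * b = b * a := fun a ha b hb => by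
      rcases hsplit b hb with h | h
      · exact hQcomm a ha b h
      · rw [← inv_mul_cancel_right b r, ← mul_assoc, hQcomm a ha _ h, mul_assoc, hc a ha, ← mul_assoc]
    intro a ha b hb
    rcases hsplit a ha with h | h
    · exact h1 a h b hb
    · rw [← inv_mul_cancel_right a r, mul_assoc, ← hc' b hb, ← mul_assoc, h1 _ h b hb, mul_assoc]
  rcases min_type hr π hπ hL φ hφ M hMcen hM2 hMne hmin with ⟨hM2c, htriv⟩ | hnat
  swap
  · -- a natural second layer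
    have hs1 : s * s = 1 := hnat.no_fixed hL hφ hs2M fun y => by
      obtain ⟨m, hm, e⟩ := hconjs y
      rw [show y * (s * s) * y⁻¹ = y * s * y⁻¹ * (y * s * y⁻¹) by group, e,
        show m * s * (m * s) = m * (s * m) * s by group, ← hMcen m hm s hsR,
        show m * (m * s) * s = m * m * (s * s) by group, hM2 m hm, one_mul]
    have hF2 : ∀ f ∈ F, f * f = 1 := fun f hf => by
      rcases hF f hf with h | h
      · exact hM2 f h
      · rw [← inv_mul_cancel_right f s, sq_mul_central (hsc _ (hMR h)) hs1, hM2 _ h]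
    have hFcard16 : Nat.card F = 16 := by rw [hFcard, hnat.1]
    -- no fixed point outside the natural submodule
    have hnofix : ∀ ω ∈ F, ω ∉ M → ∃ y, y * ω * y⁻¹ ≠ ω := by
      intro ω hωF hωM
      by_contra hno
      push_neg at hno
      have hω2 := hF2 ω hωF
      haveI : (Subgroup.zpowers ω).Normal := ⟨fun w hw g => by
        obtain ⟨i, rfl⟩ := Subgroup.mem_zpowers_iff.mp hw
        rw [← conj_zpow, hno]; exact hw⟩
      let q := QuotientGroup.mk' (Subgroup.zpowers ω)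
      have hq : Function.Surjective q := QuotientGroup.mk'_surjective _
      have hqk : q.ker = Subgroup.zpowers ω := QuotientGroup.ker_mk' _
      have hωle : Subgroup.zpowers ω ≤ F := Subgroup.zpowers_le.mpr hωF
      have hωR : Subgroup.zpowers ω ≤ R := hωle.trans (hFQ.trans hQR)
      let φ' := QuotientGroup.lift (Subgroup.zpowers ω) φ hωR
      have hφ' : Function.Surjective φ' := QuotientGroup.lift_surjective_of_surjective _ _ hφ _
      have hker : ∀ w, w ∈ φ'.ker ↔ ∃ a ∈ R, q a = w := by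
        intro w
        obtain ⟨a, rfl⟩ := hq w
        refine ⟨fun h => ⟨a, MonoidHom.mem_ker.mpr (MonoidHom.mem_ker.mp h), rfl⟩, fun ⟨b, hb, e⟩ => ?_⟩
        rw [← e]
        exact MonoidHom.mem_ker.mpr (MonoidHom.mem_ker.mp hb :)
      haveI : (F.map q).Normal := Subgroup.Normal.map inferInstance _ hq
      have hwcard : Nat.card (Subgroup.zpowers ω) = 2 := by
        rw [Nat.card_zpowers]
        exact orderOf_eq_prime (by rw [sq]; exact hω2) fun h => hωM (h ▸ one_mem _)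
      have hF8 : Nat.card (F.map q) = 8 := by
        have := card_map_mul q F (hqk.trans_le hωle)
        rw [hqk, hwcard, hFcard16] at this
        omega
      have hdec : ∀ f ∈ F, ∃ m ∈ M, q f = q m := by
        intro f hf
        by_cases h : f ∈ M
        · exact ⟨f, h, rfl⟩
        · refine ⟨f * ω⁻¹, two_coset hMF hFcard hωF hωM hf h, ?_⟩
          rw [map_mul, map_inv, show q ω = 1 from (QuotientGroup.eq_one_iff ω).mpr (Subgroup.mem_zpowers ω), inv_one,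
            mul_one]
      have h1 := layer_one hr (q.comp π) (hq.comp hπ) hL φ' hφ' (F.map q)
        (by
          rintro _ ⟨f, hf, rfl⟩
          exact (hker _).mpr ⟨f, hQR (hFQ hf), rfl⟩)
        (by
          rintro _ ⟨f, hf, rfl⟩ w hw
          obtain ⟨a, ha, rfl⟩ := (hker w).mp hw
          rw [← map_mul, hFc f hf a ha, map_mul])
        (by
          rintro _ ⟨f, hf, rfl⟩
          rw [← map_mul, hF2 f hf, map_one])
        (by intro h; rw [h, Subgroup.card_bot] at hF8; omega)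
        (by
          intro W hW hWF
          rcases hmin (W.comap q ⊓ M) inferInstance inf_le_right with h | h
          · refine Or.inl ((Subgroup.eq_bot_iff_forall W).mpr fun w hw => ?_)
            obtain ⟨f, hf, rfl⟩ := hWF hw
            obtain ⟨m, hm, e⟩ := hdec f hf
            have hm1 : m = 1 := Subgroup.mem_bot.mp (h ▸ (⟨show q m ∈ W from e ▸ hw, hm⟩ : m ∈ W.comap q ⊓ M))
            rw [e, hm1, map_one]
          · refine Or.inr (le_antisymm hWF ?_)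
            rintro _ ⟨f, hf, rfl⟩
            obtain ⟨m, hm, e⟩ := hdec f hf
            rw [e]
            exact (h.ge hm).1)
        (by
          intro w hw
          obtain ⟨a, ha, rfl⟩ := (hker w).mp hw
          exact ⟨a * a, hsqF a ha, map_mul q a a⟩)
        (by
          refine (Subgroup.map_mono hgen).trans ?_
          rw [MonoidHom.map_closure]
          refine Subgroup.closure_mono ?_
          rintro _ ⟨_, ⟨a, ha, rfl⟩, rfl⟩
          exact ⟨q a, (hker _).mpr ⟨a, ha, rfl⟩, map_mul q a a⟩)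
        (by
          intro w hw
          obtain ⟨y, rfl⟩ := hq w
          refine (hker _).mpr ⟨y, hfaith y fun a ha => ?_, rfl⟩
          obtain ⟨f, hf, e⟩ := hw (q a) ((hker _).mpr ⟨a, ha, rfl⟩)
          rw [← map_inv, ← map_inv, ← map_mul, ← map_mul, ← map_mul] at e
          have := hωle (QuotientGroup.eq.mp e)
          rw [← mul_inv_cancel_left f (y * a * y⁻¹ * a⁻¹)]
          exact mul_mem hf this)
      omega
    have hconst : ∀ a ∈ Q₀, ∀ z ∈ F, a * z * (a * z) = a * a := fun a ha z hz =>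
      sq_mul_central (hFc z hz a (hQR ha)) (hF2 z hz)
    rcases S.map_nat hL hφ hnat (fun a => a * a) hQsq (mul_one 1) hconst (fun y a _ => by group) with
      h | ⟨h1, h2, h3⟩
    · have := elem_le hr π hπ Q₀ h
      omega
    have hQcomm : ∀ a ∈ Q₀, ∀ b ∈ Q₀, a * b = b * a := fun a ha b hb => by
      have e := h1 a ha b hb
      rw [show a * b * (a * b) = a * (b * a) * b by group, show a * a * (b * b) = a * (a * b) * b by group] at e
      exact (mul_left_cancel (mul_right_cancel e)).symm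
    rcases S.map_nat hL hφ hnat β hβM (hβF 1 (one_mem _)) hβc (hβeq hQcomm) with hβ | ⟨-, hb2, -⟩
    · have hRc := hRcomm hQcomm hβ
      refine abel hr π hπ hL φ hφ R F M rfl hRc (fun a ha => ?_) (fun a => ⟨fun h => ⟨hQR (hFQ h), hF2 a h⟩, ?_⟩)
        hFcard16 hMF hnat.1 (fun z hz => ?_) hnat.2.2.2 (Or.inr hnofix)
      · rw [show a ^ 4 = a * a * (a * a) by simp [pow_succ, mul_assoc]]
        exact hF2 _ (hsqF a ha)
      · rintro ⟨ha, ha2⟩
        by_cases haQ : a ∈ Q₀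
        · exact h2 a haQ ha2
        · exact absurd (ha2 ▸ one_mem _) (hrsq a ha haQ)
      · obtain ⟨a, ha, e⟩ := h3 z hz
        exact ⟨a, hQR ha, e⟩
    · have hfix : ∀ y, y * s * y⁻¹ = s := by
        intro y
        set b := y * r * y⁻¹ * r⁻¹ with hb
        have hbQ : b ∈ Q₀ := hn y
        have hβb : β b = b * b := by
          by_cases hbF : b ∈ F
          · rw [hβF b hbF, hF2 b hbF]
          · exact S.unique hL hφ hnat β (fun a => a * a) hβM hQsq hβc hconst (hβeq hQcomm)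
              (fun y a _ => by group) hbQ hbF (fun h => hbF (hb2 b hbQ h)) (fun h => hbF (h2 b hbQ h))
        have hbinv : (β b)⁻¹ = β b := inv_eq_of_mul_eq_one_right (hM2 _ (hβM b hbQ))
        calc y * s * y⁻¹ = b * r * (b * r) := by rw [hb, hsdef]; group
          _ = b * ((β b)⁻¹ * b) * s := by simp only [β, hsdef]; group
          _ = s := by
            rw [hbinv, hMcen _ (hβM b hbQ) b (hQR hbQ), hβb, show b * (b * (b * b)) = b * b * (b * b) by group,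
              hM2 _ (hQsq b hbQ), one_mul]
      obtain ⟨y, hy⟩ := hnofix s hsF hsM
      exact hy (hfix y)
  -- a second layer of order two
  letI : CommGroup M := { (inferInstance : Group M) with
    mul_comm := fun a b => Subtype.ext (hMcen a a.2 b (hMR b.2)) }
  have hsY : ∀ y, y * s * y⁻¹ = s := by
    intro y
    have hmem : ∀ y, y * s * y⁻¹ * s⁻¹ ∈ M := fun y => by
      obtain ⟨m, hm, e⟩ := hconjs y
      rwa [e, mul_inv_cancel_right]
    let f : Y →* M :=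
      { toFun := fun y => ⟨y * s * y⁻¹ * s⁻¹, hmem y⟩
        map_one' := Subtype.ext (by simp)
        map_mul' := fun y y' => by
          rw [mul_comm]
          refine Subtype.ext ?_
          show y * y' * s * (y * y')⁻¹ * s⁻¹ = y' * s * y'⁻¹ * s⁻¹ * (y * s * y⁻¹ * s⁻¹)
          conv_rhs => rw [← htriv y _ (hmem y')]
          group }
    have := congrArg Subtype.val (hom_trivial hL φ hφ f (fun k hk => MonoidHom.mem_ker.mpr (Subtype.ext (by
      show k * s * k⁻¹ * s⁻¹ = 1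
      rw [← hsc k hk, mul_inv_cancel_right, mul_inv_cancel]))) y)
    exact mul_inv_eq_one.mp this
  have hFY : ∀ f ∈ F, ∀ y, y * f * y⁻¹ = f := fun f hf y => by
    rcases hF f hf with h | h
    · exact htriv y f h
    · rw [← inv_mul_cancel_right f s, show y * (f * s⁻¹ * s) * y⁻¹ = y * (f * s⁻¹) * y⁻¹ * (y * s * y⁻¹) by group,
        htriv y _ h, hsY]
  have hQcomm : ∀ a ∈ Q₀, ∀ b ∈ Q₀, a * b = b * a := by
    have h := S.bilin_trivial hL hφ (fun a b => a * b * a⁻¹ * b⁻¹)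
      (fun a ha b hb c hc => by
        have hm := hcom a (hQR ha) c (hQR hc)
        show a * (b * c) * a⁻¹ * (b * c)⁻¹ = a * b * a⁻¹ * b⁻¹ * (a * c * a⁻¹ * c⁻¹)
        rw [show a * (b * c) * a⁻¹ * (b * c)⁻¹ = a * b * a⁻¹ * ((a * c * a⁻¹ * c⁻¹) * b⁻¹) by group,
          hMcen _ hm b⁻¹ (inv_mem (hQR hb))]
        group)
      (fun a ha b hb z hz => by
        show a * z * b * (a * z)⁻¹ * b⁻¹ = _
        rw [show a * z * b * (a * z)⁻¹ * b⁻¹ = a * (z * b * z⁻¹) * a⁻¹ * b⁻¹ by group, hFc z hz b (hQR hb),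
          mul_inv_cancel_right])
      (fun a ha z hz => by
        show a * z * a⁻¹ * z⁻¹ = 1
        rw [← hFc z hz a (hQR ha), mul_inv_cancel_right, mul_inv_cancel])
      (fun y a ha b hb => by
        show y * a * y⁻¹ * (y * b * y⁻¹) * (y * a * y⁻¹)⁻¹ * (y * b * y⁻¹)⁻¹ = _
        rw [← htriv y _ (hcom a (hQR ha) b (hQR hb))]
        group)
      (fun a ha => by show a * a * a⁻¹ * a⁻¹ = 1; group)
      (fun b hb => by show 1 * b * 1⁻¹ * b⁻¹ = 1; group)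
    exact fun a ha b hb => mul_inv_eq_iff_eq_mul.mp (mul_inv_eq_one.mp (h a ha b hb))
  have hRc := hRcomm hQcomm (S.hom_trivial hL hφ β hβhom hβF fun y a ha => by
    rw [hβeq hQcomm y a ha, htriv y _ (hβM a ha)])
  have hsqmul : ∀ a ∈ R, ∀ b ∈ R, a * b * (a * b) = a * a * (b * b) := fun a ha b hb => by
    rw [show a * b * (a * b) = a * (b * a) * b by group, hRc b hb a ha]; group
  by_cases hs1 : s * s = 1
  · -- the squares generate a group of order two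
    have hF2 : ∀ f ∈ F, f * f = 1 := fun f hf => by
      rcases hF f hf with h | h
      · exact hM2 f h
      · rw [← inv_mul_cancel_right f s, sq_mul_central (hsc _ (hMR h)) hs1, hM2 _ h]
    have hQ1 := S.sq_eq_one hL hφ (fun a ha z hz => sq_mul_central (hFc z hz a (hQR ha)) (hF2 z hz))
      (fun y a ha => hFY _ (hMF (hQsq a ha)) y) (fun a ha => hM2 _ (hQsq a ha))
    have hle : F ≤ Subgroup.zpowers s := hgen.trans (by
      rw [Subgroup.closure_le]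
      rintro _ ⟨a, ha, rfl⟩
      rcases hsplit a ha with h | h
      · rw [hQ1 a h]; exact one_mem _
      · rw [← inv_mul_cancel_right a r, hsqmul _ (hQR h) r hrR, hQ1 _ h, one_mul]; exact Subgroup.mem_zpowers _)
    have h2 : Nat.card (Subgroup.zpowers s) = 2 := by
      rw [Nat.card_zpowers]
      exact orderOf_eq_prime (by rw [sq]; exact hs1) fun e => hsM (e ▸ one_mem _)
    have := Subgroup.card_le_of_le hle
    omega
  -- a cyclic group of order eight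
  set m := s * s with hmdef
  have hmM : m ∈ M := hs2M
  have hMmem : ∀ x ∈ M, x = 1 ∨ x = m := by
    intro x hx
    obtain ⟨u, -, huniq⟩ := (Nat.card_eq_two_iff' (1 : M)).mp hM2c
    by_cases h : x = 1
    · exact Or.inl h
    · refine Or.inr (congrArg Subtype.val ((huniq ⟨x, hx⟩ fun e => h (congrArg Subtype.val e)).trans
        (huniq ⟨m, hmM⟩ fun e => hs1 (congrArg Subtype.val e)).symm))
  have hm2 : m * m = 1 := hM2 m hmM
  let Ω : Subgroup Y :=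
    { carrier := {a | a ∈ R ∧ a * a = 1}
      one_mem' := ⟨one_mem _, one_mul 1⟩
      mul_mem' := fun {a b} ha hb => ⟨mul_mem ha.1 hb.1, by rw [hsqmul a ha.1 b hb.1, ha.2, hb.2, one_mul]⟩
      inv_mem' := fun {a} ha => ⟨inv_mem ha.1, by rw [← mul_inv_rev, ha.2, inv_one]⟩ }
  have hΩQ : Ω ≤ Q₀ := fun a ha => by
    by_contra h
    exact hrsq a ha.1 h (by rw [ha.2]; exact one_mem _)
  have hQdec : ∀ a ∈ Q₀, a ∈ Ω ∨ a * s ∈ Ω := fun a ha => by
    rcases hMmem _ (hQsq a ha) with h | h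
    · exact Or.inl ⟨hQR ha, h⟩
    · exact Or.inr ⟨mul_mem (hQR ha) hsR, by rw [hsqmul a (hQR ha) s hsR, h, ← hmdef, hm2]⟩
  have hFΩ : ∀ f ∈ F, f ∈ Ω → f ∈ M := by
    intro f hf hfΩ
    by_contra h
    have hh := (hF f hf).resolve_left h
    have e : f * s⁻¹ * (f * s⁻¹) * (s * s) = 1 := by
      rw [← hsqmul _ (hMR hh) s hsR, inv_mul_cancel_right]; exact hfΩ.2
    rw [hM2 _ hh, one_mul] at e
    exact hs1 e
  -- commutators with the radical are involutions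
  have hnΩ : ∀ y, ∀ a ∈ R, y * a * y⁻¹ * a⁻¹ ∈ Ω := fun y a ha =>
    ⟨mul_mem (hRn.conj_mem a ha y) (inv_mem ha), by
      rw [hsqmul _ (hRn.conj_mem a ha y) _ (inv_mem ha),
        show y * a * y⁻¹ * (y * a * y⁻¹) = y * (a * a) * y⁻¹ by group, hFY _ (hsqF a ha) y]
      group⟩
  -- coordinates on the section
  obtain ⟨N, ψ, hN, hNexp, hψ, hψk, hmem, hval⟩ := S.module hL hφ
  obtain ⟨Φ⟩ := exists_coord hN hNexp
  let pF := QuotientGroup.mk' F
  have hcl : ∀ a ∈ Q₀, pF a ∈ N := fun a ha => (hmem _).mpr ⟨a, ha, rfl⟩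
  let cl : (a : Y) → a ∈ Q₀ → C := fun a ha => co Φ ⟨_, hcl a ha⟩
  have hclmul : ∀ a (ha : a ∈ Q₀) b (hb : b ∈ Q₀), cl (a * b) (mul_mem ha hb) = cl a ha + cl b hb := by
    intro a ha b hb
    show co Φ _ = co Φ _ + co Φ _
    rw [← co_mul]
    congr 1
  have hclF : ∀ a (ha : a ∈ Q₀), cl a ha = 0 ↔ a ∈ F := fun a ha => by
    show co Φ _ = 0 ↔ _
    rw [co_eq_zero]
    exact ⟨fun h => (QuotientGroup.eq_one_iff a).mp (congrArg Subtype.val h),
      fun h => Subtype.ext ((QuotientGroup.eq_one_iff a).mpr h)⟩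
  have hclψ : ∀ (y : Y) (f : C ≃+ C), (∀ n, co Φ (ψ y n) = f (co Φ n)) → ∀ a (ha : a ∈ Q₀),
      cl (y * a * y⁻¹) (S.normN.conj_mem _ ha y) = f (cl a ha) := by
    intro y f hf a ha
    show co Φ _ = f (co Φ _)
    rw [← hf]
    congr 1
    exact Subtype.ext (hval y a (hcl a ha)).symm
  let W : Subgroup Y :=
    { carrier := {a | a ∈ Ω ∧ ∃ ha : a ∈ Q₀, cl a ha = 0 ∨ cl a ha = e₀}
      one_mem' := ⟨one_mem _, one_mem Q₀, Or.inl ((hclF 1 (one_mem Q₀)).mpr (one_mem _))⟩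
      mul_mem' := fun {a b} ha hb => ⟨mul_mem ha.1 hb.1, mul_mem ha.2.1 hb.2.1, by
        obtain ⟨-, ha', hca⟩ := ha
        obtain ⟨-, hb', hcb⟩ := hb
        rw [hclmul a ha' b hb']
        rcases hca with h | h <;> rcases hcb with h' | h' <;> rw [h, h'] <;> decide⟩
      inv_mem' := fun {a} ha => by
        rw [inv_eq_of_mul_eq_one_right ha.1.2]; exact ha }
  have hWΩ : W ≤ Ω := fun a ha => ha.1
  have hWR : W ≤ R := fun a ha => ha.1.1
  have hWs : ∀ a (ha : a ∈ Q₀), cl a ha = 0 ∨ cl a ha = e₀ → a ∈ W ∨ a * s ∈ W := by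
    intro a ha hc
    rcases hQdec a ha with h | h
    · exact Or.inl ⟨h, ha, hc⟩
    · refine Or.inr ⟨h, mul_mem ha (hFQ hsF), ?_⟩
      rw [hclmul a ha s (hFQ hsF), (hclF s (hFQ hsF)).mpr hsF, add_zero]
      exact hc
  have hWcard : Nat.card W ≤ 4 := by
    obtain ⟨n, hn⟩ := co_surj Φ e₀
    obtain ⟨e, he, hen⟩ := (hmem _).mp n.2
    have hce : cl e he = e₀ := by rw [← hn]; exact congrArg (co Φ) (Subtype.ext hen)
    have heΩ : ∃ e', ∃ h : e' ∈ Q₀, e' ∈ Ω ∧ cl e' h = e₀ := by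
      rcases hQdec e he with h | h
      · exact ⟨e, he, h, hce⟩
      · exact ⟨e * s, mul_mem he (hFQ hsF), h, by rw [hclmul e he s (hFQ hsF), (hclF s (hFQ hsF)).mpr hsF, add_zero, hce]⟩
    obtain ⟨e', he', he'Ω, hce'⟩ := heΩ
    have hall : ∀ w ∈ W, w = 1 ∨ w = m ∨ w = e' ∨ w = e' * m := by
      rintro w ⟨hwΩ, hwQ, h | h⟩
      · rcases hMmem w (hFΩ w ((hclF w hwQ).mp h) hwΩ) with h' | h'
        · exact Or.inl h'
        · exact Or.inr (Or.inl h')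
      · have he'i : e'⁻¹ = e' := inv_eq_of_mul_eq_one_right he'Ω.2
        have hF' : e' * w ∈ F := (hclF _ (mul_mem he' hwQ)).mp (by rw [hclmul e' he' w hwQ, hce', h]; decide)
        rcases hMmem _ (hFΩ _ hF' (mul_mem he'Ω hwΩ)) with h' | h'
        · exact Or.inr (Or.inr (Or.inl ((eq_inv_of_mul_eq_one_right h').trans he'i)))
        · refine Or.inr (Or.inr (Or.inr ?_))
          rw [← h', ← mul_assoc, he'Ω.2, one_mul]
    have hm' : m ∈ W := ⟨⟨hMR hmM, hm2⟩, hFQ (hMF hmM), Or.inl ((hclF m (hFQ (hMF hmM))).mpr (hMF hmM))⟩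
    have he'W : e' ∈ W := ⟨he'Ω, he', Or.inr hce'⟩
    have := Nat.card_le_card_of_surjective
      (![(1 : W), ⟨m, hm'⟩, ⟨e', he'W⟩, ⟨e', he'W⟩ * ⟨m, hm'⟩]) (fun w => by
        rcases hall w w.2 with h | h | h | h
        · exact ⟨0, Subtype.ext h.symm⟩
        · exact ⟨1, Subtype.ext h.symm⟩
        · exact ⟨2, Subtype.ext h.symm⟩
        · exact ⟨3, Subtype.ext h.symm⟩)
    rwa [Nat.card_fin] at this
  have hsinv : s⁻¹ = s * m := inv_eq_of_mul_eq_one_right (by rw [← mul_assoc, ← hmdef, hm2])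
  have hmW : m ∈ W := ⟨⟨hMR hmM, hm2⟩, hFQ (hMF hmM), Or.inl ((hclF m (hFQ (hMF hmM))).mpr (hMF hmM))⟩
  -- lifts of commuting transvections
  obtain ⟨u, hu⟩ := exists_act hψ Φ nu
  obtain ⟨y₂, hy₂⟩ := exists_act hψ Φ sw
  obtain ⟨y₃, hy₃⟩ := exists_act hψ Φ sh
  -- elements fixing the centre
  have hWconj : ∀ (y : Y) (f : C ≃+ C), (∀ n, co Φ (ψ y n) = f (co Φ n)) → f e₀ = e₀ →
      ∀ w ∈ W, y * w * y⁻¹ ∈ W ∧ y * w * y⁻¹ * w⁻¹ ∈ M := by
    intro y f hf hfe w ⟨hwΩ, hwQ, hc⟩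
    have hc' : cl (y * w * y⁻¹) (S.normN.conj_mem _ hwQ y) = cl w hwQ := by
      rw [hclψ y f hf w hwQ]
      rcases hc with h | h <;> rw [h] <;> simp [hfe]
    have hΩ' : y * w * y⁻¹ ∈ Ω := ⟨hRn.conj_mem _ hwΩ.1 y, by
      rw [show y * w * y⁻¹ * (y * w * y⁻¹) = y * (w * w) * y⁻¹ by group, hwΩ.2, mul_one, mul_inv_cancel]⟩
    refine ⟨⟨hΩ', S.normN.conj_mem _ hwQ y, hc' ▸ hc⟩, hFΩ _ ?_ (mul_mem hΩ' (inv_mem hwΩ))⟩
    refine (hclF _ (mul_mem (S.normN.conj_mem _ hwQ y) (inv_mem hwQ))).mp ?_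
    rw [hclmul _ (S.normN.conj_mem _ hwQ y) _ (inv_mem hwQ), hc']
    have hw' : w⁻¹ = w := inv_eq_of_mul_eq_one_right hwΩ.2
    have hcw : cl w⁻¹ (inv_mem hwQ) = cl w hwQ := by simp only [hw']
    rw [hcw]
    generalize cl w hwQ = v
    revert v; decide
  have hW2 : ∀ (y : Y) (f : C ≃+ C), (∀ n, co Φ (ψ y n) = f (co Φ n)) → f e₀ = e₀ →
      ∀ w ∈ W, y * y * w * (y * y)⁻¹ = w := by
    intro y f hf hfe w hw
    set z := y * w * y⁻¹ * w⁻¹ with hz
    have hzM : z ∈ M := (hWconj y f hf hfe w hw).2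
    calc y * y * w * (y * y)⁻¹ = y * z * y⁻¹ * (y * w * y⁻¹) := by rw [hz]; group
      _ = z * (z * w) := by rw [htriv y z hzM]; congr 1; rw [hz]; group
      _ = w := by rw [← mul_assoc, hM2 z hzM, one_mul]
  -- the three involutions
  set u₂ := y₂ * u * y₂⁻¹ with hu₂
  set u₃ := y₃ * u * y₃⁻¹ with hu₃
  have hy₂' : ∀ n, co Φ (ψ y₂⁻¹ n) = sw (co Φ n) := fun n => by
    apply sw.injective
    rw [← hy₂, map_inv, MulAut.inv_apply, MulEquiv.apply_symm_apply]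
    generalize co Φ n = v
    revert v; decide
  have hy₃' : ∀ n, co Φ (ψ y₃⁻¹ n) = sh (co Φ n) := fun n => by
    apply sh.injective
    rw [← hy₃, map_inv, MulAut.inv_apply, MulEquiv.apply_symm_apply]
    generalize co Φ n = v
    revert v; decide
  have hu₂' : ∀ n, co Φ (ψ u₂ n) = (sw.trans (nu.trans sw)) (co Φ n) := fun n => by
    rw [hu₂, map_mul, map_mul, MulAut.mul_apply, MulAut.mul_apply, hy₂, hu, hy₂']; rfl
  have hu₃' : ∀ n, co Φ (ψ u₃ n) = (sh.trans (nu.trans sh)) (co Φ n) := fun n => by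
    rw [hu₃, map_mul, map_mul, MulAut.mul_apply, MulAut.mul_apply, hy₃, hu, hy₃']; rfl
  set h₁ := u * u with hh₁
  set h₂ := u₂ * u₂ with hh₂
  set h₃ := u₃ * u₃ with hh₃
  have m₁ : ∀ n, co Φ (ψ h₁ n) = ta (co Φ n) := fun n => by
    rw [hh₁, map_mul, MulAut.mul_apply, hu, hu]; exact (ta_fixed _).2.2
  have m₂ : ∀ n, co Φ (ψ h₂ n) = tb (co Φ n) := fun n => by
    rw [hh₂, map_mul, MulAut.mul_apply, hu₂', hu₂']
    generalize co Φ n = v
    revert v; decide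
  have m₃ : ∀ n, co Φ (ψ h₃ n) = tc (co Φ n) := fun n => by
    rw [hh₃, map_mul, MulAut.mul_apply, hu₃', hu₃']
    generalize co Φ n = v
    revert v; decide
  have hkerR : ∀ y, (∀ n, co Φ (ψ y n) = co Φ n) → y ∈ R := fun y hy => by
    rw [hRdef, ← hψk]
    exact MonoidHom.mem_ker.mpr (MulEquiv.ext fun n => co_inj Φ (hy n))
  have hinvol : ∀ (h : Y) (f : C ≃+ C), (∀ n, co Φ (ψ h n) = f (co Φ n)) → (∀ v, f (f v) = v) → h * h ∈ R :=
    fun h f hf hff => hkerR _ fun n => by rw [map_mul, MulAut.mul_apply, hf, hf, hff]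
  have i₁ : h₁ * h₁ ∈ R := hinvol _ _ m₁ (by decide)
  have i₂ : h₂ * h₂ ∈ R := hinvol _ _ m₂ (by decide)
  have i₃ : h₃ * h₃ ∈ R := hinvol _ _ m₃ (by decide)
  -- commutators of lifts
  have hcR : ∀ (a b : Y) (f g : C ≃+ C), (∀ n, co Φ (ψ a n) = f (co Φ n)) → (∀ n, co Φ (ψ b n) = g (co Φ n)) →
      (∀ v, f (g v) = g (f v)) → ⁅a, b⁆ ∈ R := by
    intro a b f g hf hg hfg
    rw [hRdef, ← hψk, MonoidHom.mem_ker, map_commutatorElement, commutatorElement_eq_one_iff_mul_comm]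
    exact MulEquiv.ext fun n => co_inj Φ (by rw [MulAut.mul_apply, MulAut.mul_apply, hf, hg, hg, hf, hfg])
  have hcQ : ∀ a b : Y, ⁅a, b⁆ ∈ R → a * a ∈ R → ⁅a, b⁆ ∈ Q₀ := by
    intro a b hc ha
    by_contra hcn
    have e1 : ⁅a, b⁆ * (a * ⁅a, b⁆ * a⁻¹) ∈ Ω := by
      have : ⁅a, b⁆ * (a * ⁅a, b⁆ * a⁻¹) = a * ⁅a, b⁆ * a⁻¹ * ⁅a, b⁆ := hRc _ hc _ (hRn.conj_mem _ hc a)
      rw [this, commutatorElement_def,
        show a * (a * b * a⁻¹ * b⁻¹) * a⁻¹ * (a * b * a⁻¹ * b⁻¹) = (b * (a * a) * b⁻¹ * (a * a)⁻¹)⁻¹ by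
          simp [mul_assoc]]
      exact inv_mem (hnΩ b _ ha)
    have e2 : ⁅a, b⁆ * ⁅a, b⁆ ∈ Ω := by
      have := mul_mem e1 (inv_mem (hnΩ a _ hc))
      have key : ∀ c d : Y, c * d = d * c → c * d * (d * c⁻¹)⁻¹ = c * c := fun c d h => by
        rw [mul_inv_rev, inv_inv]
        calc c * d * (c * d⁻¹) = c * (d * c) * d⁻¹ := by group
          _ = c * (c * d) * d⁻¹ := by rw [h]
          _ = c * c := by group
      rwa [key _ _ (hRc _ hc _ (hRn.conj_mem _ hc a))] at this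
    exact hrsq _ hc hcn (hFΩ _ (hsqF _ hc) e2)
  have hsquare : ∀ (h x : Y), h * h ∈ R → x ∈ R → h * x * (h * x) = h * h * (h * x * h⁻¹ * x⁻¹) * (x * x) := by
    intro h x hh hx
    have e : h * x * (h * x) = h * x * h⁻¹ * (h * h) * x := by group
    rw [e, hRc _ (hRn.conj_mem x hx h) _ hh]
    group
  have hpar : ∀ x ∈ R, x * x ∈ Q₀ := fun x hx => hFQ (hsqF x hx)
  have hq : h₁ * h₁ ∈ Q₀ := by
    by_contra hq1
    have hconj : ∀ y, y * (h₁ * h₁) * y⁻¹ ∉ Q₀ := fun y hy =>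
      hq1 (by simpa [mul_assoc] using S.normN.conj_mem' _ hy y)
    have e2 : h₂ * h₂ = y₂ * (h₁ * h₁) * y₂⁻¹ := by rw [hh₂, hu₂, hh₁]; group
    have e3 : h₃ * h₃ = y₃ * (h₁ * h₁) * y₃⁻¹ := by rw [hh₃, hu₃, hh₁]; group
    have hc : ⁅h₁, h₂⁆ ∈ Q₀ := hcQ _ _ (hcR _ _ _ _ m₁ m₂ (fun v => by
      rw [(axes_meet.2.2.2.2.2.2 v).1, (axes_meet.2.2.2.2.2.2 v).2.1])) i₁
    set x := h₃⁻¹ * (h₁ * h₂) with hx
    have hxR : x ∈ R := hkerR _ fun n => by
      obtain ⟨w, hw⟩ : ∃ w, w = ψ x n := ⟨_, rfl⟩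
      have : ψ h₃ w = ψ (h₁ * h₂) n := by
        rw [hw, ← MulAut.mul_apply, ← map_mul, hx, mul_inv_cancel_left]
      have h' := congrArg (co Φ) this
      rw [m₃, map_mul, MulAut.mul_apply, m₁, m₂, (axes_meet.2.2.2.2.2.2 _).1] at h'
      rw [← hw]
      exact tc.injective h'
    have eA : h₃ * x * (h₃ * x) ∉ Q₀ := by
      rw [hsquare _ _ i₃ hxR, mul_assoc]
      intro h
      have h' : h₃ * x * h₃⁻¹ * x⁻¹ * (x * x) ∈ Q₀ := mul_mem (hΩQ (hnΩ h₃ x hxR)) (hpar x hxR)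
      refine hconj y₃ (e3 ▸ ?_)
      simpa [mul_assoc] using mul_mem h (inv_mem h')
    refine eA ?_
    rw [show h₃ * x = h₁ * h₂ by rw [hx]; group,
      show h₁ * h₂ * (h₁ * h₂) = ⁅h₁, h₂⁆ * ((h₂ * (h₁ * h₁) * h₂⁻¹) * (h₂ * h₂)) by
        rw [commutatorElement_def]; group]
    refine mul_mem hc ?_
    have hidx : (Q₀.subgroupOf R).index = 2 := by
      have := (Q₀.subgroupOf R).card_mul_index
      rw [Nat.card_congr (Subgroup.subgroupOfEquivOfLe hQR).toEquiv, hRcard, mul_comm 2] at this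
      exact Nat.eq_of_mul_eq_mul_left Nat.card_pos this
    have := (Subgroup.mul_mem_iff_of_index_two hidx (a := ⟨_, hRn.conj_mem _ i₁ h₂⟩) (b := ⟨_, i₂⟩)).mpr
      (iff_of_false (fun h : h₂ * (h₁ * h₁) * h₂⁻¹ ∈ Q₀ => hconj h₂ h) (fun h : h₂ * h₂ ∈ Q₀ => hconj y₂ (e2 ▸ h)))
    exact this
  have hqW : h₁ * h₁ ∈ W ∨ h₁ * h₁ * s ∈ W := by
    refine hWs _ hq ((ta_fixed _).2.1 ?_)
    rw [← hclψ u nu hu _ hq]
    have e : u * (h₁ * h₁) * u⁻¹ = h₁ * h₁ := by rw [hh₁]; group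
    simp only [e]
  have hsame : ∀ y (f : C ≃+ C), (∀ n, co Φ (ψ y n) = f (co Φ n)) → f e₀ = e₀ → ∀ a,
      (a ∈ W → y * a * y⁻¹ ∈ W) ∧ (a * s ∈ W → y * a * y⁻¹ * s ∈ W) := by
    intro y f hf hfe a
    refine ⟨fun h => (hWconj y f hf hfe a h).1, fun h => ?_⟩
    have := (hWconj y f hf hfe _ h).1
    rwa [show y * (a * s) * y⁻¹ = y * a * y⁻¹ * (y * s * y⁻¹) by group, hsY] at this
  have e2 : h₂ * h₂ = y₂ * (h₁ * h₁) * y₂⁻¹ := by rw [hh₂, hu₂, hh₁]; group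
  have e3 : h₃ * h₃ = y₃ * (h₁ * h₁) * y₃⁻¹ := by rw [hh₃, hu₃, hh₁]; group
  have hfix1 : ∀ w ∈ W, h₁ * w * h₁⁻¹ = w := hW2 u nu hu fixes_e.1
  have hfix2 : ∀ w ∈ W, h₂ * w * h₂⁻¹ = w := hW2 u₂ _ hu₂' (by decide)
  have hfix3 : ∀ w ∈ W, h₃ * w * h₃⁻¹ = w := hW2 u₃ _ hu₃' (by decide)
  -- the commutator of two lifts lies in `W`
  have hcW : ∀ (a b : Y) (f g : C ≃+ C), (∀ n, co Φ (ψ a n) = f (co Φ n)) → (∀ n, co Φ (ψ b n) = g (co Φ n)) →
      (∀ v, f (g v) = g (f v)) → (∀ v, f v = v → g v = v → v = 0 ∨ v = e₀) → (∀ w ∈ W, a * w * a⁻¹ = w) →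
      (∀ w ∈ W, b * w * b⁻¹ = w) → (a * a ∈ W ∨ a * a * s ∈ W) → (b * b ∈ W ∨ b * b * s ∈ W) →
      a * a ∈ R → ⁅a, b⁆ ∈ W := by
    intro a b f g hf hg hfg hax haW hbW haq hbq haR
    have hfix : ∀ (c : Y), (∀ w ∈ W, c * w * c⁻¹ = w) → ∀ q, (q ∈ W ∨ q * s ∈ W) → c * q * c⁻¹ = q := by
      intro c hc q hq'
      rcases hq' with h | h
      · exact hc q h
      · have := hc _ h
        rw [show c * (q * s) * c⁻¹ = c * q * c⁻¹ * (c * s * c⁻¹) by group, hsY] at this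
        exact mul_right_cancel this
    set c := ⁅a, b⁆ with hcdef
    have hc : c ∈ R := hcR a b f g hf hg hfg
    have hcQ' : c ∈ Q₀ := hcQ a b hc haR
    have e1 : a * c * a⁻¹ * c = 1 := by
      rw [hcdef, commutatorElement_def,
        show a * (a * b * a⁻¹ * b⁻¹) * a⁻¹ * (a * b * a⁻¹ * b⁻¹) = (b * (a * a) * b⁻¹ * (a * a)⁻¹)⁻¹ by
          simp [mul_assoc],
        hfix b hbW _ haq, mul_inv_cancel, inv_one]
    have e2' : c * (b * c * b⁻¹) = 1 := by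
      rw [hcdef, commutatorElement_def,
        show a * b * a⁻¹ * b⁻¹ * (b * (a * b * a⁻¹ * b⁻¹) * b⁻¹) = a * (b * b) * a⁻¹ * (b * b)⁻¹ by group,
        hfix a haW _ hbq, mul_inv_cancel]
    have hclc : ∀ (y : Y) (k : C ≃+ C), (∀ n, co Φ (ψ y n) = k (co Φ n)) → y * c * y⁻¹ = c⁻¹ →
        k (cl c hcQ') = cl c hcQ' := by
      intro y k hk hy
      rw [← hclψ y k hk c hcQ']
      have h2 : cl (y * c * y⁻¹) (S.normN.conj_mem _ hcQ' y) + cl c hcQ' = 0 := by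
        rw [← hclmul _ (S.normN.conj_mem _ hcQ' y) c hcQ', hclF _ (mul_mem (S.normN.conj_mem _ hcQ' y) hcQ'), hy, inv_mul_cancel]; exact one_mem _
      revert h2
      generalize cl (y * c * y⁻¹) (S.normN.conj_mem _ hcQ' y) = v
      generalize cl c hcQ' = v'
      revert v v'; decide
    have hcl0 := hax _ (hclc a f hf (eq_inv_of_mul_eq_one_left e1))
      (hclc b g hg (eq_inv_of_mul_eq_one_right e2'))
    have hwc := hWs c hcQ' hcl0
    have hac := hfix a haW c hwc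
    rw [hac] at e1
    rcases hwc with h | h
    · exact h
    · exact ⟨⟨hc, e1⟩, hcQ', hcl0⟩
  have hWinv : ∀ w ∈ W, w⁻¹ ∈ W := fun w hw => inv_mem hw
  -- a lift with square in `W`, once commutators with it are small
  have hclW : ∀ (h : Y) (f : C ≃+ C), (∀ n, co Φ (ψ h n) = f (co Φ n)) → (∀ v, f v + v = 0 ∨ f v + v = e₀) →
      ∀ b ∈ Q₀, h * b * h⁻¹ * b⁻¹ ∈ W := by
    intro h f hf hf' b hb
    have hc := mul_mem (S.normN.conj_mem _ hb h) (inv_mem hb)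
    refine ⟨hnΩ h b (hQR hb), hc, ?_⟩
    rw [hclmul _ (S.normN.conj_mem _ hb h) _ (inv_mem hb), hclψ h f hf b hb]
    have : cl b⁻¹ (inv_mem hb) = cl b hb := by
      have h0 : cl b⁻¹ (inv_mem hb) + cl b hb = 0 := by
        rw [← hclmul _ (inv_mem hb) b hb, hclF _ (mul_mem (inv_mem hb) hb), inv_mul_cancel]; exact one_mem _
      revert h0
      generalize cl b⁻¹ (inv_mem hb) = v
      generalize cl b hb = v'
      revert v v'; decide
    rw [this]
    exact hf' _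
  have claim : ¬ (h₁ * h₁ ∈ W) → ∀ (a b c : Y) (f g k : C ≃+ C), (∀ n, co Φ (ψ a n) = f (co Φ n)) →
      (∀ n, co Φ (ψ b n) = g (co Φ n)) → (∀ n, co Φ (ψ c n) = k (co Φ n)) → (∀ v, f (g v) = g (f v)) →
      (∀ v, f (g v) = k v) → (∀ v, f v = v → g v = v → v = 0 ∨ v = e₀) → (∀ v, k v + v = 0 ∨ k v + v = e₀) →
      (∀ w ∈ W, a * w * a⁻¹ = w) → (∀ w ∈ W, b * w * b⁻¹ = w) →
      a * a * s ∈ W → b * b * s ∈ W → c * c * s ∈ W → a * a ∈ R → c * c ∈ R →
      c * r * c⁻¹ * r⁻¹ ∈ W := by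
    intro _ a b c f g k hf hg hk hfg hfgk hax hk' haW hbW haq hbq hcq haR hcR'
    have hc0 := hcW a b f g hf hg hfg hax haW hbW (Or.inr haq) (Or.inr hbq) haR
    set x := c⁻¹ * (a * b) with hx
    have hxR : x ∈ R := hkerR _ fun n => by
      apply k.injective
      rw [← hk, hx, map_mul, map_inv, MulAut.mul_apply, MulAut.inv_apply, MulEquiv.apply_symm_apply, map_mul,
        MulAut.mul_apply, hf, hg, hfgk]
    have haQ : a * a ∈ R := haR
    have hb2 : b * b ∈ R := by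
      have : b * b * s ∈ R := hWR hbq
      simpa [mul_assoc] using mul_mem this (inv_mem hsR)
    have e1 : c * x * (c * x) ∈ W := by
      rw [show c * x = a * b by rw [hx]; group,
        show a * b * (a * b) = ⁅a, b⁆ * ((b * (a * a) * b⁻¹) * (b * b)) by rw [commutatorElement_def]; group]
      have hba : b * (a * a) * b⁻¹ = a * a := by
        have := hbW _ haq
        rw [show b * (a * a * s) * b⁻¹ = b * (a * a) * b⁻¹ * (b * s * b⁻¹) by group, hsY] at this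
        exact mul_right_cancel this
      rw [hba]
      refine mul_mem hc0 ?_
      have e : a * a * (b * b) = a * a * s * (b * b * s) * (s * s) := by
        rw [show a * a * s * (b * b * s) * (s * s) = a * a * (s * (b * b)) * (s * (s * s)) by group,
          hsc _ hb2, show a * a * (b * b * s) * (s * (s * s)) = a * a * (b * b) * (s * s * (s * s)) by group,
          ← hmdef, hm2, mul_one]
      rw [e]
      exact mul_mem (mul_mem haq hbq) hmW
    rw [hsquare c x hcR' hxR] at e1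
    have e4 : c * x * c⁻¹ * x⁻¹ * (x * x) * s⁻¹ ∈ W := by
      have := mul_mem (inv_mem hcq) e1
      rwa [show (c * c * s)⁻¹ * (c * c * (c * x * c⁻¹ * x⁻¹) * (x * x)) =
        s⁻¹ * (c * x * c⁻¹ * x⁻¹ * (x * x)) by group,
        hRc _ (inv_mem hsR) _ (mul_mem (hnΩ c x hxR).1 (mul_mem hxR hxR))] at this
    have hxQ : x ∉ Q₀ := by
      intro h
      have hm' : c * x * c⁻¹ * x⁻¹ * (x * x) ∈ Ω :=
        mul_mem (hnΩ c x hxR) ⟨mul_mem hxR hxR, hM2 _ (hQsq x h)⟩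
      have hsΩ : s⁻¹ ∈ Ω := by
        have := mul_mem (inv_mem hm') (hWΩ e4)
        rwa [inv_mul_cancel_left] at this
      have := (inv_mem hsΩ : s⁻¹⁻¹ ∈ Ω)
      rw [inv_inv] at this
      exact hs1 this.2
    set d := x * r⁻¹ with hd
    have hdQ : d ∈ Q₀ := two_coset hQR hRcard hrR hrQ hxR hxQ
    -- the commutator with `x` has small class
    have hnx : c * x * c⁻¹ * x⁻¹ ∈ W := by
      refine ⟨hnΩ c x hxR, hΩQ (hnΩ c x hxR), ?_⟩
      obtain ⟨-, hQ', hcl'⟩ := e4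
      have hx2 : x * x * s⁻¹ ∈ F := mul_mem (hsqF x hxR) (inv_mem hsF)
      have hQ2 := hFQ hx2
      have : cl _ hQ' = cl _ (hΩQ (hnΩ c x hxR)) + cl _ hQ2 := by
        rw [← hclmul _ (hΩQ (hnΩ c x hxR)) _ hQ2]; congr 1; group
      rw [this, (hclF _ hQ2).mpr hx2, add_zero] at hcl'
      exact hcl'
    have hdr : c * x * c⁻¹ * x⁻¹ = c * d * c⁻¹ * d⁻¹ * (c * r * c⁻¹ * r⁻¹) := by
      rw [show c * x * c⁻¹ * x⁻¹ = c * d * c⁻¹ * ((c * r * c⁻¹ * r⁻¹) * d⁻¹) by rw [hd]; group,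
        hRc _ (hnΩ c r hrR).1 _ (inv_mem (hQR hdQ)), ← mul_assoc]
    have := mul_mem (inv_mem (hclW c k hk hk' d hdQ)) hnx
    rwa [hdr, inv_mul_cancel_left] at this
  -- the section of order thirty-two
  have main : ∃ x₁ ∈ R, ∃ x₂ ∈ R, h₁ * x₁ * (h₁ * x₁) ∈ W ∧ h₂ * x₂ * (h₂ * x₂) ∈ W ∧
      h₁ * x₂ * h₁⁻¹ * x₂⁻¹ ∈ W ∧ h₂ * x₁ * h₂⁻¹ * x₁⁻¹ ∈ W ∧
      ⁅h₁, h₂⁆ ∈ W := by
    have hq2 : (h₁ * h₁ ∈ W → h₂ * h₂ ∈ W) ∧ (h₁ * h₁ * s ∈ W → h₂ * h₂ * s ∈ W) := by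
      rw [e2]; exact hsame y₂ sw hy₂ fixes_e.2.2.2.2.1 _
    have hq3 : (h₁ * h₁ ∈ W → h₃ * h₃ ∈ W) ∧ (h₁ * h₁ * s ∈ W → h₃ * h₃ * s ∈ W) := by
      rw [e3]; exact hsame y₃ sh hy₃ fixes_e.2.2.2.2.2 _
    have c12 : ∀ v, ta (tb v) = tb (ta v) := by decide
    by_cases hgood : h₁ * h₁ ∈ W
    · refine ⟨1, one_mem _, 1, one_mem _, by simpa using hgood, by simpa using hq2.1 hgood, by simp, by simp, ?_⟩
      exact hcW h₁ h₂ ta tb m₁ m₂ c12 axes_meet.1 hfix1 hfix2 (Or.inl hgood) (Or.inl (hq2.1 hgood)) i₁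
    have hb1 : h₁ * h₁ * s ∈ W := hqW.resolve_left hgood
    have hb2 := hq2.2 hb1
    have hb3 := hq3.2 hb1
    have P1 : h₁ * r * h₁⁻¹ * r⁻¹ ∈ W := claim hgood h₂ h₃ h₁ tb tc ta m₂ m₃ m₁ (by decide)
      (fun v => (axes_meet.2.2.2.2.2.2 v).2.2.1) axes_meet.2.1 axes_meet.2.2.2.1 hfix2 hfix3 hb2 hb3 hb1 i₂ i₁
    have P2 : h₂ * r * h₂⁻¹ * r⁻¹ ∈ W := claim hgood h₃ h₁ h₂ tc ta tb m₃ m₁ m₂ (by decide)
      (fun v => (axes_meet.2.2.2.2.2.2 v).2.2.2.2.1) axes_meet.2.2.1 axes_meet.2.2.2.2.1 hfix3 hfix1 hb3 hb1 hb2 i₃ i₂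
    refine ⟨r, hrR, r, hrR, ?_, ?_, P1, P2, hcW h₁ h₂ ta tb m₁ m₂ c12 axes_meet.1 hfix1 hfix2 hqW (Or.inr hb2) i₁⟩
    · rw [hsquare _ _ i₁ hrR, ← hsdef, mul_assoc, hRc _ (hnΩ h₁ r hrR).1 s hsR, ← mul_assoc]
      exact mul_mem hb1 P1
    · rw [hsquare _ _ i₂ hrR, ← hsdef, mul_assoc, hRc _ (hnΩ h₂ r hrR).1 s hsR, ← mul_assoc]
      exact mul_mem hb2 P2
  obtain ⟨x₁, hx₁, x₂, hx₂, hG₁2, hG₂2, hP12, hP21, hc12⟩ := main
  set G₁ := h₁ * x₁ with hG₁
  set G₂ := h₂ * x₂ with hG₂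
  have hxW : ∀ x ∈ R, ∀ w ∈ W, x * w * x⁻¹ = w := fun x hx w hw => by
    rw [hRc x hx w (hWR hw), mul_inv_cancel_right]
  have hG₁W : ∀ w ∈ W, G₁ * w * G₁⁻¹ = w := fun w hw => by
    rw [hG₁, show h₁ * x₁ * w * (h₁ * x₁)⁻¹ = h₁ * (x₁ * w * x₁⁻¹) * h₁⁻¹ by group, hxW x₁ hx₁ w hw, hfix1 w hw]
  have hG₂W : ∀ w ∈ W, G₂ * w * G₂⁻¹ = w := fun w hw => by
    rw [hG₂, show h₂ * x₂ * w * (h₂ * x₂)⁻¹ = h₂ * (x₂ * w * x₂⁻¹) * h₂⁻¹ by group, hxW x₂ hx₂ w hw, hfix2 w hw]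
  have hGQ : ∀ (h x : Y) (f : C ≃+ C), (∀ n, co Φ (ψ h n) = f (co Φ n)) → (∀ v, f v + v = 0 ∨ f v + v = e₀) →
      x ∈ R → ∀ b ∈ Q₀, ⁅h * x, b⁆ ∈ W := by
    intro h x f hf hf' hx b hb
    rw [commutatorElement_def, show h * x * b * (h * x)⁻¹ * b⁻¹ = h * (x * b * x⁻¹) * h⁻¹ * b⁻¹ by group,
      hRc x hx b (hQR hb), mul_inv_cancel_right]
    exact hclW h f hf hf' b hb
  have hB₁ : ∀ b ∈ Q₀, ⁅G₁, b⁆ ∈ W := hGQ h₁ x₁ ta m₁ axes_meet.2.2.2.1 hx₁
  have hB₂ : ∀ b ∈ Q₀, ⁅G₂, b⁆ ∈ W := hGQ h₂ x₂ tb m₂ axes_meet.2.2.2.2.1 hx₂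
  have h12 : ⁅G₁, G₂⁆ ∈ W := by
    have e : ⁅G₁, G₂⁆ = h₁ * (h₂ * x₁ * h₂⁻¹ * x₁⁻¹)⁻¹ * h₁⁻¹ * ⁅h₁, h₂⁆ * (h₂ * (h₁ * x₂ * h₁⁻¹ * x₂⁻¹) * h₂⁻¹) := by
      have hx : x₁ * (h₂ * x₂) * x₁⁻¹ = x₁ * h₂ * x₁⁻¹ * x₂ := by
        rw [show x₁ * (h₂ * x₂) * x₁⁻¹ = x₁ * h₂ * (x₂ * x₁⁻¹) by group, hRc x₂ hx₂ _ (inv_mem hx₁), ← mul_assoc]
      rw [hG₁, hG₂, commutatorElement_def, commutatorElement_def,
        show h₁ * x₁ * (h₂ * x₂) * (h₁ * x₁)⁻¹ * (h₂ * x₂)⁻¹ =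
          h₁ * (x₁ * (h₂ * x₂) * x₁⁻¹) * h₁⁻¹ * (h₂ * x₂)⁻¹ by group, hx]
      group
    rw [e, hfix1 _ (inv_mem hP21), hfix2 _ hP12]
    exact mul_mem (mul_mem (inv_mem hP21) hc12) hP12
  have hflip : ∀ {a b : Y}, ⁅a, b⁆ ∈ W → ⁅b, a⁆ ∈ W := fun h => by rw [← commutatorElement_inv]; exact inv_mem h
  set T : Set Y := (Q₀ : Set Y) ∪ {G₁, G₂} with hT
  have hsect := sect_le hr π hπ T W (fun w hw => Subgroup.subset_closure (Or.inl (hΩQ (hWΩ hw))))
    (by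
      rintro a (ha | rfl | rfl) w hw
      · rw [hxW a (hQR ha) w hw]; exact hw
      · rw [hG₁W w hw]; exact hw
      · rw [hG₂W w hw]; exact hw)
    (by
      rintro a (ha | rfl | rfl)
      · rcases hMmem _ (hQsq a ha) with h | h <;> rw [h]
        · exact one_mem _
        · exact hmW
      · exact hG₁2
      · exact hG₂2)
    (by
      rintro a (ha | rfl | rfl) b (hb | rfl | rfl)
      · rw [commutatorElement_eq_one_iff_mul_comm.mpr (hQcomm a ha b hb)]; exact one_mem _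
      · exact hflip (hB₁ a ha)
      · exact hflip (hB₂ a ha)
      · exact hB₁ b hb
      · rw [commutatorElement_self]; exact one_mem _
      · exact h12
      · exact hB₂ b hb
      · exact hflip h12
      · rw [commutatorElement_self]; exact one_mem _)
  have hG₁s : G₁ ∈ Subgroup.closure T := Subgroup.subset_closure (Or.inr (Or.inl rfl))
  have hG₂s : G₂ ∈ Subgroup.closure T := Subgroup.subset_closure (Or.inr (Or.inr rfl))
  have hxψ : ∀ x ∈ R, ψ x = 1 := fun x hx => MonoidHom.mem_ker.mp (by rw [hψk]; exact hx)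
  have hcard' := card_join ψ Q₀ (Subgroup.closure T) (fun b hb => Subgroup.subset_closure (Or.inl hb))
    (fun b hb => MonoidHom.mem_ker.mpr (hxψ b (hQR hb)))
    (fun p : Fin 2 × Fin 2 => G₁ ^ p.1.val * G₂ ^ p.2.val)
    (fun p => mul_mem (pow_mem hG₁s _) (pow_mem hG₂s _))
    (by
      intro p p' h
      refine four_distinct (funext fun v => ?_)
      obtain ⟨n, rfl⟩ := co_surj Φ v
      have key : ∀ (G : Y) (f : C ≃+ C), (∀ n, co Φ (ψ G n) = f (co Φ n)) → ∀ (i : ℕ) n,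
          co Φ (ψ (G ^ i) n) = (fun w => f w)^[i] (co Φ n) := by
        intro G f hf i
        induction i with
        | zero => simp
        | succ i ih => intro n; rw [pow_succ', map_mul, MulAut.mul_apply, hf, ih, Function.iterate_succ_apply']
      have hA : ∀ n, co Φ (ψ G₁ n) = ta (co Φ n) := fun n => by
        rw [hG₁, map_mul, hxψ _ hx₁, mul_one]; exact m₁ n
      have hB : ∀ n, co Φ (ψ G₂ n) = tb (co Φ n) := fun n => by
        rw [hG₂, map_mul, hxψ _ hx₂, mul_one]; exact m₂ n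
      have h' := congrArg (fun f : MulAut N => co Φ (f n)) h
      simp only [Function.comp_apply, map_mul, MulAut.mul_apply, key _ _ hA, key _ _ hB] at h'
      exact h')
  rw [Nat.card_prod, Nat.card_fin] at hcard'
  omega

end CfsgLib.SectL32
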