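/-
The radical of a two-constrained group of sectional 2-rank four over `L₃(2)`.
-/
import Cfsg.Agent.Lib.SectL32.LayerTwo
import Cfsg.Agent.Lib.SectFour.Main106
import Cfsg.Agent.Lib.SLCard

set_option autoImplicit false
set_option linter.style.haveILetI false
set_option linter.unusedSectionVars false
set_option maxRecDepth 8000

namespace CfsgLib.SectL32

open Cfsg
open scoped commutatorElement

theorem card_psl_two_three {F : Type*} [Field F] [Fintype F] (h : Fintype.card F = 2) :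
    Nat.card (Matrix.ProjectiveSpecialLinearGroup (Fin 3) F) = 168 := by
  have h1 := SLCard.gcd_mul_card_PSL (F := F) (n := 3) (by norm_num)
  have h2 := SLCard.card_units_mul_card_SL (F := F) (n := 3) (by norm_num)
  rw [Matrix.card_GL_field, Fin.prod_univ_three, h] at h2
  rw [h] at h1
  norm_num at h1 h2
  omega

/-- A maximal normal subgroup above the lower term. -/
theorem exists_max_below {X : Type*} [Group X] [Finite X] (H : Subgroup X) [H.Normal]
    (hH : H ≤ pCore 2 X) (hne : H ≠ ⊥) :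
    ∃ M : Subgroup X, M.Normal ∧ SectFour.lower H ≤ M ∧ M < H ∧
      ∀ W : Subgroup X, W.Normal → M ≤ W → W < H → W = M := by
  classical
  haveI : Nonempty {M : Subgroup X // M.Normal ∧ SectFour.lower H ≤ M ∧ M < H} :=
    ⟨⟨SectFour.lower H, SectFour.lower_normal H, le_rfl, SectFour.lower_lt hH hne⟩⟩
  obtain ⟨⟨M, hMn, hlM, hMH⟩, hmax⟩ :=
    Finite.exists_max fun M : {M : Subgroup X // M.Normal ∧ SectFour.lower H ≤ M ∧ M < H} => Nat.card M.1
  refine ⟨M, hMn, hlM, hMH, fun W hW hMW hWH => ?_⟩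
  exact (Subgroup.eq_of_le_of_card_ge hMW (hmax ⟨W, hW, hlM.trans hMW, hWH⟩)).symm

variable {X L : Type*} [Group X] [Finite X] [Group L] [Finite L] [IsSimpleGroup L]

/-- The first layer, read in a quotient. -/
theorem frame (hr : SectionalPRankLE 2 4 X) (hc : IsPConstrained 2 X) (hO : oddCore X = ⊥) (hL : Nat.card L = 168)
    (φ : X →* L) (hφ : Function.Surjective φ) (hφk : φ.ker = pCore 2 X) (M : Subgroup X)
    (hlM : SectFour.lower (SectFour.fr X) ≤ M) (hMlt : M < SectFour.fr X)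
    (hmax : ∀ W : Subgroup X, W.Normal → M ≤ W → W < SectFour.fr X → W = M)
    {Y : Type*} [Group Y] [Finite Y] (q : X →* Y) (hq : Function.Surjective q) (hqk : q.ker = M) (φY : Y →* L)
    (hφY : φY.comp q = φ) :
    Nat.card ((SectFour.fr X).map q) = 2 ∧ (∀ a ∈ φY.ker, ∀ b ∈ φY.ker, a * b = b * a) ∧
      ∃ Q₀ : Subgroup Y, NatSec φY Q₀ ((SectFour.fr X).map q) ∧ Nat.card Q₀ = 16 ∧ Nat.card φY.ker = 32 ∧
        (∀ a ∈ Q₀, a * a = 1) ∧ ∀ a ∈ φY.ker, a ∉ Q₀ → a * a ≠ 1 := by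
  haveI := SectFour.fr_normal (X := X)
  haveI : ((SectFour.fr X).map q).Normal := Subgroup.Normal.map inferInstance _ hq
  have hker : ∀ y, y ∈ φY.ker ↔ ∃ x ∈ pCore 2 X, q x = y := by
    intro y
    obtain ⟨x, rfl⟩ := hq y
    rw [MonoidHom.mem_ker, ← MonoidHom.comp_apply, hφY, ← MonoidHom.mem_ker, hφk]
    refine ⟨fun h => ⟨x, h, rfl⟩, ?_⟩
    rintro ⟨x', hx', e⟩
    have : x'⁻¹ * x ∈ pCore 2 X := (hMlt.le.trans SectFour.fr_le) (by
      rw [← hqk, MonoidHom.mem_ker, map_mul, map_inv, e, inv_mul_cancel])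
    simpa using mul_mem hx' this
  have hφYs : Function.Surjective φY := fun l => by
    obtain ⟨x, rfl⟩ := hφ l
    exact ⟨q x, by rw [← hφY]; rfl⟩
  refine layer_one hr q hq hL φY hφYs ((SectFour.fr X).map q) ?_ ?_ ?_ ?_ ?_ ?_ ?_ ?_
  · rintro _ ⟨f, hf, rfl⟩
    exact (hker _).mpr ⟨f, SectFour.fr_le hf, rfl⟩
  · rintro _ ⟨f, hf, rfl⟩ a ha
    obtain ⟨x, hx, rfl⟩ := (hker a).mp ha
    have h : ⁅f, x⁆ ∈ M := hlM (Subgroup.mem_sup_left (Subgroup.commutator_mem_commutator hf hx))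
    rw [← hqk, MonoidHom.mem_ker, map_commutatorElement, commutatorElement_eq_one_iff_mul_comm] at h
    exact h
  · rintro _ ⟨f, hf, rfl⟩
    have h : f ^ 2 ∈ M := hlM (Subgroup.mem_sup_right (Subgroup.subset_closure ⟨f, hf, rfl⟩))
    rwa [← hqk, MonoidHom.mem_ker, map_pow, sq] at h
  · rw [Ne, Subgroup.map_eq_bot_iff, hqk]
    exact hMlt.not_ge
  · intro W hW hWle
    by_cases h : W.comap q < SectFour.fr X
    · have e := hmax _ inferInstance (hqk.ge.trans (Subgroup.ker_le_comap q W)) h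
      refine Or.inl ?_
      rw [← Subgroup.map_comap_eq_self_of_surjective hq W, e, Subgroup.map_eq_bot_iff, hqk]
    · refine Or.inr (le_antisymm hWle ?_)
      have hle : W.comap q ≤ SectFour.fr X := fun x hx => by
        obtain ⟨f, hf, e⟩ := hWle hx
        have : f⁻¹ * x ∈ SectFour.fr X := hMlt.le (by
          rw [← hqk, MonoidHom.mem_ker, map_mul, map_inv, e, inv_mul_cancel])
        simpa using mul_mem hf this
      rw [← eq_of_le_of_not_lt hle h]
      exact Subgroup.map_comap_le q W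
  · intro a ha
    obtain ⟨x, hx, rfl⟩ := (hker a).mp ha
    exact ⟨x ^ 2, SectFour.sq_mem_fr hx, by rw [map_pow, sq]⟩
  · refine (Subgroup.map_mono SectFour.fr_le_squares).trans ?_
    rw [MonoidHom.map_closure]
    refine Subgroup.closure_mono ?_
    rintro _ ⟨_, ⟨x, hx, rfl⟩, rfl⟩
    exact ⟨q x, (hker _).mpr ⟨x, hx, rfl⟩, by rw [map_pow, sq]⟩
  · intro y hy
    obtain ⟨x₀, rfl⟩ := hq y
    refine (hker _).mpr ⟨x₀, SectFour.trivial_mem hc hO fun x hx => ?_, rfl⟩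
    obtain ⟨f, hf, e⟩ := hy (q x) ((hker _).mpr ⟨x, hx, rfl⟩)
    have : f⁻¹ * (x₀ * x * x₀⁻¹ * x⁻¹) ∈ SectFour.fr X := hMlt.le (by
      rw [← hqk, MonoidHom.mem_ker, map_mul, map_inv, e, map_mul, map_mul, map_mul, map_inv, map_inv,
        inv_mul_cancel])
    simpa using mul_mem hf this

set_option maxHeartbeats 2000000 in
/-- The shape of the radical. -/
theorem radical (hr : SectionalPRankLE 2 4 X) (hc : IsPConstrained 2 X) (hO : oddCore X = ⊥) (hL : Nat.card L = 168)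
    (φ : X →* L) (hφ : Function.Surjective φ) (hφk : φ.ker = pCore 2 X) :
    (IsElementaryAbelian 2 (pCore 2 X) ∧ (Nat.card (pCore 2 X) = 8 ∨ Nat.card (pCore 2 X) = 16)) ∨
      Nonempty (pCore 2 X ≃* Multiplicative (ZMod 4) × (Fin 3 → Multiplicative (ZMod 2))) := by
  classical
  haveI := SectFour.fr_normal (X := X)
  by_cases hF : SectFour.fr X = ⊥
  · -- elementary abelian
    left
    have hsq : ∀ a ∈ pCore 2 X, a * a = 1 := fun a ha => by
      have := SectFour.sq_mem_fr ha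
      rwa [hF, Subgroup.mem_bot, sq] at this
    have hinv : ∀ a ∈ pCore 2 X, a⁻¹ = a := fun a ha => inv_eq_of_mul_eq_one_right (hsq a ha)
    have hcomm : ∀ a ∈ pCore 2 X, ∀ b ∈ pCore 2 X, a * b = b * a := fun a ha b hb => by
      rw [← hinv _ (mul_mem ha hb), mul_inv_rev, hinv a ha, hinv b hb]
    refine ⟨⟨⟨⟨fun a b => Subtype.ext (hcomm a a.2 b b.2)⟩⟩, fun a ha => by rw [sq]; exact hsq a ha⟩, ?_⟩
    let ψ : X →* MulAut (pCore 2 X) := MulAut.conjNormal
    have hψ : ψ.ker = φ.ker := by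
      rw [hφk]
      ext x
      refine ⟨fun h => SectFour.trivial_mem hc hO fun a ha => ?_, fun h => MonoidHom.mem_ker.mpr ?_⟩
      · have := congrArg Subtype.val (DFunLike.congr_fun (MonoidHom.mem_ker.mp h) (⟨a, ha⟩ : pCore 2 X))
        rw [MulAut.conjNormal_apply, MulAut.one_apply] at this
        rw [this, mul_inv_cancel]
        exact one_mem _
      · refine MulEquiv.ext fun a => Subtype.ext ?_
        rw [MulAut.conjNormal_apply, hcomm x h a a.2, mul_inv_cancel_right, MulAut.one_apply]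
    exact card_exp_two (fun a : pCore 2 X => Subtype.ext (hsq a a.2))
      (elem_le hr (MonoidHom.id X) Function.surjective_id _ hsq) (not_small hL φ hφ ψ hψ)
  right
  obtain ⟨M, hMn, hlM, hMlt, hmax⟩ := exists_max_below (SectFour.fr X) SectFour.fr_le hF
  by_cases hMne : M = ⊥
  swap
  · -- a second layer
    exfalso
    obtain ⟨hF2, hcomm1, Q₁, S₁, hQ₁, hR₁, hQ₁sq, hR₁sq⟩ := frame hr hc hO hL φ hφ hφk M hlM hMlt hmax
      (QuotientGroup.mk' M) (QuotientGroup.mk'_surjective M) (QuotientGroup.ker_mk' M)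
      (QuotientGroup.lift M φ ((hMlt.le.trans SectFour.fr_le).trans hφk.ge)) (MonoidHom.ext fun x => rfl)
    set φ₁ := QuotientGroup.lift M φ ((hMlt.le.trans SectFour.fr_le).trans hφk.ge) with hφ₁
    set q₁ := QuotientGroup.mk' M with hq₁def
    have hq₁ : Function.Surjective q₁ := QuotientGroup.mk'_surjective M
    have hq₁k : q₁.ker = M := QuotientGroup.ker_mk' M
    have hker₁ : φ₁.ker.comap q₁ = pCore 2 X := by
      rw [MonoidHom.comap_ker, show φ₁.comp q₁ = φ from MonoidHom.ext fun x => rfl, hφk]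
    haveI := S₁.normN
    set Q₀ := Q₁.comap q₁ with hQ₀def
    have hQ₀R : Q₀ ≤ pCore 2 X := (Subgroup.comap_mono S₁.leK).trans hker₁.le
    have hMQ₀ : M ≤ Q₀ := fun x hx => by
      show q₁ x ∈ Q₁
      rw [MonoidHom.mem_ker.mp (hq₁k.ge hx)]
      exact one_mem _
    have hfrQ₀ : SectFour.fr X ≤ Q₀ := fun x hx => S₁.le ⟨x, hx, rfl⟩
    have cQ₀ : Nat.card Q₀ = 16 * Nat.card M := by
      have := card_map_mul q₁ Q₀ (hq₁k.trans_le hMQ₀)
      rw [hq₁k, Subgroup.map_comap_eq_self_of_surjective hq₁, hQ₁] at this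
      exact this.symm
    have cR : Nat.card (pCore 2 X) = 32 * Nat.card M := by
      have := card_map_mul q₁ (pCore 2 X) (hq₁k.trans_le (hMlt.le.trans SectFour.fr_le))
      rw [hq₁k, ← hker₁, Subgroup.map_comap_eq_self_of_surjective hq₁, hR₁, hker₁] at this
      exact this.symm
    have cF : Nat.card (SectFour.fr X) = 2 * Nat.card M := by
      have := card_map_mul q₁ (SectFour.fr X) (hq₁k.trans_le hMlt.le)
      rw [hq₁k, hF2] at this
      exact this.symm
    -- the next term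
    obtain ⟨M', hM'n, hlM', hM'lt, hmax'⟩ := exists_max_below M (hMlt.le.trans SectFour.fr_le) hMne
    let q := QuotientGroup.mk' M'
    have hq : Function.Surjective q := QuotientGroup.mk'_surjective M'
    have hqk : q.ker = M' := QuotientGroup.ker_mk' M'
    have hM'R : M' ≤ pCore 2 X := hM'lt.le.trans (hMlt.le.trans SectFour.fr_le)
    let φ₂ := QuotientGroup.lift M' φ (hM'R.trans hφk.ge)
    have hφ₂ : Function.Surjective φ₂ := QuotientGroup.lift_surjective_of_surjective _ _ hφ _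
    have hker₂ : φ₂.ker = (pCore 2 X).map q := by
      rw [← hφk, show φ = φ₂.comp q from MonoidHom.ext fun x => rfl, ← MonoidHom.comap_ker,
        Subgroup.map_comap_eq_self_of_surjective hq]
    haveI : (M.map q).Normal := Subgroup.Normal.map inferInstance _ hq
    haveI : ((SectFour.fr X).map q).Normal := Subgroup.Normal.map inferInstance _ hq
    haveI : (Q₀.map q).Normal := Subgroup.Normal.map inferInstance _ hq
    have back : ∀ {H : Subgroup X}, M' ≤ H → ∀ x, q x ∈ H.map q → x ∈ H := by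
      intro H hH x ⟨h, hh, e⟩
      have : h⁻¹ * x ∈ H := hH (by rw [← hqk, MonoidHom.mem_ker, map_mul, map_inv, e, inv_mul_cancel])
      simpa using mul_mem hh this
    have cmap : ∀ H : Subgroup X, M' ≤ H → Nat.card (H.map q) * Nat.card M' = Nat.card H := fun H hH => by
      have := card_map_mul q H (hqk.trans_le hH)
      rwa [hqk] at this
    have cpos : 0 < Nat.card M' := Nat.card_pos
    have hcomX : ∀ k ∈ pCore 2 X, ∀ a ∈ pCore 2 X, k * a * k⁻¹ * a⁻¹ ∈ M := fun k hk a ha => by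
      rw [← hq₁k, MonoidHom.mem_ker]
      simp only [map_mul, map_inv]
      rw [hcomm1 _ (hker₁.ge hk) _ (hker₁.ge ha), mul_inv_cancel_right, mul_inv_cancel]
    have eF := cmap _ (hM'lt.le.trans hMlt.le)
    have eM := cmap _ hM'lt.le
    have eQ := cmap _ (hM'lt.le.trans hMQ₀)
    have eR := cmap _ hM'R
    have hFcard : Nat.card ((SectFour.fr X).map q) = 2 * Nat.card (M.map q) := by
      refine Nat.eq_of_mul_eq_mul_right cpos ?_
      rw [mul_assoc, eF, eM, cF]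
    have hRcard : Nat.card φ₂.ker = 2 * Nat.card (Q₀.map q) := by
      rw [hker₂]
      refine Nat.eq_of_mul_eq_mul_right cpos ?_
      rw [mul_assoc, eR, eQ, cR, cQ₀]; ring
    have hQcard : Nat.card (Q₀.map q) = 8 * Nat.card ((SectFour.fr X).map q) := by
      refine Nat.eq_of_mul_eq_mul_right cpos ?_
      rw [mul_assoc, eQ, eF, cQ₀, cF]; ring
    have hQsq : ∀ a ∈ Q₀, a * a ∈ M := fun a ha => by
      rw [← hq₁k, MonoidHom.mem_ker, map_mul]; exact hQ₁sq _ ha
    have S : NatSec φ₂ (Q₀.map q) ((SectFour.fr X).map q) := by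
      refine ⟨inferInstance, inferInstance, Subgroup.map_mono hfrQ₀, ?_, ?_, ?_, ?_, ?_⟩
      · rw [hker₂]; exact Subgroup.map_mono hQ₀R
      · intro _
        have := card_map_mul (QuotientGroup.mk' ((SectFour.fr X).map q)) (Q₀.map q)
          ((QuotientGroup.ker_mk' _).trans_le (Subgroup.map_mono hfrQ₀))
        rw [QuotientGroup.ker_mk', hQcard] at this
        exact Nat.eq_of_mul_eq_mul_right Nat.card_pos this
      · rintro _ ⟨a, ha, rfl⟩
        exact ⟨a * a, hMlt.le (hQsq a ha), map_mul q a a⟩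
      · rw [hker₂]
        rintro _ ⟨k, hk, rfl⟩ _ ⟨a, ha, rfl⟩
        refine ⟨k * a * k⁻¹ * a⁻¹, hMlt.le (hcomX k hk a (hQ₀R ha)), ?_⟩
        simp only [map_mul, map_inv]
      · obtain ⟨y, a, ha, hne⟩ := S₁.nontriv
        obtain ⟨x, rfl⟩ := hq₁ y
        obtain ⟨b, rfl⟩ := hq₁ a
        refine ⟨q x, q b, ⟨b, ha, rfl⟩, fun h => hne ?_⟩
        rw [← map_inv, ← map_inv, ← map_mul, ← map_mul, ← map_mul] at h ⊢
        exact ⟨_, back (hM'lt.le.trans hMlt.le) _ h, rfl⟩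
    refine layer_two hr q hq hL φ₂ hφ₂ (M.map q) ((SectFour.fr X).map q) (Q₀.map q) S (Subgroup.map_mono hMlt.le)
      hFcard hRcard ?_ ?_ ?_ ?_ ?_ ?_ ?_ ?_ ?_ ?_
    · rw [hker₂]
      rintro _ ⟨m, hm, rfl⟩ _ ⟨a, ha, rfl⟩
      have h : ⁅m, a⁆ ∈ M' := hlM' (Subgroup.mem_sup_left (Subgroup.commutator_mem_commutator hm ha))
      rw [← hqk, MonoidHom.mem_ker, map_commutatorElement, commutatorElement_eq_one_iff_mul_comm] at h
      exact h
    · rintro _ ⟨m, hm, rfl⟩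
      have h : m ^ 2 ∈ M' := hlM' (Subgroup.mem_sup_right (Subgroup.subset_closure ⟨m, hm, rfl⟩))
      rwa [← hqk, MonoidHom.mem_ker, map_pow, sq] at h
    · rw [Ne, Subgroup.map_eq_bot_iff, hqk]
      exact hM'lt.not_ge
    · intro W hW hWle
      by_cases h : W.comap q < M
      · have e := hmax' _ inferInstance (hqk.ge.trans (Subgroup.ker_le_comap q W)) h
        refine Or.inl ?_
        rw [← Subgroup.map_comap_eq_self_of_surjective hq W, e, Subgroup.map_eq_bot_iff, hqk]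
      · refine Or.inr (le_antisymm hWle ?_)
        have hle : W.comap q ≤ M := fun x hx => back hM'lt.le x (hWle hx)
        rw [← eq_of_le_of_not_lt hle h]
        exact Subgroup.map_comap_le q W
    · rintro _ ⟨a, ha, rfl⟩
      exact ⟨a * a, hQsq a ha, map_mul q a a⟩
    · rw [hker₂]
      rintro _ ⟨k, hk, rfl⟩ _ ⟨a, ha, rfl⟩
      refine ⟨k * a * k⁻¹ * a⁻¹, hcomX k hk a ha, ?_⟩
      simp only [map_mul, map_inv]
    · rw [hker₂]
      rintro _ ⟨a, ha, rfl⟩ hn h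
      rw [← map_mul] at h
      have h' := back hM'lt.le _ h
      rw [← hq₁k, MonoidHom.mem_ker, map_mul] at h'
      exact hR₁sq _ (hker₁.ge ha) (fun h'' => hn ⟨a, h'', rfl⟩) h'
    · rw [hker₂]
      rintro _ ⟨a, ha, rfl⟩
      exact ⟨a ^ 2, SectFour.sq_mem_fr ha, by rw [map_pow, sq]⟩
    · rw [hker₂]
      refine (Subgroup.map_mono SectFour.fr_le_squares).trans ?_
      rw [MonoidHom.map_closure]
      refine Subgroup.closure_mono ?_
      rintro _ ⟨_, ⟨x, hx, rfl⟩, rfl⟩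
      exact ⟨q x, ⟨x, hx, rfl⟩, by rw [map_pow, sq]⟩
    · rw [hker₂]
      intro y hy
      obtain ⟨x₀, rfl⟩ := hq y
      refine ⟨x₀, SectFour.trivial_mem hc hO fun x hx => ?_, rfl⟩
      refine back (hM'lt.le.trans hMlt.le) _ ?_
      simp only [map_mul, map_inv]
      exact hy (q x) ⟨x, hx, rfl⟩
  -- one layer of order two
  subst hMne
  obtain ⟨hF2, hcomm, Q₀, S, hQ₀, hR, hQsq, hRsq⟩ := frame hr hc hO hL φ hφ hφk ⊥ hlM hMlt hmax
    (MonoidHom.id X) Function.surjective_id MonoidHom.ker_id φ (MonoidHom.comp_id φ)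
  rw [Subgroup.map_id] at hF2 S
  rw [hφk] at hcomm hR hRsq
  obtain ⟨r, hr', hrQ⟩ : ∃ r ∈ pCore 2 X, r ∉ Q₀ := by
    by_contra h
    push_neg at h
    have := Subgroup.card_le_of_le (show pCore 2 X ≤ Q₀ from h)
    omega
  have hQR : Q₀ ≤ pCore 2 X := hφk ▸ S.leK
  have hsF : r * r ∈ SectFour.fr X := by rw [← sq]; exact SectFour.sq_mem_fr hr'
  have hs1 : r * r ≠ 1 := hRsq r hr' hrQ
  have hFmem : ∀ f ∈ SectFour.fr X, f = 1 ∨ f = r * r := by
    intro f hf
    obtain ⟨u, -, huniq⟩ := (Nat.card_eq_two_iff' (1 : SectFour.fr X)).mp hF2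
    by_cases h : f = 1
    · exact Or.inl h
    · exact Or.inr (congrArg Subtype.val ((huniq ⟨f, hf⟩ fun e => h (congrArg Subtype.val e)).trans
        (huniq ⟨r * r, hsF⟩ fun e => hs1 (congrArg Subtype.val e)).symm))
  haveI := S.normN
  obtain ⟨N, ψ, hN, hNexp, -, -, hmem, -⟩ := S.module hL hφ
  obtain ⟨Φ⟩ := exists_coord hN hNexp
  obtain ⟨n₁, hn₁⟩ := co_surj Φ (1, 0, 0)
  obtain ⟨n₂, hn₂⟩ := co_surj Φ (0, 1, 0)
  obtain ⟨n₃, hn₃⟩ := co_surj Φ (0, 0, 1)
  obtain ⟨e₁, he₁, ee₁⟩ := (hmem _).mp n₁.2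
  obtain ⟨e₂, he₂, ee₂⟩ := (hmem _).mp n₂.2
  obtain ⟨e₃, he₃, ee₃⟩ := (hmem _).mp n₃.2
  letI : CommGroup (pCore 2 X) := { (inferInstance : Group (pCore 2 X)) with
    mul_comm := fun a b => Subtype.ext (hcomm a a.2 b b.2) }
  have h4 : (zmultiplesHom (Additive (pCore 2 X)) (Additive.ofMul ⟨r, hr'⟩)) (4 : ℕ) = 0 := by
    rw [zmultiplesHom_apply, natCast_zsmul]
    apply Additive.toMul.injective
    rw [toMul_nsmul, toMul_ofMul, toMul_zero]
    refine Subtype.ext ?_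
    show r ^ 4 = 1
    rw [show r ^ 4 = r * r * (r * r) by simp [pow_succ, mul_assoc]]
    exact hQsq _ (S.le hsF)
  let g₀ : Multiplicative (ZMod 4) →* pCore 2 X :=
    AddMonoidHom.toMultiplicativeLeft (ZMod.lift 4 ⟨zmultiplesHom _ (Additive.ofMul ⟨r, hr'⟩), h4⟩)
  have hg₀ : g₀ (Multiplicative.ofAdd 1) = ⟨r, hr'⟩ := by
    show Additive.toMul (ZMod.lift 4 _ ((1 : ℤ) : ZMod 4)) = _
    rw [show ((1 : ℤ) : ZMod 4) = ((1 : ℤ) : ZMod 4) from rfl, ZMod.lift_coe, zmultiplesHom_apply, one_zsmul,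
      toMul_ofMul]
  have mk2 : ∀ e ∈ Q₀, ∃ g : Multiplicative (ZMod 2) →* pCore 2 X, ((g (Multiplicative.ofAdd 1) : pCore 2 X) : X) = e := by
    intro e he
    have h2 : (zmultiplesHom (Additive (pCore 2 X)) (Additive.ofMul ⟨e, hQR he⟩)) (2 : ℕ) = 0 := by
      rw [zmultiplesHom_apply, natCast_zsmul, two_nsmul]
      apply Additive.toMul.injective
      rw [toMul_add, toMul_ofMul, toMul_zero]
      exact Subtype.ext (hQsq e he)
    refine ⟨AddMonoidHom.toMultiplicativeLeft (ZMod.lift 2 ⟨zmultiplesHom _ (Additive.ofMul ⟨e, hQR he⟩), h2⟩), ?_⟩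
    show ((Additive.toMul (ZMod.lift 2 _ ((1 : ℤ) : ZMod 2)) : pCore 2 X) : X) = _
    rw [ZMod.lift_coe, zmultiplesHom_apply, one_zsmul, toMul_ofMul]
  obtain ⟨g₁, hg₁⟩ := mk2 e₁ he₁
  obtain ⟨g₂, hg₂⟩ := mk2 e₂ he₂
  obtain ⟨g₃, hg₃⟩ := mk2 e₃ he₃
  let G : Multiplicative (ZMod 4) × (Fin 3 → Multiplicative (ZMod 2)) →* pCore 2 X :=
    g₀.coprod ((g₁.comp (Pi.evalMonoidHom _ 0)) * (g₂.comp (Pi.evalMonoidHom _ 1)) * (g₃.comp (Pi.evalMonoidHom _ 2)))
  have hGr : ∀ x, ∀ hx : x ∈ pCore 2 X, x = r → (⟨x, hx⟩ : pCore 2 X) ∈ G.range := by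
    rintro x hx rfl
    exact ⟨(Multiplicative.ofAdd 1, 1), by
      show g₀ (Multiplicative.ofAdd 1) * (g₁ 1 * g₂ 1 * g₃ 1) = _
      rw [hg₀, map_one, map_one, map_one, mul_one, mul_one, mul_one]⟩
  have hG0 : ∀ a b c : Multiplicative (ZMod 2), g₁ a * g₂ b * g₃ c ∈ G.range := fun a b c =>
    ⟨(1, ![a, b, c]), by
      show g₀ 1 * (g₁ a * g₂ b * g₃ c) = _
      rw [map_one, one_mul]⟩
  have hGsurj : Function.Surjective G := by
    rw [← MonoidHom.range_eq_top, eq_top_iff]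
    have hQ : ∀ x, ∀ hx : x ∈ Q₀, (⟨x, hQR hx⟩ : pCore 2 X) ∈ G.range := by
      intro x hx
      have hxN := (hmem _).mpr ⟨x, hx, rfl⟩
      obtain ⟨i, j, l, hv⟩ : ∃ i j l : Fin 2, co Φ ⟨_, hxN⟩ =
          (i : ℕ) • ((1, 0, 0) : C) + ((j : ℕ) • (0, 1, 0) + (l : ℕ) • (0, 0, 1)) := by
        generalize co Φ ⟨_, hxN⟩ = v
        revert v; decide
      set w : pCore 2 X := g₁ (Multiplicative.ofAdd 1) ^ (i : ℕ) * g₂ (Multiplicative.ofAdd 1) ^ (j : ℕ) *
        g₃ (Multiplicative.ofAdd 1) ^ (l : ℕ) with hw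
      have hwG : w ∈ G.range := by
        have := hG0 (Multiplicative.ofAdd 1 ^ (i : ℕ)) (Multiplicative.ofAdd 1 ^ (j : ℕ))
          (Multiplicative.ofAdd 1 ^ (l : ℕ))
        rw [map_pow, map_pow, map_pow] at this
        exact this
      have hwX : (w : X) = e₁ ^ (i : ℕ) * e₂ ^ (j : ℕ) * e₃ ^ (l : ℕ) := by
        rw [hw, Subgroup.coe_mul, Subgroup.coe_mul, Subgroup.coe_pow, Subgroup.coe_pow, Subgroup.coe_pow, hg₁, hg₂, hg₃]
      have hwQ : (w : X) ∈ Q₀ := by
        rw [hwX]; exact mul_mem (mul_mem (pow_mem he₁ _) (pow_mem he₂ _)) (pow_mem he₃ _)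
      have hwN : QuotientGroup.mk' (SectFour.fr X) (w : X) ∈ N := (hmem _).mpr ⟨_, hwQ, rfl⟩
      have hsame : (⟨_, hwN⟩ : N) = ⟨_, hxN⟩ := by
        have e : (⟨_, hwN⟩ : N) = n₁ ^ (i : ℕ) * n₂ ^ (j : ℕ) * n₃ ^ (l : ℕ) := Subtype.ext (by
          show QuotientGroup.mk' (SectFour.fr X) (w : X) = _
          rw [hwX, map_mul, map_mul, map_pow, map_pow, map_pow, ee₁, ee₂, ee₃]
          rfl)
        have hcp : ∀ (n : N) (k : ℕ), co Φ (n ^ k) = k • co Φ n := fun n k => by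
          induction k with
          | zero => rw [pow_zero, co_one, zero_nsmul]
          | succ k ih => rw [pow_succ, co_mul, ih, succ_nsmul]
        refine co_inj Φ ?_
        rw [e, co_mul, co_mul, hcp, hcp, hcp, hn₁, hn₂, hn₃, hv, add_assoc]
      have hz := QuotientGroup.eq.mp (congrArg Subtype.val hsame)
      have hrr : (⟨r, hr'⟩ : pCore 2 X) ∈ G.range := hGr r hr' rfl
      rcases hFmem _ hz with h | h
      · rw [show (⟨x, hQR hx⟩ : pCore 2 X) = w from Subtype.ext (inv_mul_eq_one.mp h).symm]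
        exact hwG
      · rw [show (⟨x, hQR hx⟩ : pCore 2 X) = w * (⟨r, hr'⟩ * ⟨r, hr'⟩) from
          Subtype.ext (show x = (w : X) * (r * r) from inv_mul_eq_iff_eq_mul.mp h)]
        exact mul_mem hwG (mul_mem hrr hrr)
    rintro ⟨x, hx⟩ -
    by_cases hxQ : x ∈ Q₀
    · exact hQ x hxQ
    · have h := two_coset hQR (by rw [hR, hQ₀]) hr' hrQ hx hxQ
      rw [show (⟨x, hx⟩ : pCore 2 X) = ⟨x * r⁻¹, hQR h⟩ * ⟨r, hr'⟩ from
        Subtype.ext (inv_mul_cancel_right x r).symm]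
      exact mul_mem (hQ _ h) (hGr r hr' rfl)
  have hbij : Function.Bijective G := (Nat.bijective_iff_surjective_and_card G).mpr ⟨hGsurj, by
    rw [hR, Nat.card_prod, Nat.card_pi, Fin.prod_univ_three]
    simp only [Nat.card_congr Multiplicative.toAdd, Nat.card_zmod]
    norm_num⟩
  exact ⟨(MulEquiv.ofBijective G hbij).symm⟩

end CfsgLib.SectL32
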